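import Mathlib
import Cfsg.Agent.Zass.SelfCent
import Cfsg.Agent.Char.BurnsideClass

/-!
# Orders of centralizers in a simple group, part A: basic lemmas
-/

set_option autoImplicit false
set_option linter.style.haveILetI false

namespace Cfsg.Agent.H35.CR

open Cfsg.Agent.SC

universe u

variable {G : Type u} [Group G]

/-- the centralizer -/
abbrev cz (g : G) : Subgroup G := Subgroup.centralizer ({g} : Set G)

/-- the order of the centralizer -/
noncomputable def c (g : G) : ℕ := Nat.card (cz g)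

theorem mem_cz {g x : G} : x ∈ cz g ↔ x * g = g * x := Subgroup.mem_centralizer_singleton_iff

theorem mem_cz_symm {g x : G} (h : x ∈ cz g) : g ∈ cz x := mem_cz.2 (mem_cz.1 h).symm

theorem self_mem (g : G) : g ∈ cz g := mem_cz.2 rfl

theorem cz_le_pow (g : G) (k : ℕ) : cz g ≤ cz (g ^ k) := by
  intro x hx
  rw [mem_cz] at hx ⊢
  exact (show Commute x g from hx).pow_right k

theorem cz_le_of_mem_zpowers {g h : G} (hh : h ∈ Subgroup.zpowers g) : cz g ≤ cz h := by
  obtain ⟨k, rfl⟩ := Subgroup.mem_zpowers_iff.1 hh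
  intro x hx
  rw [mem_cz] at hx ⊢
  exact (show Commute x g from hx).zpow_right k

theorem cz_inv (g : G) : cz g⁻¹ = cz g := by
  ext x
  rw [mem_cz, mem_cz]
  exact (Commute.inv_right_iff (a := x) (b := g))

/-- commuting elements of coprime orders are powers of their product -/
theorem mem_zpowers_mul {x w : G} (hxw : x * w = w * x) (hcop : (orderOf x).Coprime (orderOf w)) :
    x ∈ Subgroup.zpowers (x * w) := by
  have hc : Commute x w := hxw
  obtain ⟨a, ha⟩ := Int.isCoprime_iff_gcd_eq_one.2 (show Int.gcd (orderOf x : ℤ) (orderOf w : ℤ) = 1 by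
    simpa [Int.gcd] using hcop)
  obtain ⟨b, hab⟩ := ha
  -- a * ox + b * ow = 1
  refine Subgroup.mem_zpowers_iff.2 ⟨b * orderOf w, ?_⟩
  rw [hc.mul_zpow]
  have h1 : w ^ (b * (orderOf w : ℤ)) = 1 := by
    rw [mul_comm, zpow_mul, zpow_natCast, pow_orderOf_eq_one, one_zpow]
  have h2 : x ^ (b * (orderOf w : ℤ)) = x := by
    have h3 : b * (orderOf w : ℤ) = 1 - a * orderOf x := by linarith
    rw [h3, zpow_sub, zpow_one, mul_comm a, zpow_mul, zpow_natCast, pow_orderOf_eq_one, one_zpow,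
      inv_one, mul_one]
  rw [h1, h2, mul_one]

theorem cz_mul_le {x w : G} (hxw : x * w = w * x) (hcop : (orderOf x).Coprime (orderOf w)) :
    cz (x * w) ≤ cz x := cz_le_of_mem_zpowers (mem_zpowers_mul hxw hcop)

theorem cz_mul_le' {x w : G} (hxw : x * w = w * x) (hcop : (orderOf x).Coprime (orderOf w)) :
    cz (x * w) ≤ cz w := by
  rw [hxw]
  exact cz_le_of_mem_zpowers (mem_zpowers_mul hxw.symm hcop.symm)

variable [Finite G]

theorem c_pos (g : G) : 0 < c g := Nat.card_pos

theorem c_dvd {x y : G} (h : cz x ≤ cz y) : c x ∣ c y := Subgroup.card_dvd_of_le h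

theorem cz_eq {x y : G} (h : cz x ≤ cz y) (hc : c x = c y) : cz x = cz y :=
  Subgroup.eq_of_le_of_card_ge h (le_of_eq hc.symm)

theorem c_conj (g x : G) : c (g * x * g⁻¹) = c x := by
  unfold c cz
  rw [conj_centralizer, Subgroup.card_map_of_injective (MulAut.conj g).injective]

theorem orderOf_conj (g x : G) : orderOf (g * x * g⁻¹) = orderOf x := by
  have := orderOf_injective (MulAut.conj g).toMonoidHom (MulAut.conj g).injective x
  simpa using this

/-- **Lemma 1**: minimal centralizers. -/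
theorem le_of_min {x : G} (hmin : ∀ g : G, g ≠ 1 → c g ∣ c x → c g = c x) (hx : x ≠ 1) {w : G} (hw : w ∈ cz x)
    (hcop : (orderOf x).Coprime (orderOf w)) : cz x ≤ cz w := by
  have hc : x * w = w * x := (mem_cz.1 hw).symm
  have h1 := cz_mul_le hc hcop
  have hne : x * w ≠ 1 := by
    intro h
    have h2 : w = x⁻¹ := (inv_eq_of_mul_eq_one_right h).symm
    rw [h2, orderOf_inv, Nat.coprime_self] at hcop
    exact hx (orderOf_eq_one_iff.1 hcop)
  have h2 := cz_eq h1 (hmin _ hne (c_dvd h1))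
  rw [← h2]
  exact cz_mul_le' hc hcop

/-- every nonidentity element has a power of prime order -/
theorem exists_prime_power {x : G} (hx : x ≠ 1) : ∃ (p : ℕ) (k : ℕ), p.Prime ∧ orderOf (x ^ k) = p := by
  have h1 : orderOf x ≠ 1 := fun h => hx (orderOf_eq_one_iff.1 h)
  obtain ⟨p, hp, hpx⟩ := Nat.exists_prime_and_dvd h1
  obtain ⟨k, hk⟩ := hpx
  have hk0 : k ≠ 0 := by
    rintro rfl
    rw [mul_zero] at hk
    exact (orderOf_pos x).ne' hk
  refine ⟨p, k, hp, ?_⟩
  rw [orderOf_pow, hk]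
  rw [Nat.gcd_eq_right (Dvd.intro_left p rfl), Nat.mul_div_cancel _ (Nat.pos_of_ne_zero hk0)]

theorem ne_one_of_prime {x : G} {p : ℕ} (hp : p.Prime) (hx : orderOf x = p) : x ≠ 1 := by
  rintro rfl
  rw [orderOf_one] at hx
  exact hp.one_lt.ne hx

/-- a Sylow subgroup centralizes an element of order `p` -/
theorem exists_full {p : ℕ} (hp : p.Prime) (hpG : p ∣ Nat.card G) :
    ∃ z : G, orderOf z = p ∧ ∀ k : ℕ, p ^ k ∣ Nat.card G → p ^ k ∣ c z := by
  haveI : Fact p.Prime := ⟨hp⟩
  let P : Sylow p G := default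
  have hPne : (P : Subgroup G) ≠ ⊥ := P.ne_bot_of_dvd_card hpG
  obtain ⟨z, hzP, hz, hzc⟩ := exists_center_order P.isPGroup' hPne
  refine ⟨z, hz, fun k hk => ?_⟩
  have h1 : (P : Subgroup G) ≤ cz z := fun x hx => mem_cz.2 (hzc x hx)
  exact (P.pow_dvd_card_of_pow_dvd_card hk).trans (Subgroup.card_dvd_of_le h1)

/-- every element of `G` of `p`-power order commutes with an element of order `p` whose centralizer contains a full
Sylow `p`-subgroup -/
theorem exists_full_comm {p : ℕ} (hp : p.Prime) {u : G} (hu1 : u ≠ 1) {k : ℕ} (hu : u ^ p ^ k = 1) :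
    ∃ (z : G) (P : Sylow p G), orderOf z = p ∧ u ∈ (P : Subgroup G) ∧ (P : Subgroup G) ≤ cz z ∧ z ∈ (P : Subgroup G) := by
  haveI : Fact p.Prime := ⟨hp⟩
  have h1 : IsPGroup p (Subgroup.zpowers u) := by
    rintro ⟨x, hx⟩
    obtain ⟨i, rfl⟩ := Subgroup.mem_zpowers_iff.1 hx
    refine ⟨k, ?_⟩
    apply Subtype.ext
    show (u ^ i) ^ p ^ k = 1
    rw [← zpow_natCast, ← zpow_mul, mul_comm, zpow_mul, zpow_natCast, hu, one_zpow]
  obtain ⟨P, hP⟩ := h1.exists_le_sylow
  have huP : u ∈ (P : Subgroup G) := hP (Subgroup.mem_zpowers u)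
  have hPne : (P : Subgroup G) ≠ ⊥ := by
    intro h
    rw [h, Subgroup.mem_bot] at huP
    exact hu1 huP
  obtain ⟨z, hzP, hz, hzc⟩ := exists_center_order P.isPGroup' hPne
  exact ⟨z, P, hz, huP, fun x hx => mem_cz.2 (hzc x hx), hzP⟩

section Simple

variable [IsSimpleGroup G] (hna : ¬ ∀ a b : G, a * b = b * a)

include hna

theorem not_central {z : G} (hz : z ≠ 1) : ¬ ∀ g : G, g ∈ cz z := by
  intro h
  apply hna
  have h1 : Subgroup.center G = ⊤ := by
    rcases (inferInstance : (Subgroup.center G).Normal).eq_bot_or_eq_top with h2 | h2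
    · exfalso
      apply hz
      have : z ∈ Subgroup.center G := Subgroup.mem_center_iff.mpr fun g => mem_cz.1 (h g)
      rwa [h2, Subgroup.mem_bot] at this
    · exact h2
  intro a b
  have : a ∈ Subgroup.center G := h1 ▸ Subgroup.mem_top a
  exact (Subgroup.mem_center_iff.mp this b).symm

theorem c_ne {z : G} (hz : z ≠ 1) : c z ≠ Nat.card G := by
  intro h
  apply not_central hna hz
  have : cz z = ⊤ := Subgroup.eq_top_of_card_eq _ h
  intro g
  rw [this]; trivial

/-- not all centralizer orders divide one of them -/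
theorem not_all_dvd {z : G} (hz : z ≠ 1) : ¬ ∀ g : G, g ≠ 1 → c g ∣ c z := by
  intro h
  apply c_ne hna hz
  apply Nat.dvd_antisymm (Subgroup.card_subgroup_dvd_card _)
  apply (Nat.dvd_iff_prime_pow_dvd_dvd _ _).2
  intro p k hp hk
  rcases Nat.eq_zero_or_pos k with h0 | h0
  · rw [h0, pow_zero]; exact one_dvd _
  · have hpG : p ∣ Nat.card G := (dvd_pow_self p h0.ne').trans hk
    obtain ⟨x, hx, hxk⟩ := exists_full hp hpG
    exact (hxk k hk).trans (h x (ne_one_of_prime hp hx))

theorem not_prime_power_index {z : G} (hz : z ≠ 1) {p k : ℕ} (hp : p.Prime) : (cz z).index ≠ p ^ k := by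
  intro h
  have h1 := Cfsg.Agent.Char.prime_card_of_simple_of_prime_power_class p k hp z hz h
  apply hna
  haveI : Fact (Nat.card G).Prime := ⟨h1⟩
  haveI : IsCyclic G := isCyclic_of_prime_card (p := Nat.card G) rfl
  intro a b
  exact (IsCyclic.commGroup (α := G)).mul_comm a b

end Simple

end Cfsg.Agent.H35.CR
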