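import Cfsg.Agent.H35.CRa
import Cfsg.Agent.H69.CoprimeIndex
import Cfsg.Agent.H72.ClassSize

/-!
# Orders of centralizers in a simple group, part B: self-centralizing subgroups, antichains, coprime class sizes
-/

set_option autoImplicit false
set_option linter.style.haveILetI false
set_option linter.unusedSectionVars false

namespace Cfsg.Agent.H35.CR

open Cfsg.Agent.SC

universe u

variable {G : Type u} [Group G] [Finite G]

/-- splitting an element into its `p`-part and `p'`-part -/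
theorem split (g : G) {p : ℕ} (hp : p.Prime) : ∃ x w : G, x ∈ Subgroup.zpowers g ∧ w ∈ Subgroup.zpowers g ∧ g = x * w ∧
    (∃ k : ℕ, x ^ p ^ k = 1) ∧ ¬ p ∣ orderOf w := by
  obtain ⟨e, m, hm, hem⟩ := Nat.exists_eq_pow_mul_and_not_dvd (orderOf_pos g).ne' p hp.ne_one
  have hcop : (p ^ e).Coprime m := Nat.Coprime.pow_left e ((Nat.Prime.coprime_iff_not_dvd hp).2 hm)
  obtain ⟨a, ha⟩ := Int.isCoprime_iff_gcd_eq_one.2 (show Int.gcd ((p ^ e : ℕ) : ℤ) (m : ℤ) = 1 by
    simpa [Int.gcd] using hcop)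
  obtain ⟨b, hab⟩ := ha
  have hord : (g ^ (orderOf g : ℤ)) = 1 := by rw [zpow_natCast, pow_orderOf_eq_one]
  refine ⟨g ^ (b * (m : ℤ)), g ^ (a * ((p ^ e : ℕ) : ℤ)), Subgroup.zpow_mem_zpowers _ _, Subgroup.zpow_mem_zpowers _ _, ?_, ⟨e, ?_⟩, ?_⟩
  · rw [← zpow_add, add_comm, hab, zpow_one]
  · rw [← zpow_natCast, ← zpow_mul]
    have : b * (m : ℤ) * ((p ^ e : ℕ) : ℤ) = (orderOf g : ℤ) * b := by rw [hem]; push_cast; ring
    rw [this, zpow_mul, hord, one_zpow]
  · intro hd
    apply hm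
    refine hd.trans (orderOf_dvd_of_pow_eq_one ?_)
    rw [← zpow_natCast, ← zpow_mul]
    have : a * ((p ^ e : ℕ) : ℤ) * (m : ℤ) = (orderOf g : ℤ) * a := by rw [hem]; push_cast; ring
    rw [this, zpow_mul, hord, one_zpow]

theorem orderOf_two_pow_coprime {u w : G} {k p : ℕ} (hp : p.Prime) (hu : u ^ p ^ k = 1) (hw : ¬ p ∣ orderOf w) :
    (orderOf u).Coprime (orderOf w) := by
  have h1 : orderOf u ∣ p ^ k := orderOf_dvd_of_pow_eq_one hu
  exact Nat.Coprime.coprime_dvd_left h1 (Nat.Coprime.pow_left k ((Nat.Prime.coprime_iff_not_dvd hp).2 hw))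

theorem selfCent_of {x w : G} {p q : ℕ} (hp : p.Prime) (hq : q.Prime) (hpq : p ≠ q) (hx : orderOf x = p)
    (hw : orderOf w = q) (hwx : w ∈ cz x) (hmin : ∀ g : G, g ≠ 1 → c g ∣ c x → c g = c x)
    (hmax : ∀ g : G, g ≠ 1 → c x ∣ c g → c g = c x) : SelfCent (cz x) := by
  have hx1 := ne_one_of_prime hp hx
  have hw1 := ne_one_of_prime hq hw
  have hle : cz x ≤ cz w := le_of_min hmin hx1 hwx (by
    rw [hx, hw]; exact (Nat.coprime_primes hp hq).2 hpq)
  have hcw : c w = c x := hmax w hw1 (c_dvd hle)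
  have heq : cz x = cz w := cz_eq hle hcw.symm
  have hminw : ∀ g : G, g ≠ 1 → c g ∣ c w → c g = c w := by
    intro g hg h; rw [hcw] at h ⊢; exact hmin g hg h
  have hle2 : ∀ g ∈ cz x, cz x ≤ cz g := by
    intro g hg
    obtain ⟨a, b, ha, hb, hgab, ⟨k, hk⟩, hbp⟩ := split g hp
    have ha' : a ∈ cz x := (Subgroup.zpowers_le.2 hg) ha
    have hb' : b ∈ cz x := (Subgroup.zpowers_le.2 hg) hb
    have h1 : cz x ≤ cz b := le_of_min hmin hx1 hb' (by
      rw [hx]; exact (Nat.Prime.coprime_iff_not_dvd hp).2 hbp)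
    have h2 : cz w ≤ cz a := by
      refine le_of_min hminw hw1 (heq ▸ ha') ?_
      rw [hw]
      have h3 : orderOf a ∣ p ^ k := orderOf_dvd_of_pow_eq_one hk
      exact Nat.Coprime.coprime_dvd_right h3 (Nat.Coprime.pow_right k ((Nat.coprime_primes hq hp).2 (Ne.symm hpq)))
    intro y hy
    have h3 := mem_cz.1 (h1 hy)
    have h4 := mem_cz.1 (h2 (heq ▸ hy))
    rw [mem_cz, hgab]
    exact (show Commute y a from h4).mul_right h3
  intro g hg hg1
  have h1 := hle2 g hg
  exact (cz_eq h1 (hmax g hg1 (c_dvd h1)).symm).symm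

theorem selfCent_two {a m : ℕ} (hall : ∀ x : G, x ≠ 1 → (∃ k : ℕ, x ^ 2 ^ k = 1) → c x = a) (ha : a = 2 ^ m) {z : G}
    (hz : orderOf z = 2) : SelfCent (cz z) := by
  have hz1 := ne_one_of_prime Nat.prime_two hz
  have hzz : z * z = 1 := by rw [← sq, ← hz, pow_orderOf_eq_one]
  have hcz : c z = 2 ^ m := by
    rw [hall z hz1 ⟨1, by rw [pow_one, ← hz, pow_orderOf_eq_one]⟩, ha]
  have htwo : ∀ g ∈ cz z, g ^ 2 ^ m = 1 := by
    intro g hg
    have h1 : orderOf g ∣ 2 ^ m := by rw [← hcz]; exact (cz z).orderOf_dvd_natCard hg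
    exact orderOf_dvd_iff_pow_eq_one.1 h1
  have hc : ∀ g ∈ cz z, g ≠ 1 → c g = a := fun g hg hg1 => hall g hg1 ⟨m, htwo g hg⟩
  have hcza : c z = a := hcz.trans ha.symm
  -- elements with a different centralizer have square one
  have key : ∀ x ∈ cz z, cz x ≠ cz z → x * x = 1 := by
    intro x hx hne
    by_contra hxx
    have hx1 : x ≠ 1 := by rintro rfl; exact hxx (one_mul 1)
    have hxz := mem_cz.1 hx
    have h1 : cz x ≤ cz (x * x) := by rw [← sq]; exact cz_le_pow x 2
    have h2 := cz_eq h1 ((hc x hx hx1).trans (hc _ ((cz z).mul_mem hx hx) hxx).symm)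
    have hz_mem : z ∈ cz z := self_mem z
    have hxz1 : x * z ≠ 1 := by
      intro h
      apply hne
      have : x = z := by
        rw [← mul_one x, ← hzz, ← mul_assoc, h, one_mul]
      rw [this]
    have h3 : (x * z) * (x * z) = x * x := by
      calc (x * z) * (x * z) = x * (z * x) * z := by group
        _ = x * (x * z) * z := by rw [hxz]
        _ = x * x * (z * z) := by group
        _ = x * x := by rw [hzz, mul_one]
    have h4 : cz (x * z) ≤ cz (x * x) := by rw [← h3, ← sq]; exact cz_le_pow _ 2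
    have hm : x * z ∈ cz z := (cz z).mul_mem hx hz_mem
    have h5 := cz_eq h4 ((hc _ hm hxz1).trans (hc _ ((cz z).mul_mem hx hx) hxx).symm)
    apply hne
    apply cz_eq
    · intro h hh
      have h6 := mem_cz.1 hh
      have h7 := mem_cz.1 (show h ∈ cz (x * z) by rw [h5, ← h2]; exact hh)
      rw [mem_cz]
      have h8 : x * (h * z) = x * (z * h) := by
        calc x * (h * z) = (x * h) * z := by group
          _ = (h * x) * z := by rw [h6]
          _ = h * (x * z) := by group
          _ = (x * z) * h := h7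
          _ = x * (z * h) := by group
      exact mul_left_cancel h8
    · rw [hc x hx hx1, hcza]
  intro y hy hy1
  by_contra hne
  have hyy := key y hy hne
  -- all elements of `cz z` have square one
  have hall2 : ∀ x ∈ cz z, x * x = 1 := by
    intro x hx
    by_cases hxz : cz x = cz z
    · have hyx : y * x = x * y := mem_cz.1 (by rw [hxz]; exact hy)
      have h1 : cz (x * y) ≠ cz z := by
        intro h
        apply hne
        refine (cz_eq ?_ (hcza.trans (hc y hy hy1).symm)).symm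
        intro h' hh'
        have h6 := mem_cz.1 (show h' ∈ cz x by rw [hxz]; exact hh')
        have h7 := mem_cz.1 (show h' ∈ cz (x * y) by rw [h]; exact hh')
        rw [mem_cz]
        have h8 : x * (h' * y) = x * (y * h') := by
          calc x * (h' * y) = (x * h') * y := by group
            _ = (h' * x) * y := by rw [h6]
            _ = h' * (x * y) := by group
            _ = (x * y) * h' := h7
            _ = x * (y * h') := by group
        exact mul_left_cancel h8
      have h2 := key (x * y) ((cz z).mul_mem hx hy) h1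
      have h3 : (x * y) * (x * y) = (x * x) * (y * y) := by
        calc (x * y) * (x * y) = x * (y * x) * y := by group
          _ = x * (x * y) * y := by rw [hyx]
          _ = _ := by group
      rw [h3, hyy, mul_one] at h2
      exact h2
    · exact key x hx hxz
  apply hne
  refine (cz_eq ?_ (hcza.trans (hc y hy hy1).symm)).symm
  intro x hx
  rw [mem_cz]
  have h1 := hall2 _ ((cz z).mul_mem hx hy)
  have h2 := hall2 x hx
  calc x * y = (x * y)⁻¹ := (inv_eq_of_mul_eq_one_left h1).symm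
    _ = y⁻¹ * x⁻¹ := mul_inv_rev _ _
    _ = y * x := by rw [inv_eq_of_mul_eq_one_left h2, inv_eq_of_mul_eq_one_left hyy]

/-- all the `2`-elements have the same centralizer order if centralizer orders form an antichain -/
theorem anti_two (hanti : ∀ g h : G, g ≠ 1 → h ≠ 1 → c g ∣ c h → c g = c h) {P : Sylow 2 G} {z u : G}
    (hz : orderOf z = 2) (hP : (P : Subgroup G) ≤ cz z) (huP : u ∈ (P : Subgroup G)) (hu1 : u ≠ 1) : c u = c z := by
  haveI : Fact (Nat.Prime 2) := ⟨Nat.prime_two⟩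
  have hz1 := ne_one_of_prime Nat.prime_two hz
  apply hanti u z hu1 hz1
  apply (Nat.dvd_iff_prime_pow_dvd_dvd _ _).2
  intro r k hr hk
  by_cases hr2 : r = 2
  · subst hr2
    have h1 : 2 ^ k ∣ Nat.card G := hk.trans (Subgroup.card_subgroup_dvd_card _)
    exact (P.pow_dvd_card_of_pow_dvd_card h1).trans (Subgroup.card_dvd_of_le hP)
  · haveI : Fact r.Prime := ⟨hr⟩
    obtain ⟨R, hR⟩ := Sylow.exists_subgroup_card_pow_prime r hk
    have h1 : (R.map (cz u).subtype) ≤ cz z := by
      rintro _ ⟨w, hw, rfl⟩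
      have h2 : orderOf (w : G) ∣ r ^ k := by
        rw [← hR, Subgroup.orderOf_coe]
        exact R.orderOf_dvd_natCard hw
      obtain ⟨e, he⟩ := (IsPGroup.iff_orderOf.1 P.isPGroup') ⟨u, huP⟩
      have he' : orderOf u = 2 ^ e := by rw [← he, ← Subgroup.orderOf_coe]
      have h3 : cz u ≤ cz (w : G) := by
        refine le_of_min (fun g hg h => hanti g u hg hu1 h) hu1 w.2 ?_
        rw [he']
        exact Nat.Coprime.coprime_dvd_right h2 (Nat.Coprime.pow e k ((Nat.coprime_primes Nat.prime_two hr).2 (Ne.symm hr2)))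
      exact mem_cz_symm (h3 (mem_cz_symm (hP huP)))
    have h4 : Nat.card (R.map (cz u).subtype) = r ^ k := by
      rw [← hR]
      exact (Subgroup.card_map_of_injective (cz u).subtype_injective)
    rw [← h4]
    exact Subgroup.card_dvd_of_le h1

theorem anti (hanti : ∀ g h : G, g ≠ 1 → h ≠ 1 → c g ∣ c h → c g = c h) (t : G) (ht : orderOf t = 2) :
    SelfCent (cz t) := by
  classical
  haveI : Fact (Nat.Prime 2) := ⟨Nat.prime_two⟩
  have ht1 := ne_one_of_prime Nat.prime_two ht
  -- all 2-elements have the same order of centralizer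
  obtain ⟨z, P, hz, htP, hPz, hzP⟩ := exists_full_comm Nat.prime_two ht1 (k := 1) (by
    rw [pow_one, ← ht, pow_orderOf_eq_one])
  have hall : ∀ x : G, x ≠ 1 → (∃ k : ℕ, x ^ 2 ^ k = 1) → c x = c z := by
    rintro x hx1 ⟨k, hk⟩
    obtain ⟨z', P', hz', hxP', hPz', hzP'⟩ := exists_full_comm Nat.prime_two hx1 hk
    obtain ⟨g, hg⟩ := MulAction.exists_smul_eq G P' P
    have h1 : g * x * g⁻¹ ∈ (P : Subgroup G) := by
      rw [← hg]
      exact Subgroup.smul_mem_pointwise_smul x (MulAut.conj g) _ hxP'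
    rw [← anti_two hanti hz hPz h1 (conj_ne_one hx1), c_conj]
  have hct : c t = c z := hall t ht1 ⟨1, by rw [pow_one, ← ht, pow_orderOf_eq_one]⟩
  by_cases hodd : ∃ q : ℕ, q.Prime ∧ q ≠ 2 ∧ q ∣ c t
  · obtain ⟨q, hq, hq2, hqc⟩ := hodd
    haveI : Fact q.Prime := ⟨hq⟩
    obtain ⟨w, hw⟩ := exists_prime_orderOf_dvd_card' (G := cz t) q hqc
    refine selfCent_of Nat.prime_two hq (Ne.symm hq2) ht (w := (w : G)) ?_ w.2 ?_ ?_
    · rw [Subgroup.orderOf_coe, hw]
    · exact fun g hg h => hanti g t hg ht1 h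
    · exact fun g hg h => (hanti t g ht1 hg h).symm
  · push Not at hodd
    have h1 : c t = 2 ^ (c t).primeFactorsList.length := by
      apply Nat.eq_prime_pow_of_unique_prime_dvd (c_pos t).ne'
      intro q hq hqc
      by_contra h2
      exact hodd q hq h2 hqc
    exact selfCent_two (a := c z) hall (hct ▸ h1) ht

/-- **Bertram--Herzog--Mann**: coprime class sizes in a simple group. -/
theorem bhm [IsSimpleGroup G] {x y : G} (hx1 : x ≠ 1) (hyc : ¬ ∀ g : G, g ∈ cz y)
    (hcop : (cz x).index.Coprime (cz y).index) (hcop2 : (cz (x * y)).index.Coprime (cz y).index) : False := by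
  classical
  -- products with conjugates
  have hmul : ∀ u v : G, (cz u).index.Coprime (cz v).index → ∀ g h : G, IsConj (u * v) ((g * u * g⁻¹) * (h * v * h⁻¹)) := by
    intro u v huv g h
    obtain ⟨a, ha, b, hb, hab⟩ := Cfsg.Agent.H72.exists_mul_of_coprime_index huv (g⁻¹ * h)
    refine isConj_iff.2 ⟨g * a, ?_⟩
    have h1 : a * u * a⁻¹ = u := by rw [mem_cz.1 ha]; group
    have h2 : b * v * b⁻¹ = v := by rw [mem_cz.1 hb]; group
    have h3 : h = g * a * b := by
      rw [mul_assoc, ← hab]; group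
    calc g * a * (u * v) * (g * a)⁻¹ = g * (a * u * a⁻¹) * (a * v * a⁻¹) * g⁻¹ := by group
      _ = g * u * (a * v * a⁻¹) * g⁻¹ := by rw [h1]
      _ = g * u * (a * (b * v * b⁻¹) * a⁻¹) * g⁻¹ := by rw [h2]
      _ = (g * u * g⁻¹) * (h * v * h⁻¹) := by rw [h3]; group
  -- `K L L⁻¹ ⊆ K`
  have hstep : ∀ g h k : G, IsConj x ((g * x * g⁻¹) * ((h * y * h⁻¹) * (k * y * k⁻¹)⁻¹)) := by
    intro g h k
    have h1 := hmul x y hcop g h
    obtain ⟨l, hl⟩ := isConj_iff.1 h1
    have hcop3 : (cz (x * y)).index.Coprime (cz y⁻¹).index := by rw [cz_inv]; exact hcop2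
    have h2 := hmul (x * y) y⁻¹ hcop3 l k
    rw [hl, mul_inv_cancel_right] at h2
    have h3 : (g * x * g⁻¹) * (h * y * h⁻¹) * (k * y⁻¹ * k⁻¹) =
        (g * x * g⁻¹) * ((h * y * h⁻¹) * (k * y * k⁻¹)⁻¹) := by group
    rwa [h3] at h2
  -- the subgroup of right stabilizers
  let N : Subgroup G := 
    { carrier := {n | ∀ g : G, IsConj x g → IsConj x (g * n) ∧ IsConj x (g * n⁻¹)}
      mul_mem' := by
        intro a b ha hb g hg
        refine ⟨?_, ?_⟩
        · rw [← mul_assoc]; exact (hb _ (ha g hg).1).1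
        · rw [mul_inv_rev, ← mul_assoc]; exact (ha _ (hb g hg).2).2
      one_mem' := by intro g hg; simpa using hg
      inv_mem' := by
        intro a ha g hg
        refine ⟨(ha g hg).2, ?_⟩
        rw [inv_inv]; exact (ha g hg).1 }
  have hN : N.Normal := by
    refine ⟨fun n hn k g hg => ?_⟩
    have h1 : IsConj x (k⁻¹ * g * k) := by
      refine hg.trans (isConj_iff.2 ⟨k⁻¹, by group⟩)
    obtain ⟨h2, h3⟩ := hn _ h1
    constructor
    · refine h2.trans (isConj_iff.2 ⟨k, by group⟩)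
    · refine h3.trans (isConj_iff.2 ⟨k, by group⟩)
  have hmem : ∀ h k : G, (h * y * h⁻¹) * (k * y * k⁻¹)⁻¹ ∈ N := by
    intro h k g hg
    obtain ⟨l, rfl⟩ := isConj_iff.1 hg
    refine ⟨hstep l h k, ?_⟩
    have h1 := hstep l k h
    have h2 : (k * y * k⁻¹) * (h * y * h⁻¹)⁻¹ = ((h * y * h⁻¹) * (k * y * k⁻¹)⁻¹)⁻¹ := by group
    rwa [h2] at h1
  rcases hN.eq_bot_or_eq_top with h | h
  · apply hyc
    intro g
    have h1 := hmem g 1
    rw [h, Subgroup.mem_bot] at h1
    rw [mem_cz]
    have h2 : g * y * g⁻¹ = y := by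
      rw [mul_inv_eq_one] at h1
      rw [h1]; group
    rw [mul_inv_eq_iff_eq_mul] at h2
    exact h2
  · have h1 : x⁻¹ ∈ N := h ▸ Subgroup.mem_top _
    have h2 := (h1 x (IsConj.refl x)).1
    rw [mul_inv_cancel] at h2
    obtain ⟨l, hl⟩ := isConj_iff.1 h2
    apply hx1
    have : x = l⁻¹ * (l * x * l⁻¹) * l := by group
    rw [this, hl]; group

end Cfsg.Agent.H35.CR
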