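import Cfsg.Agent.H35.KegelB

/-!
# Simple groups with an abelian self-centralizing subgroup complemented by a centralizer, part C
-/

set_option autoImplicit false
set_option linter.style.haveILetI false
set_option linter.unusedSectionVars false
set_option linter.unusedSimpArgs false

namespace Cfsg.Agent.H35.Kg

open scoped ComplexConjugate
open Cfsg Cfsg.Agent.Char Cfsg.Agent.CharBase Cfsg.Agent.SC Module

universe u v

variable {G : Type u} [Group G] [Fintype G]

theorem sum_sub (H : Subgroup G) [Fintype H] (F : G → ℂ) [DecidablePred (· ∈ H)] :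
    ∑ x : H, F x = ∑ g : G, if g ∈ H then F g else 0 := by
  have h := sum_extendByZero_mul H (fun _ => (1 : ℂ)) F
  simp only [one_mul] at h
  rw [← h]
  refine Finset.sum_congr rfl fun g _ => ?_
  split_ifs with hg
  · rw [extendByZero_of_mem H _ hg, one_mul]
  · rw [extendByZero_of_notMem H _ hg, zero_mul]

variable {A : Subgroup G}

/-- transfer of inner products from `A` to its normaliser -/
theorem inner_norm [Fintype A] (N : Subgroup G) [Fintype N] (hAN : A ≤ N) [DecidablePred (· ∈ A)] (φ ψ : G → ℂ) :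
    classInner (fun x : N => if (x : G) ∈ A then φ x else 0) (fun x : N => ψ x) =
      (Nat.card A : ℂ) / (Nat.card N : ℂ) * classInner (fun a : A => φ a) (fun a : A => ψ a) := by
  classical
  unfold classInner
  have h1 : ∑ g : N, (if (g : G) ∈ A then φ g else 0) * conj (ψ g) = ∑ a : A, φ a * conj (ψ a) := by
    rw [sum_sub N (fun g => (if g ∈ A then φ g else 0) * conj (ψ g)), sum_sub A (fun g => φ g * conj (ψ g))]
    refine Finset.sum_congr rfl fun g _ => ?_
    by_cases hg : g ∈ A
    · rw [if_pos (hAN hg), if_pos hg, if_pos hg]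
    · rw [if_neg hg, if_neg hg, zero_mul, ite_self]
  rw [h1]
  have hA0 : (Nat.card A : ℂ) ≠ 0 := by exact_mod_cast Nat.card_pos.ne'
  have hN0 : (Nat.card N : ℂ) ≠ 0 := by exact_mod_cast Nat.card_pos.ne'
  field_simp

/-- the number of cosets -/
noncomputable def ww (A : Subgroup G) : ℕ := A.relIndex (Subgroup.normalizer (A : Set G))

theorem card_N (A : Subgroup G) : Nat.card (Subgroup.normalizer (A : Set G)) = Nat.card A * ww A := by
  unfold ww
  have h1 := (A.subgroupOf (Subgroup.normalizer (A : Set G))).card_mul_index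
  rw [← h1]
  congr 1
  exact Nat.card_congr (Subgroup.subgroupOfEquivOfLe Subgroup.le_normalizer).toEquiv

theorem ww_pos (A : Subgroup G) : 0 < ww A := by
  have h := card_N A
  have h1 : 0 < Nat.card (Subgroup.normalizer (A : Set G)) := Nat.card_pos
  rw [h] at h1
  exact Nat.pos_of_mul_pos_left h1

section DivW

/-- the action of the normaliser on the nonidentity elements of `A` -/
@[instance_reducible]
noncomputable def act (A : Subgroup G) : MulAction (Subgroup.normalizer (A : Set G)) {a : G // a ∈ A ∧ a ≠ 1} where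
  smul n a := ⟨n * a * n⁻¹, (Subgroup.mem_normalizer_iff.1 n.2 a).1 a.2.1, conj_ne_one a.2.2⟩
  one_smul a := by
    apply Subtype.ext
    show ((1 : Subgroup.normalizer (A : Set G)) : G) * a * ((1 : Subgroup.normalizer (A : Set G)) : G)⁻¹ = a
    simp
  mul_smul n n' a := by
    apply Subtype.ext
    show ((n * n' : Subgroup.normalizer (A : Set G)) : G) * a * ((n * n' : Subgroup.normalizer (A : Set G)) : G)⁻¹
      = n * (n' * a * n'⁻¹) * n⁻¹
    push_cast
    group

theorem act_stab (hA : SelfCent A) (a : {a : G // a ∈ A ∧ a ≠ 1}) :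
    @MulAction.stabilizer _ _ _ (act A) a = A.subgroupOf (Subgroup.normalizer (A : Set G)) := by
  letI := act A
  ext n
  rw [MulAction.mem_stabilizer_iff, Subgroup.mem_subgroupOf]
  have h1 : n • a = a ↔ (n : G) * a * (n : G)⁻¹ = a := by
    constructor
    · intro h; exact congrArg Subtype.val h
    · intro h; exact Subtype.ext h
  rw [h1, mul_inv_eq_iff_eq_mul, ← Subgroup.mem_centralizer_singleton_iff, hA _ a.2.1 a.2.2]

theorem sum_A_ne [DecidableEq G] [Fintype A] [Fintype {a : G // a ∈ A ∧ a ≠ 1}] (f : G → ℂ) :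
    ∑ a : A, f a = f 1 + ∑ a : {a : G // a ∈ A ∧ a ≠ 1}, f a := by
  classical
  rw [← Finset.add_sum_erase _ _ (Finset.mem_univ (1 : A)), OneMemClass.coe_one]
  congr 1
  refine Finset.sum_bij' (fun (a : A) (ha : a ∈ Finset.univ.erase 1) => (⟨a, a.2, fun h =>
    (Finset.mem_erase.1 ha).1 (Subtype.ext h)⟩ : {a : G // a ∈ A ∧ a ≠ 1}))
    (fun (a : {a : G // a ∈ A ∧ a ≠ 1}) _ => (⟨a, a.2.1⟩ : A)) ?_ ?_ ?_ ?_ ?_
  · intro a _; exact Finset.mem_univ _
  · intro a _
    refine Finset.mem_erase.2 ⟨?_, Finset.mem_univ _⟩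
    intro h
    exact a.2.2 (congrArg Subtype.val h)
  · intro a _; rfl
  · intro a _; rfl
  · intro a _; rfl

/-- the class sum over `A` minus the value at `1` is `w` times an algebraic integer -/
theorem sum_A [Fintype A] (hA : SelfCent A) {f : G → ℂ} (hf : IsClassFunction G f) (hi : ∀ g, IsIntegral ℤ (f g)) :
    ∃ z, IsIntegral ℤ z ∧ ∑ a : A, f a = f 1 + (ww A : ℂ) * z := by
  classical
  letI := act A
  haveI : Fintype {a : G // a ∈ A ∧ a ≠ 1} := Fintype.ofFinite _
  obtain ⟨z, hz, h⟩ := sum_inv (A.subgroupOf (Subgroup.normalizer (A : Set G))) (act_stab hA)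
    (fun a => f a) (fun n a => hf a n) (fun a => hi a)
  refine ⟨z, hz, ?_⟩
  rw [sum_A_ne, h]
  rfl

theorem ww_dvd_card_sub [Fintype A] (hA : SelfCent A) : ww A ∣ Nat.card A - 1 := by
  obtain ⟨z, hz, h⟩ := sum_A hA (f := fun _ => (1 : ℂ)) (fun _ _ => rfl) (fun _ => isIntegral_one)
  rw [Finset.sum_const, Finset.card_univ, nsmul_eq_mul, mul_one, ← Nat.card_eq_fintype_card] at h
  have hpos : 1 ≤ Nat.card A := Nat.card_pos
  have hw0 : (ww A : ℂ) ≠ 0 := by exact_mod_cast (ww_pos A).ne'
  apply dvd_of_isIntegral_div (ww_pos A).ne'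
  have h2 : ((Nat.card A - 1 : ℕ) : ℂ) / (ww A : ℂ) = z := by
    push_cast [hpos]
    rw [div_eq_iff hw0]
    linear_combination h
  rw [h2]; exact hz

theorem ww_dvd_deg [Fintype A] (hA : SelfCent A) (χ : IrrCharacter G) {d : ℕ} (hd : (χ : G → ℂ) 1 = d)
    (h0 : ∑ a : A, (χ : G → ℂ) a = 0) : ww A ∣ d := by
  obtain ⟨z, hz, h⟩ := sum_A hA (irr_isClassFunction χ) (irr_isIntegral χ)
  rw [h0, hd] at h
  have hw0 : (ww A : ℂ) ≠ 0 := by exact_mod_cast (ww_pos A).ne'
  apply dvd_of_isIntegral_div (ww_pos A).ne'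
  have h2 : (d : ℂ) / (ww A : ℂ) = -z := by
    rw [div_eq_iff hw0]
    linear_combination -h
  rw [h2]; exact hz.neg

end DivW

section Key

variable [Fintype A]

/-- two constituents, orthonormality on `A`: both have degree `w` -/
theorem deg_eq (hA : SelfCent A) {χ ψ : IrrCharacter G} (hne : χ ≠ ψ) {f g : ℕ} (hf : (χ : G → ℂ) 1 = f)
    (hg : (ψ : G → ℂ) 1 = g)
    (h1 : classInner (fun a : A => (χ : G → ℂ) a) (fun a : A => (χ : G → ℂ) a) = f)
    (h2 : classInner (fun a : A => (ψ : G → ℂ) a) (fun a : A => (ψ : G → ℂ) a) = g)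
    (h3 : classInner (fun a : A => (χ : G → ℂ) a) (fun a : A => (ψ : G → ℂ) a) = 0)
    (hwf : ww A ∣ f) (hwg : ww A ∣ g) : f = ww A := by
  classical
  set N : Subgroup G := Subgroup.normalizer (A : Set G) with hN
  haveI : Fintype N := Fintype.ofFinite N
  have hAN : A ≤ N := Subgroup.le_normalizer
  have hf0 : 0 < f := by
    rcases Nat.eq_zero_or_pos f with h | h
    · exfalso; apply irr_one_ne_zero χ.2; rw [hf, h]; norm_num
    · exact h
  have hg0 : 0 < g := by
    rcases Nat.eq_zero_or_pos g with h | h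
    · exfalso; apply irr_one_ne_zero ψ.2; rw [hg, h]; norm_num
    · exact h
  have hw0 := ww_pos A
  have h3' : classInner (fun a : A => (ψ : G → ℂ) a) (fun a : A => (χ : G → ℂ) a) = 0 := by
    rw [← Cfsg.Agent.CharBase.classInner_conj_symm, h3, map_zero]
  set φ : G → ℂ := (g : ℂ) • (χ : G → ℂ) - (f : ℂ) • (ψ : G → ℂ) with hφ
  set θ : N → ℂ := fun x => if (x : G) ∈ A then φ x else 0 with hθ
  have hφcf : IsClassFunction G φ := isClassFunction_sub (isClassFunction_smul _ (irr_isClassFunction χ))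
    (isClassFunction_smul _ (irr_isClassFunction ψ))
  have hθcf : IsClassFunction N θ := by
    intro x y
    simp only [hθ]
    have e1 : ((y * x * y⁻¹ : N) : G) = (y : G) * x * (y : G)⁻¹ := rfl
    have e2 : ((y : G) * x * (y : G)⁻¹ ∈ A) ↔ (x : G) ∈ A := (Subgroup.mem_normalizer_iff.1 y.2 x).symm
    rw [e1, hφcf]
    simp only [e2]
  have hθ1 : θ 1 = 0 := by
    simp only [hθ]
    rw [OneMemClass.coe_one, if_pos A.one_mem, hφ]
    simp only [Pi.sub_apply, Pi.smul_apply, smul_eq_mul, hf, hg]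
    ring
  have hTI : ∀ g : G, g ∉ N → ∀ t ∈ (A : Set G), g * t * g⁻¹ ∈ (A : Set G) → t = 1 := by
    intro g hg t ht hgt
    exact Cfsg.Agent.H78.eq_one_of_conj_mem A (fun x hx hx1 => hA x hx hx1) g hg t ht hgt
  have hsupp : ∀ x : N, (x : G) ∉ (A : Set G) → θ x = 0 := by
    intro x hx
    simp only [hθ]
    rw [if_neg]
    exact hx
  have hiso := Cfsg.Agent.H78.classInner_indFun_of_TI hTI hθcf hsupp hsupp hθ1
  have hcardN : (Nat.card A : ℂ) / (Nat.card N : ℂ) = 1 / (ww A : ℂ) := by
    rw [hN, card_N A]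
    have hA0 : (Nat.card A : ℂ) ≠ 0 := by exact_mod_cast Nat.card_pos.ne'
    have hw1 : (ww A : ℂ) ≠ 0 := by exact_mod_cast hw0.ne'
    push_cast
    field_simp
  have hresφ : (fun a : A => φ a) = (g : ℂ) • (fun a : A => (χ : G → ℂ) a) - (f : ℂ) • (fun a : A => (ψ : G → ℂ) a) := by
    funext a; rfl
  -- the norm
  have hθθ : classInner θ θ = ((((f : ℝ) * g * (f + g)) / ww A : ℝ) : ℂ) := by
    have e1 : classInner θ θ = classInner θ (fun x : N => φ x) := by
      unfold classInner
      congr 1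
      refine Finset.sum_congr rfl fun x _ => ?_
      simp only [hθ]
      split_ifs with h
      · rfl
      · simp
    rw [e1, hθ, inner_norm N hAN φ φ, hcardN, hresφ]
    simp only [Cfsg.Agent.CharBase.classInner_sub_left, Cfsg.Agent.CharBase.classInner_sub_right,
      Cfsg.Agent.CharBase.classInner_smul_left, Cfsg.Agent.CharBase.classInner_smul_right, h1, h2, h3, h3',
      Complex.conj_natCast]
    push_cast
    ring
  have hχθ : classInner (indFun N θ) (χ : G → ℂ) = ((((f : ℝ) * g) / ww A : ℝ) : ℂ) := by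
    rw [frobenius_reciprocity N θ _ (irr_isClassFunction χ), hθ, inner_norm N hAN φ (χ : G → ℂ), hcardN, hresφ]
    simp only [Cfsg.Agent.CharBase.classInner_sub_left,
      Cfsg.Agent.CharBase.classInner_smul_left, h1, h2, h3, h3']
    push_cast
    ring
  have hψθ : classInner (indFun N θ) (ψ : G → ℂ) = -((((f : ℝ) * g) / ww A : ℝ) : ℂ) := by
    rw [frobenius_reciprocity N θ _ (irr_isClassFunction ψ), hθ, inner_norm N hAN φ (ψ : G → ℂ), hcardN, hresφ]
    simp only [Cfsg.Agent.CharBase.classInner_sub_left,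
      Cfsg.Agent.CharBase.classInner_smul_left, h1, h2, h3, h3']
    push_cast
    ring
  have hb := bessel_two (classInner_irr_self χ) (classInner_irr_self ψ) (classInner_irr_of_ne hne) hχθ hψθ
    (hiso.trans hθθ)
  have hwR : (0 : ℝ) < ww A := by exact_mod_cast hw0
  have hfR : (0 : ℝ) < f := by exact_mod_cast hf0
  have hgR : (0 : ℝ) < g := by exact_mod_cast hg0
  have h5 : 2 * (f : ℝ) * g ≤ ww A * (f + g) := by
    have h6 : 2 * ((f : ℝ) * g / ww A) ^ 2 * (ww A) ^ 2 ≤ (f : ℝ) * g * (f + g) / ww A * (ww A) ^ 2 :=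
      mul_le_mul_of_nonneg_right hb (by positivity)
    have h7 : 2 * ((f : ℝ) * g / ww A) ^ 2 * (ww A) ^ 2 = (f * g) * (2 * f * g) := by
      field_simp
    have h8 : (f : ℝ) * g * (f + g) / ww A * (ww A) ^ 2 = (f * g) * (ww A * (f + g)) := by
      field_simp
    rw [h7, h8] at h6
    exact le_of_mul_le_mul_left h6 (by positivity)
  have h5' : 2 * f * g ≤ ww A * (f + g) := by exact_mod_cast h5
  obtain ⟨l, hl⟩ := hwf
  obtain ⟨k, hk⟩ := hwg
  have hl0 : 0 < l := by
    rcases Nat.eq_zero_or_pos l with h | h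
    · rw [h, mul_zero] at hl; omega
    · exact h
  have hk0 : 0 < k := by
    rcases Nat.eq_zero_or_pos k with h | h
    · rw [h, mul_zero] at hk; omega
    · exact h
  have h9 : 2 * (l * k) ≤ l + k := by
    have e1 : 2 * f * g = (ww A * ww A) * (2 * (l * k)) := by rw [hl, hk]; ring
    have e2 : ww A * (f + g) = (ww A * ww A) * (l + k) := by rw [hl, hk]; ring
    rw [e1, e2] at h5'
    exact Nat.le_of_mul_le_mul_left h5' (Nat.mul_pos hw0 hw0)
  have hl1 : l = 1 := by
    nlinarith [Nat.mul_le_mul hl0 (Nat.le_refl k), Nat.mul_le_mul (Nat.le_refl l) hk0]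
  rw [hl, hl1, mul_one]

end Key

/-- **Kegel type lemma**: `G` simple, `A` abelian self-centralizing, `y` with `|C(y)||A| = |G|` and coprime orders:
`y` commutes with no other conjugate. -/
theorem isolated [IsSimpleGroup G] (hna : ¬ ∀ a b : G, a * b = b * a) (hA : SelfCent A) {y : G} (hy1 : y ≠ 1)
    (hAB : Nat.card A * Nat.card (Subgroup.centralizer ({y} : Set G)) = Nat.card G)
    (hcop : (Nat.card A).Coprime (Nat.card (Subgroup.centralizer ({y} : Set G)))) (x : G)
    (hx : x⁻¹ * y * x ∈ Subgroup.centralizer ({y} : Set G)) : x ∈ Subgroup.centralizer ({y} : Set G) := by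
  classical
  set B := Subgroup.centralizer ({y} : Set G) with hB
  haveI : Fintype A := Fintype.ofFinite A
  haveI := Fintype.ofFinite (IrrCharacter G)
  obtain ⟨m, hm, hsum⟩ := exists_mult_of_isCharacter (pic_isCharacter B)
  have hm1 := mult_oneIrr hm
  have hA1 : 1 ≤ Nat.card A := Nat.card_pos
  have hidx : B.index = Nat.card A := by
    have h1 := B.card_mul_index
    apply Nat.eq_of_mul_eq_mul_left (Nat.card_pos : 0 < Nat.card B)
    rw [h1, ← hAB, mul_comm]
  -- every nonprincipal constituent vanishes at `y`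
  have hvan : ∀ χ : IrrCharacter G, χ ≠ oneIrr G → 1 ≤ m χ → (χ : G → ℂ) y = 0 := by
    intro χ hχ hmχ
    obtain ⟨f, hf⟩ := exists_nat_degree (irr_isCharacter χ)
    refine irr_vanish hna χ hχ hf hy1 ?_
    rw [← hB, hidx]
    have hdvd : ∀ θ : IrrCharacter G, θ ≠ oneIrr G → 1 ≤ m θ → ∀ d : ℕ, (θ : G → ℂ) 1 = d → ww A ∣ d := by
      intro θ hθ hmθ d hd
      refine ww_dvd_deg hA θ hd ?_
      have h1 := orth hA hAB hcop hm hmθ (le_of_eq hm1.symm) hθ
      unfold classInner at h1
      have hA0 : (Nat.card A : ℂ) ≠ 0 := by exact_mod_cast Nat.card_pos.ne'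
      rcases mul_eq_zero.1 h1 with h2 | h2
      · exact absurd h2 (inv_ne_zero hA0)
      · simpa using h2
    by_cases hother : ∃ ψ : IrrCharacter G, ψ ≠ oneIrr G ∧ ψ ≠ χ ∧ 1 ≤ m ψ
    · obtain ⟨ψ, hψ1, hψχ, hmψ⟩ := hother
      obtain ⟨g, hg⟩ := exists_nat_degree (irr_isCharacter ψ)
      have hfw : f = ww A := deg_eq hA (Ne.symm hψχ) hf hg
        ((norm_self hA hAB hcop hm hmχ).trans hf) ((norm_self hA hAB hcop hm hmψ).trans hg)
        (orth hA hAB hcop hm hmχ hmψ (Ne.symm hψχ)) (hdvd χ hχ hmχ f hf) (hdvd ψ hψ1 hmψ g hg)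
      rw [hfw]
      obtain ⟨k, hk⟩ := ww_dvd_card_sub hA
      have h2 : Nat.card A = k * ww A + 1 := by rw [mul_comm]; omega
      rw [h2]
      rw [Nat.coprime_mul_right_add_right]
      exact Nat.coprime_one_right _
    · push Not at hother
      have h1 : pic B 1 = 1 + (f : ℂ) := by
        rw [hsum, Finset.sum_apply, ← Finset.add_sum_erase _ _ (Finset.mem_univ (oneIrr G)),
          Finset.sum_eq_single χ]
        · rw [Pi.smul_apply, Pi.smul_apply, hm1, hf, one_smul, oneIrr_apply]
          have h3 : m χ = 1 := le_antisymm (mult_le_one hA hAB hcop hm χ) hmχ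
          rw [h3, one_smul]
        · intro θ hθ hθχ
          have h3 : m θ = 0 := by
            by_contra hcon
            have := hother θ (Finset.mem_erase.1 hθ).1 hθχ
            omega
          rw [Pi.smul_apply, h3, zero_smul]
        · intro h
          exact absurd (Finset.mem_erase.2 ⟨hχ, Finset.mem_univ _⟩) h
      rw [pic_one hAB] at h1
      have h2 : Nat.card A = 1 + f := by exact_mod_cast h1
      rw [h2, Nat.coprime_comm]
      rw [Nat.coprime_add_self_left]
      exact Nat.coprime_one_left _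
  have hval : pic B y = 1 := by
    rw [hsum, Finset.sum_apply, ← Finset.add_sum_erase _ _ (Finset.mem_univ (oneIrr G)), Finset.sum_eq_zero]
    · rw [Pi.smul_apply, hm1, one_smul, oneIrr_apply, add_zero]
    · intro θ hθ
      rw [Pi.smul_apply]
      rcases Nat.eq_zero_or_pos (m θ) with h | h
      · rw [h, zero_smul]
      · rw [hvan θ (Finset.mem_erase.1 hθ).1 h, smul_zero]
  -- count
  unfold pic indFun at hval
  have hB0 : (Nat.card B : ℂ) ≠ 0 := by exact_mod_cast Nat.card_pos.ne'
  have h1 : ∑ x : G, extendByZero B (fun _ => (1 : ℂ)) (x⁻¹ * y * x) = Nat.card B := by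
    rw [inv_mul_eq_iff_eq_mul₀ hB0, mul_one] at hval
    exact hval
  have h2 : ∀ x : G, extendByZero B (fun _ => (1 : ℂ)) (x⁻¹ * y * x) = if x⁻¹ * y * x ∈ B then 1 else 0 := by
    intro x
    split_ifs with h
    · rw [extendByZero_of_mem B _ h]
    · rw [extendByZero_of_notMem B _ h]
  simp only [h2] at h1
  rw [Finset.sum_boole] at h1
  have h3 : (Finset.univ.filter (fun x : G => x⁻¹ * y * x ∈ B)).card = Nat.card B := by exact_mod_cast h1
  have h4 : Finset.univ.filter (fun x : G => x ∈ B) ⊆ Finset.univ.filter (fun x : G => x⁻¹ * y * x ∈ B) := by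
    intro x hx
    have hxB := (Finset.mem_filter.1 hx).2
    refine Finset.mem_filter.2 ⟨Finset.mem_univ _, ?_⟩
    have h5 : x⁻¹ * y * x = y := by
      rw [hB, Subgroup.mem_centralizer_singleton_iff] at hxB
      rw [mul_assoc, ← hxB, ← mul_assoc, inv_mul_cancel, one_mul]
    rw [h5, hB, Subgroup.mem_centralizer_singleton_iff]
  have h5 : (Finset.univ.filter (fun x : G => x ∈ B)).card = Nat.card B := by
    rw [Nat.card_eq_fintype_card, Fintype.card_subtype]
  have h6 := Finset.eq_of_subset_of_card_le h4 (by rw [h3, h5])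
  have h7 : x ∈ Finset.univ.filter (fun x : G => x⁻¹ * y * x ∈ B) := Finset.mem_filter.2 ⟨Finset.mem_univ _, hx⟩
  rw [← h6] at h7
  exact (Finset.mem_filter.1 h7).2

end Cfsg.Agent.H35.Kg
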