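import Cfsg.Agent.H35.CRb
import Cfsg.Agent.H35.KegelC
import Cfsg.Agent.H68.SimpleTwo

/-!
# Orders of centralizers in a simple group, part C: the non-antichain case
-/

set_option autoImplicit false
set_option linter.style.haveILetI false
set_option linter.unusedSectionVars false

namespace Cfsg.Agent.H35.CR

open Cfsg.Agent.SC

universe u

variable {G : Type u} [Group G] [Finite G]

theorem not_dvd_index {x : G} {p : ℕ} (hp : p.Prime) (h : ∀ k : ℕ, p ^ k ∣ Nat.card G → p ^ k ∣ c x) :
    ¬ p ∣ (cz x).index := by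
  intro hd
  obtain ⟨k, m, hm, hk⟩ := Nat.exists_eq_pow_mul_and_not_dvd (Nat.card_pos (α := G)).ne' p hp.ne_one
  obtain ⟨r, hr⟩ := h k ⟨m, hk⟩
  have h1 := (cz x).card_mul_index
  have h2 : p ^ k * (r * (cz x).index) = p ^ k * m := by
    rw [← hk, ← h1]
    show _ = c x * _
    rw [hr, mul_assoc]
  have h3 := Nat.eq_of_mul_eq_mul_left (pow_pos hp.pos k) h2
  exact hm (h3 ▸ (hd.mul_left r))

theorem cop_index {x y : G} (h : ∀ g : G, g ≠ 1 → c g ∣ c x ∨ c g ∣ c y) :
    (cz x).index.Coprime (cz y).index := by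
  by_contra hcon
  obtain ⟨p, hp, hpx, hpy⟩ := Nat.Prime.not_coprime_iff_dvd.1 hcon
  have hpG : p ∣ Nat.card G := hpx.trans (cz x).index_dvd_card
  obtain ⟨z, hz, hzk⟩ := exists_full hp hpG
  rcases h z (ne_one_of_prime hp hz) with h1 | h1
  · exact not_dvd_index hp (fun k hk => (hzk k hk).trans h1) hpx
  · exact not_dvd_index hp (fun k hk => (hzk k hk).trans h1) hpy

theorem index_eq {x y : G} (h : c x = c y) : (cz x).index = (cz y).index := by
  have h1 := (cz x).card_mul_index
  have h2 := (cz y).card_mul_index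
  apply Nat.eq_of_mul_eq_mul_left (c_pos x)
  show Nat.card (cz x) * _ = Nat.card (cz x) * _
  rw [h1]
  rw [show Nat.card (cz x) = Nat.card (cz y) from h, h2]

theorem index_dvd {x y : G} (h : c x ∣ c y) : (cz y).index ∣ (cz x).index := by
  obtain ⟨k, hk⟩ := h
  have h1 := (cz x).card_mul_index
  have h2 := (cz y).card_mul_index
  refine ⟨k, ?_⟩
  apply Nat.eq_of_mul_eq_mul_left (c_pos x)
  calc c x * (cz x).index = Nat.card G := h1
    _ = c y * (cz y).index := h2.symm
    _ = c x * ((cz y).index * k) := by rw [hk]; ring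

section Simple

variable [IsSimpleGroup G] (hna : ¬ ∀ a b : G, a * b = b * a)

include hna

/-- the case `n₁ ∣ n₂`, `n₁ ∣ n₃` -/
theorem case_a {n1 n2 n3 : ℕ} (h12 : n1 ≠ n2) (h13 : n1 ≠ n3) (h23 : n2 ≠ n3)
    (hall : ∀ g : G, g ≠ 1 → c g = n1 ∨ c g = n2 ∨ c g = n3) {x2 x3 : G} (hx2 : x2 ≠ 1) (hx3 : x3 ≠ 1)
    (hc2 : c x2 = n2) (hc3 : c x3 = n3) (hd2 : n1 ∣ n2) (hd3 : n1 ∣ n3) : False := by
  classical
  have hcop : ∀ x y : G, x ≠ 1 → y ≠ 1 → c x = n2 → c y = n3 → (cz x).index.Coprime (cz y).index := by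
    intro x y _ _ hx hy
    apply cop_index
    intro g hg
    rcases hall g hg with h | h | h
    · left; rw [h, hx]; exact hd2
    · left; rw [h, hx]
    · right; rw [h, hy]
  have hcomm : ∀ x y : G, x ≠ 1 → y ≠ 1 → c x = n2 → c y = n3 → x ∈ cz y := by
    intro x y hx1 hy1 hx hy
    have hco := hcop x y hx1 hy1 hx hy
    have hxy1 : x * y ≠ 1 := by
      intro h
      have h1 : y = x⁻¹ := (inv_eq_of_mul_eq_one_right h).symm
      have h2 : c y = c x := by unfold c; rw [h1, cz_inv]
      rw [hx, hy] at h2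
      exact h23 h2.symm
    have hxyc : c (x * y) = n1 := by
      rcases hall _ hxy1 with h | h | h
      · exact h
      · exfalso
        refine bhm hx1 (not_central hna hy1) hco ?_
        rw [index_eq (h.trans hx.symm)]; exact hco
      · exfalso
        have h2 : c (y * x) = n3 := by
          rw [← h, ← c_conj y (x * y)]
          congr 1; group
        refine bhm hy1 (not_central hna hx1) hco.symm ?_
        rw [index_eq (h2.trans hy.symm)]; exact hco.symm
    have hD := Cfsg.Agent.H72.inf_index_of_coprime hco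
    have hle : cz x ⊓ cz y ≤ cz (x * y) := by
      intro g hg
      rw [mem_cz]
      exact (show Commute g x from mem_cz.1 hg.1).mul_right (mem_cz.1 hg.2)
    have h1 : (cz x).index ∣ (cz (x * y)).index := index_dvd (by rw [hxyc, hx]; exact hd2)
    have h2 : (cz y).index ∣ (cz (x * y)).index := index_dvd (by rw [hxyc, hy]; exact hd3)
    have h3 : (cz x ⊓ cz y).index ∣ (cz (x * y)).index := by
      rw [hD]; exact hco.mul_dvd_of_dvd_of_dvd h1 h2
    have h4 := Nat.dvd_antisymm h3 (Subgroup.index_dvd_of_le hle)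
    have h5 : Nat.card (cz (x * y)) = Nat.card (cz x ⊓ cz y : Subgroup G) := by
      have e1 := (cz (x * y)).card_mul_index
      have e2 := (cz x ⊓ cz y).card_mul_index
      rw [h4] at e2
      apply Nat.eq_of_mul_eq_mul_right (Nat.pos_of_ne_zero (Subgroup.index_ne_zero_of_finite (H := cz (x * y))))
      exact e1.trans e2.symm
    have h6 := Subgroup.eq_of_le_of_card_ge hle (le_of_eq h5)
    have h7 : x * y ∈ cz x := by
      have : x * y ∈ cz x ⊓ cz y := by rw [h6]; exact self_mem _
      exact this.1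
    rw [mem_cz, mul_assoc] at h7
    rw [mem_cz]
    exact (mul_left_cancel h7).symm
  have hle : Subgroup.normalClosure ({x2} : Set G) ≤ cz x3 := by
    unfold Subgroup.normalClosure
    rw [Subgroup.closure_le]
    intro g hg
    obtain ⟨a, ha, hag⟩ := Group.mem_conjugatesOfSet_iff.1 hg
    rw [Set.mem_singleton_iff] at ha
    subst ha
    obtain ⟨k, rfl⟩ := isConj_iff.1 hag
    exact hcomm _ _ (conj_ne_one hx2) hx3 ((c_conj k a).trans hc2) hc3
  rcases (Subgroup.normalClosure_normal (s := ({x2} : Set G))).eq_bot_or_eq_top with h | h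
  · have h1 : x2 ∈ Subgroup.normalClosure ({x2} : Set G) := Subgroup.subset_normalClosure rfl
    rw [h, Subgroup.mem_bot] at h1
    exact hx2 h1
  · apply not_central hna hx3
    intro g
    apply hle
    rw [h]; trivial

/-- The last case: `A` self-centralizing of odd order, `n₁ ∣ n₃`. -/
theorem case_odd {n1 n2 n3 : ℕ} (hall : ∀ g : G, g ≠ 1 → c g = n1 ∨ c g = n2 ∨ c g = n3) {x3 : G} (hx3 : x3 ≠ 1)
    (hc3 : c x3 = n3) (hd3 : n1 ∣ n3) (h31 : ¬ n3 ∣ n1) (h32 : ¬ n3 ∣ n2) (h21 : ¬ n2 ∣ n1) (h23 : n2 ≠ n3)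
    {A : Subgroup G} (hA : SelfCent A) (hAn : Nat.card A = n2) (hA1 : A ≠ ⊥) (hodd : ¬ 2 ∣ Nat.card A)
    (h2G : 2 ∣ Nat.card G) : False := by
  classical
  haveI : Fact (Nat.Prime 2) := ⟨Nat.prime_two⟩
  haveI := Fintype.ofFinite G
  have hG : ¬ IsMulCommutative G := fun h => hna fun a b => h.is_comm.comm a b
  -- numerical facts
  have hcop : (Nat.card A).Coprime n3 := by
    by_contra hcon
    obtain ⟨r, hr, hrA, hr3⟩ := Nat.Prime.not_coprime_iff_dvd.1 hcon
    haveI : Fact r.Prime := ⟨hr⟩
    rw [← hc3] at hr3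
    obtain ⟨v, hv⟩ := exists_prime_orderOf_dvd_card' (G := cz x3) r hr3
    have hvo : orderOf (v : G) = r := by rw [Subgroup.orderOf_coe]; exact hv
    obtain ⟨S, hS⟩ := hA.exists_sylow_le hrA
    obtain ⟨z, P, hz, hvP, hPz, -⟩ := exists_full_comm hr (ne_one_of_prime hr hvo) (k := 1) (by
      rw [pow_one, ← hvo, pow_orderOf_eq_one])
    obtain ⟨g, hg⟩ := MulAction.exists_smul_eq G P S
    have h1 : g * v * g⁻¹ ∈ (S : Subgroup G) := by
      rw [← hg]
      exact Subgroup.smul_mem_pointwise_smul _ (MulAut.conj g) _ hvP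
    have h2 := hA _ (hS h1) (conj_ne_one (ne_one_of_prime hr hvo))
    have h3 : g * x3 * g⁻¹ ∈ A := by
      rw [← h2]
      show _ ∈ cz _
      rw [mem_cz]
      have h4 := mem_cz.1 v.2
      calc g * x3 * g⁻¹ * (g * v * g⁻¹) = g * (x3 * v) * g⁻¹ := by group
        _ = g * (v * x3) * g⁻¹ := by rw [h4]
        _ = _ := by group
    have h4 := hA _ h3 (conj_ne_one hx3)
    have h5 : c (g * x3 * g⁻¹) = n2 := by
      unfold c; rw [← hAn]; exact congrArg (fun H : Subgroup G => Nat.card H) h4
    rw [c_conj, hc3] at h5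
    exact h23 h5.symm
  have hprod : Nat.card A * n3 = Nat.card G := by
    apply Nat.dvd_antisymm
    · exact hcop.mul_dvd_of_dvd_of_dvd A.card_subgroup_dvd_card (hc3 ▸ (cz x3).card_subgroup_dvd_card)
    · apply (Nat.dvd_iff_prime_pow_dvd_dvd _ _).2
      intro p k hp hk
      rcases Nat.eq_zero_or_pos k with h0 | h0
      · rw [h0, pow_zero]; exact one_dvd _
      · obtain ⟨z, hz, hzk⟩ := exists_full hp ((dvd_pow_self p h0.ne').trans hk)
        have h1 := hzk k hk
        rcases hall z (ne_one_of_prime hp hz) with h | h | h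
        · rw [h] at h1; exact (h1.trans hd3).mul_left _
        · rw [h, ← hAn] at h1; exact h1.mul_right _
        · rw [h] at h1; exact h1.mul_left _
  have hiso : ∀ y : G, y ≠ 1 → c y = n3 → ∀ x : G, x⁻¹ * y * x ∈ cz y → x ∈ cz y := by
    intro y hy1 hy x hx
    exact Kg.isolated hna hA hy1 (by rw [← hprod, ← hy]; rfl) (by
      show (Nat.card A).Coprime (c y)
      rw [hy]; exact hcop) x hx
  -- involutions have type 1
  have hinv1 : ∀ t : G, orderOf t = 2 → c t = n1 := by
    intro t ht
    have ht1 := ne_one_of_prime Nat.prime_two ht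
    rcases hall t ht1 with h | h | h
    · exact h
    · exfalso
      apply hodd
      rw [hAn, ← h, ← ht]
      exact (cz t).orderOf_dvd_natCard (self_mem t)
    · exfalso
      apply Cfsg.Agent.H68.ST.not_isolated hG t
      refine ⟨ht, fun g hg => ?_⟩
      have h1 : (g⁻¹)⁻¹ * t * g⁻¹ ∈ cz t := by
        rw [inv_inv]; exact mem_cz.2 hg.symm
      have h2 := mem_cz.1 ((cz t).inv_mem (hiso t ht1 h g⁻¹ h1))
      rw [inv_inv] at h2
      rw [h2]; group
  have hmin1 : ∀ g : G, g ≠ 1 → c g ∣ n1 → c g = n1 := by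
    intro g hg h
    rcases hall g hg with h1 | h1 | h1
    · exact h1
    · exact absurd (h1 ▸ h) h21
    · exact absurd (h1 ▸ h) h31
  obtain ⟨z, hz, hzk⟩ := exists_full Nat.prime_two h2G
  rw [hinv1 z hz] at hzk
  have h2n1 : 2 ∣ n1 := by
    have := hzk 1 (by rw [pow_one]; exact h2G)
    rwa [pow_one] at this
  -- an element of type 3 of prime order
  obtain ⟨s, k, hs, hsk⟩ := exists_prime_power hx3
  set y : G := x3 ^ k with hy
  have hy1 := ne_one_of_prime hs hsk
  have hcy : c y = n3 := by
    have h1 : n3 ∣ c y := hc3 ▸ c_dvd (cz_le_pow x3 k)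
    rcases hall y hy1 with h | h | h
    · exact absurd (h ▸ h1) h31
    · exact absurd (h ▸ h1) h32
    · exact h
  have hs2 : s ≠ 2 := by
    intro h
    rw [h] at hsk
    have := hinv1 y hsk
    rw [hcy] at this
    exact h31 (this ▸ dvd_refl _)
  -- centralizers of involutions
  have hle : ∀ (g t : G), orderOf t = 2 → t ∈ cz (g * y * g⁻¹) → cz t ≤ cz (g * y * g⁻¹) := by
    intro g t ht hty
    have ht1 := ne_one_of_prime Nat.prime_two ht
    refine le_of_min ?_ ht1 (mem_cz_symm hty) ?_
    · rw [hinv1 t ht]; exact hmin1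
    · rw [orderOf_conj, ht, hsk]; exact (Nat.coprime_primes Nat.prime_two hs).2 (Ne.symm hs2)
  have hle' : ∀ t : G, orderOf t = 2 → t ∈ cz y → cz t ≤ cz y := by
    intro t ht hty
    have h1 := hle 1 t ht
    simp only [one_mul, inv_one, mul_one] at h1
    exact h1 hty
  -- two conjugates of `y` commuting with an involution coincide
  have huniq0 : ∀ g t : G, orderOf t = 2 → t ∈ cz y → t ∈ cz (g * y * g⁻¹) → g * y * g⁻¹ = y := by
    intro g t ht hty htg
    have h1 : g * y * g⁻¹ ∈ cz y := hle' t ht hty (mem_cz_symm htg)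
    have h2 := hiso y hy1 hcy g⁻¹ (by rw [inv_inv]; exact h1)
    have h3 := mem_cz.1 ((cz y).inv_mem h2)
    rw [inv_inv] at h3
    rw [h3]; group
  have huniq : ∀ g h t : G, orderOf t = 2 → t ∈ cz (h * y * h⁻¹) → t ∈ cz (g * y * g⁻¹) →
      g * y * g⁻¹ = h * y * h⁻¹ := by
    intro g h t ht hth htg
    have e1 : h⁻¹ * t * h ∈ cz y := by
      rw [mem_cz] at hth ⊢
      calc h⁻¹ * t * h * y = h⁻¹ * (t * (h * y * h⁻¹)) * h := by group
        _ = h⁻¹ * ((h * y * h⁻¹) * t) * h := by rw [hth]
        _ = _ := by group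
    have e2 : h⁻¹ * t * h ∈ cz ((h⁻¹ * g) * y * (h⁻¹ * g)⁻¹) := by
      rw [mem_cz] at htg ⊢
      calc h⁻¹ * t * h * ((h⁻¹ * g) * y * (h⁻¹ * g)⁻¹) = h⁻¹ * (t * (g * y * g⁻¹)) * h := by group
        _ = h⁻¹ * ((g * y * g⁻¹) * t) * h := by rw [htg]
        _ = _ := by group
    have e3 : orderOf (h⁻¹ * t * h) = 2 := by
      have := orderOf_conj h⁻¹ t
      rw [inv_inv] at this
      rw [this, ht]
    have e4 := huniq0 (h⁻¹ * g) _ e3 e1 e2
    calc g * y * g⁻¹ = h * ((h⁻¹ * g) * y * (h⁻¹ * g)⁻¹) * h⁻¹ := by group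
      _ = h * y * h⁻¹ := by rw [e4]
  -- inverted elements
  have hinvert : ∀ v : G, v ∉ cz y → v * v = 1 → ∀ h : G, h ∈ cz y → v * h * v = h⁻¹ → h = 1 := by
    intro v hv hvv h hh hvh
    by_contra hh1
    obtain ⟨r, i, hr, hri⟩ := exists_prime_power hh1
    set h0 : G := h ^ i with hh0
    have hh01 := ne_one_of_prime hr hri
    have hvinv : v⁻¹ = v := inv_eq_of_mul_eq_one_left hvv
    have hvh0 : v * h0 * v = h0⁻¹ := by
      have e1 : v * h0 * v = (v * h * v⁻¹) ^ i := by rw [conj_pow, hvinv]
      rw [e1, hvinv, hvh, inv_pow]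
    have hh0B : h0 ∈ cz y := (cz y).pow_mem hh i
    have hnc : r ≠ 2 → v ∉ cz h0 := by
      intro hr2 hvc
      have e1 : v * h0 * v = h0 := by
        rw [mem_cz.1 hvc, mul_assoc, hvv, mul_one]
      rw [hvh0] at e1
      have e2 : h0 ^ 2 = 1 := by
        rw [sq]
        nth_rw 1 [← e1]
        exact inv_mul_cancel h0
      have e3 : r ∣ 2 := by rw [← hri]; exact orderOf_dvd_of_pow_eq_one e2
      exact hr2 ((Nat.prime_dvd_prime_iff_eq hr Nat.prime_two).1 e3)
    by_cases hr2 : r = 2
    · subst hr2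
      apply hv
      apply hle' h0 hri hh0B
      have e1 : h0⁻¹ = h0 := inv_eq_of_mul_eq_one_left (by rw [← sq, ← hri, pow_orderOf_eq_one])
      rw [e1] at hvh0
      rw [mem_cz]
      calc v * h0 = v * h0 * (v * v) := by rw [hvv, mul_one]
        _ = (v * h0 * v) * v := by group
        _ = h0 * v := by rw [hvh0]
    · have hvc := hnc hr2
      rcases hall h0 hh01 with h1 | h1 | h1
      · -- type 1
        have h2 : 2 ∣ c h0 := h1 ▸ h2n1
        obtain ⟨t, ht⟩ := exists_prime_orderOf_dvd_card' (G := cz h0) 2 h2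
        have hto : orderOf (t : G) = 2 := by rw [Subgroup.orderOf_coe]; exact ht
        have hnorm : v ∈ Subgroup.normalizer ((cz h0 : Subgroup G) : Set G) := by
          rw [Subgroup.mem_normalizer_iff]
          intro g
          have key : ∀ g : G, g ∈ cz h0 → v * g * v ∈ cz h0 := by
            intro g hg
            have e1 : g * h0⁻¹ = h0⁻¹ * g := mem_cz.1 (show g ∈ cz h0⁻¹ by rw [cz_inv]; exact hg)
            have e2 : h0 = v * h0⁻¹ * v := by
              rw [← hvh0]
              calc h0 = (v * v) * h0 * (v * v) := by rw [hvv, one_mul, mul_one]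
                _ = _ := by group
            rw [mem_cz]
            calc v * g * v * h0 = v * g * v * (v * h0⁻¹ * v) := by rw [← e2]
              _ = v * g * (v * v) * h0⁻¹ * v := by group
              _ = v * (g * h0⁻¹) * v := by rw [hvv]; group
              _ = v * (h0⁻¹ * g) * v := by rw [e1]
              _ = v * h0⁻¹ * (v * v) * g * v := by rw [hvv]; group
              _ = (v * h0⁻¹ * v) * (v * g * v) := by group
              _ = h0 * (v * g * v) := by rw [← e2]
          rw [hvinv]
          constructor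
          · exact key g
          · intro hg
            have := key _ hg
            have e3 : v * (v * g * v) * v = g := by
              calc v * (v * g * v) * v = (v * v) * g * (v * v) := by group
                _ = g := by rw [hvv, one_mul, mul_one]
            rwa [e3] at this
        -- parity
        set N := Subgroup.normalizer ((cz h0 : Subgroup G) : Set G) with hN
        haveI : ((cz h0).subgroupOf N).Normal := Subgroup.normal_in_normalizer
        have h3 : orderOf (QuotientGroup.mk (⟨v, hnorm⟩ : N) : N ⧸ (cz h0).subgroupOf N) = 2 := by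
          apply orderOf_eq_prime
          · rw [sq, ← QuotientGroup.mk_mul]
            have : (⟨v, hnorm⟩ : N) * ⟨v, hnorm⟩ = 1 := Subtype.ext hvv
            rw [this]; rfl
          · intro h4
            apply hvc
            rw [QuotientGroup.eq_one_iff] at h4
            exact Subgroup.mem_subgroupOf.1 h4
        have h4 : 2 ∣ (cz h0).index := by
          rw [← Subgroup.relIndex_mul_index (Subgroup.le_normalizer : cz h0 ≤ N)]
          apply Dvd.dvd.mul_right
          rw [← h3]
          exact orderOf_dvd_natCard _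
        exact not_dvd_index Nat.prime_two (x := h0) (fun k hk => h1 ▸ hzk k hk) h4
      · -- type 2
        have h2 : r ∣ Nat.card A := by
          rw [hAn, ← h1, ← hri]
          exact (cz h0).orderOf_dvd_natCard (self_mem h0)
        have h3 : r ∣ n3 := by
          rw [← hcy, ← hri]
          exact (cz y).orderOf_dvd_natCard hh0B
        have h4 := Nat.dvd_gcd h2 h3
        rw [hcop.gcd_eq_one, Nat.dvd_one] at h4
        exact hr.one_lt.ne' h4
      · -- type 3
        apply hvc
        apply hiso h0 hh01 h1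
        rw [hvinv, hvh0]
        exact (cz h0).inv_mem (self_mem h0)
  -- two involutions in `cz y`
  have h2y : 2 ∣ c y := by
    rw [hcy]; exact h2n1.trans hd3
  obtain ⟨t0, ht0⟩ := exists_prime_orderOf_dvd_card' (G := cz y) 2 h2y
  have ht0o : orderOf (t0 : G) = 2 := by rw [Subgroup.orderOf_coe]; exact ht0
  obtain ⟨b, hb, hbt⟩ : ∃ b ∈ cz y, b * t0 * b⁻¹ ≠ (t0 : G) := by
    by_contra hcon
    push Not at hcon
    apply h31
    rw [← hcy, ← hinv1 t0 ht0o]
    apply c_dvd
    intro b hb
    have := hcon b hb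
    rw [mul_inv_eq_iff_eq_mul] at this
    exact mem_cz.2 this
  set t1 : G := b * t0 * b⁻¹ with ht1
  have ht1o : orderOf t1 = 2 := by rw [ht1, orderOf_conj]; exact ht0o
  have ht1y : t1 ∈ cz y := (cz y).mul_mem ((cz y).mul_mem hb t0.2) ((cz y).inv_mem hb)
  -- counting
  let I' : Type u := {v : G // v * v = 1 ∧ v ≠ 1 ∧ v ∉ cz y}
  let K' : Type u := {y' : G // IsConj y y' ∧ y' ≠ y}
  have hup : Nat.card I' + 1 ≤ (cz y).index := by
    let f : Option I' → G ⧸ cz y := fun o => match o with
      | none => QuotientGroup.mk 1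
      | some v => QuotientGroup.mk v.1
    have hf : Function.Injective f := by
      have key : ∀ v : I', (QuotientGroup.mk (1 : G) : G ⧸ cz y) ≠ QuotientGroup.mk v.1 := by
        intro v h
        rw [QuotientGroup.eq, inv_one, one_mul] at h
        exact v.2.2.2 h
      rintro (_ | v) (_ | v') h
      · rfl
      · exact absurd h (key v')
      · exact absurd h.symm (key v)
      · have h1 : (QuotientGroup.mk v.1 : G ⧸ cz y) = QuotientGroup.mk v'.1 := h
        rw [QuotientGroup.eq] at h1
        have hvi : v.1⁻¹ = v.1 := inv_eq_of_mul_eq_one_left v.2.1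
        have hvi' : v'.1⁻¹ = v'.1 := inv_eq_of_mul_eq_one_left v'.2.1
        have h2 := hinvert v.1 v.2.2.2 v.2.1 _ h1 (by
          rw [mul_inv_rev, inv_inv, hvi, hvi']
          calc v.1 * (v.1 * v'.1) * v.1 = (v.1 * v.1) * v'.1 * v.1 := by group
            _ = v'.1 * v.1 := by rw [v.2.1, one_mul])
        congr 1
        apply Subtype.ext
        exact (inv_mul_eq_one.1 h2)
    have h1 := Nat.card_le_card_of_injective f hf
    rw [Finite.card_option] at h1
    exact h1
  have hcardK : Nat.card K' + 1 = (cz y).index := by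
    rw [← Cfsg.Agent.CharBase.card_isConj_eq_index, ← Finite.card_option]
    apply Nat.card_congr
    refine ⟨fun o => match o with
      | none => ⟨y, IsConj.refl y⟩
      | some y' => ⟨y'.1, y'.2.1⟩, fun y' => if h : y'.1 = y then none else some ⟨y'.1, y'.2, h⟩, ?_, ?_⟩
    · rintro (_ | y')
      · simp
      · simp [y'.2.2]
    · rintro ⟨y', hy'⟩
      by_cases h : y' = y
      · simp [h]
      · simp [h]
  have hlow : Nat.card K' * 2 ≤ Nat.card I' := by
    choose g hg using fun y' : K' => isConj_iff.1 y'.2.1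
    let tt : Bool → G := fun b => if b then t1 else t0
    have htt : ∀ b, orderOf (tt b) = 2 ∧ tt b ∈ cz y := by
      intro b
      cases b
      · exact ⟨ht0o, t0.2⟩
      · exact ⟨ht1o, ht1y⟩
    have htt_inj : Function.Injective tt := by
      intro b b' h
      cases b <;> cases b'
      · rfl
      · exact absurd h.symm hbt
      · exact absurd h hbt
      · rfl
    have hmem : ∀ (y' : K') (b : Bool), g y' * tt b * (g y')⁻¹ ∈ cz (g y' * y * (g y')⁻¹) := by
      intro y' b
      rw [mem_cz]
      have := mem_cz.1 (htt b).2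
      calc g y' * tt b * (g y')⁻¹ * (g y' * y * (g y')⁻¹) = g y' * (tt b * y) * (g y')⁻¹ := by group
        _ = g y' * (y * tt b) * (g y')⁻¹ := by rw [this]
        _ = _ := by group
    have hord : ∀ (y' : K') (b : Bool), orderOf (g y' * tt b * (g y')⁻¹) = 2 := by
      intro y' b; rw [orderOf_conj]; exact (htt b).1
    let f : K' × Bool → I' := fun p => ⟨g p.1 * tt p.2 * (g p.1)⁻¹, by
      rw [← sq, ← hord p.1 p.2, pow_orderOf_eq_one], ne_one_of_prime Nat.prime_two (hord p.1 p.2), by
      intro h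
      have := huniq0 (g p.1) _ (hord p.1 p.2) h (hmem p.1 p.2)
      rw [hg] at this
      exact p.1.2.2 this⟩
    have hf : Function.Injective f := by
      rintro ⟨y', b⟩ ⟨y'', b'⟩ h
      have h1 : g y' * tt b * (g y')⁻¹ = g y'' * tt b' * (g y'')⁻¹ := congrArg Subtype.val h
      have h2 := huniq (g y') (g y'') _ (hord y' b) (by rw [h1]; exact hmem y'' b') (hmem y' b)
      rw [hg, hg] at h2
      have h3 : y' = y'' := Subtype.ext h2
      subst h3
      have h4 : tt b = tt b' := by
        have := mul_right_cancel h1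
        exact mul_left_cancel this
      rw [htt_inj h4]
    have h1 := Nat.card_le_card_of_injective f hf
    rw [Nat.card_prod, Nat.card_eq_fintype_card (α := Bool), Fintype.card_bool] at h1
    exact h1
  have hidx : (cz y).index = Nat.card A := by
    have h1 := (cz y).card_mul_index
    apply Nat.eq_of_mul_eq_mul_left (c_pos y)
    rw [show c y * (cz y).index = Nat.card G from h1, ← hprod, hcy, mul_comm]
  have hAcard : 1 < Nat.card A := by
    rw [Finite.one_lt_card_iff_nontrivial]
    exact (Subgroup.nontrivial_iff_ne_bot A).2 hA1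
  omega

end Simple

end Cfsg.Agent.H35.CR
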