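import Cfsg.Agent.Char.Induced
import Cfsg.Agent.Char.BurnsideClass
import Cfsg.Agent.H78.TI
import Cfsg.Agent.H74.UniCent
import Cfsg.Agent.Zass.SelfCent

/-!
# Simple groups with an abelian self-centralizing subgroup complemented by a centralizer
-/

set_option autoImplicit false

namespace Cfsg.Agent.H35.Kg

open scoped ComplexConjugate
open Cfsg Cfsg.Agent.Char Cfsg.Agent.CharBase Cfsg.Agent.SC Module

universe u

section Vanish

variable {G : Type u} [Group G] [Finite G]

/-- In a nonabelian simple group no nonidentity element is a scalar in a nontrivial irreducible representation. -/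
theorem no_scalar [IsSimpleGroup G] (hna : ¬ ∀ a b : G, a * b = b * a) {n : ℕ} (ρ : Representation ℂ G (Fin n → ℂ))
    (hρ : ρ.IsIrreducible) (hne : ρ.character ≠ (fun _ => 1)) {g : G} (hg : g ≠ 1) :
    g ∉ scalarSubgroup ρ := by
  intro hmem
  apply hna
  have hnt := nontrivial_of_isIrreducible ρ
  have h1 : scalarSubgroup ρ = ⊤ := by
    rcases (scalarSubgroup_normal ρ).eq_bot_or_eq_top with h | h
    · rw [h, Subgroup.mem_bot] at hmem
      exact absurd hmem hg
    · exact h
  have h1' : ∀ x : G, x ∈ scalarSubgroup ρ := fun x => h1 ▸ Subgroup.mem_top x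
  have h2 : MonoidHom.ker ρ = ⊥ := by
    rcases (inferInstance : (MonoidHom.ker ρ).Normal).eq_bot_or_eq_top with h | h
    · exact h
    · exfalso
      apply hne
      have h4 := finrank_eq_one_of_scalar ρ h1'
      funext x
      have h3 : ρ x = 1 := by
        have : x ∈ MonoidHom.ker ρ := by rw [h]; exact Subgroup.mem_top x
        exact MonoidHom.mem_ker.mp this
      unfold Representation.character
      rw [h3]
      change LinearMap.trace ℂ _ LinearMap.id = 1
      rw [LinearMap.trace_id, h4]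
      simp
  intro a b
  have h3 : ρ (a * b) = ρ (b * a) := by
    obtain ⟨u, hu⟩ := mem_scalarSubgroup.mp (h1' a)
    obtain ⟨v, hv⟩ := mem_scalarSubgroup.mp (h1' b)
    rw [map_mul, map_mul, hu, hv]
    ext x
    simp [mul_left_comm]
  exact (MonoidHom.ker_eq_bot_iff ρ).mp h2 h3

theorem irr_vanish [IsSimpleGroup G] (hna : ¬ ∀ a b : G, a * b = b * a) (χ : IrrCharacter G) (hχ : χ ≠ oneIrr G)
    {d : ℕ} (hd : (χ : G → ℂ) 1 = d) {g : G} (hg : g ≠ 1)
    (hcop : d.Coprime (Subgroup.centralizer ({g} : Set G)).index) : (χ : G → ℂ) g = 0 := by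
  obtain ⟨n, ρ, hρ, hρχ⟩ := χ.2
  have hne : ρ.character ≠ (fun _ => 1) := by
    intro h
    apply hχ
    apply Subtype.ext
    rw [← hρχ, h]
    rfl
  have hdeg : (χ : G → ℂ) 1 = (n : ℂ) := by
    rw [← hρχ, Representation.char_one]; simp
  have hdn : d = n := by
    rw [hd] at hdeg
    exact_mod_cast hdeg
  subst hdn
  have hcop' : Nat.Coprime (finrank ℂ (Fin d → ℂ)) (Subgroup.centralizer ({g} : Set G)).index := by
    rw [Module.finrank_fin_fun]; exact hcop
  rcases character_eq_zero_or_norm_eq ρ g hcop' with h0 | h0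
  · rw [← hρχ, h0]
  · exact absurd ((rep_norm_character_eq_iff ρ g).mp h0) (no_scalar hna ρ hρ hne hg)

end Vanish

section Norm

variable {G : Type u} [Group G] [Fintype G]

theorem classInner_self_real (φ : G → ℂ) : ∃ r : ℝ, 0 ≤ r ∧ classInner φ φ = r := by
  refine ⟨(Nat.card G : ℝ)⁻¹ * ∑ g : G, ‖φ g‖ ^ 2, by positivity, ?_⟩
  unfold classInner
  push_cast
  congr 1
  refine Finset.sum_congr rfl fun g _ => ?_
  rw [Complex.mul_conj]
  rw [Complex.normSq_eq_norm_sq]
  push_cast
  rfl

/-- two-term Bessel inequality -/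
theorem bessel_two {v χ ψ : G → ℂ} (hχ : classInner χ χ = 1) (hψ : classInner ψ ψ = 1) (hχψ : classInner χ ψ = 0)
    {c r : ℝ} (h1 : classInner v χ = c) (h2 : classInner v ψ = -c) (hr : classInner v v = r) : 2 * c ^ 2 ≤ r := by
  have h3 : classInner ψ χ = 0 := by
    rw [← Cfsg.Agent.CharBase.classInner_conj_symm, hχψ, map_zero]
  have h1' : classInner χ v = c := by
    rw [← Cfsg.Agent.CharBase.classInner_conj_symm, h1, Complex.conj_ofReal]
  have h2' : classInner ψ v = -c := by
    rw [← Cfsg.Agent.CharBase.classInner_conj_symm, h2, map_neg, Complex.conj_ofReal]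
  obtain ⟨s, hs0, hs⟩ := classInner_self_real (v - (c : ℂ) • (χ - ψ))
  have h4 : classInner (v - (c : ℂ) • (χ - ψ)) (v - (c : ℂ) • (χ - ψ)) = ((r - 2 * c ^ 2 : ℝ) : ℂ) := by
    simp only [Cfsg.Agent.CharBase.classInner_sub_left, Cfsg.Agent.CharBase.classInner_sub_right,
      Cfsg.Agent.CharBase.classInner_smul_left, Cfsg.Agent.CharBase.classInner_smul_right,
      h1, h2, h1', h2', hr, hχ, hψ, hχψ, h3, Complex.conj_ofReal]
    push_cast
    ring
  rw [h4] at hs
  have h5 : r - 2 * c ^ 2 = s := by exact_mod_cast hs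
  linarith

end Norm

end Cfsg.Agent.H35.Kg
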