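import Cfsg.Agent.H35.KegelA

/-!
# Simple groups with an abelian self-centralizing subgroup complemented by a centralizer, part B
-/

set_option autoImplicit false
set_option linter.style.haveILetI false

namespace Cfsg.Agent.H35.Kg

open scoped ComplexConjugate
open Cfsg Cfsg.Agent.Char Cfsg.Agent.CharBase Cfsg.Agent.SC Module

universe u v

section Orb

theorem sum_inv {N : Type u} {X : Type v} [Group N] [Finite N] [MulAction N X] [Fintype X] (K : Subgroup N)
    (h : ∀ x : X, MulAction.stabilizer N x = K) (f : X → ℂ) (hf : ∀ (n : N) (x : X), f (n • x) = f x)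
    (hi : ∀ x, IsIntegral ℤ (f x)) : ∃ z, IsIntegral ℤ z ∧ ∑ x, f x = (K.index : ℂ) * z := by
  classical
  haveI : Finite (MulAction.orbitRel.Quotient N X) := Quotient.finite _
  haveI := Fintype.ofFinite (MulAction.orbitRel.Quotient N X)
  refine ⟨∑ o : MulAction.orbitRel.Quotient N X, f o.out, IsIntegral.sum _ fun o _ => hi _, ?_⟩
  rw [← Finset.sum_fiberwise Finset.univ (fun x : X => (Quotient.mk _ x : MulAction.orbitRel.Quotient N X)) f,
    Finset.mul_sum]
  refine Finset.sum_congr rfl fun o _ => ?_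
  have h1 : ∀ x ∈ Finset.univ.filter (fun x : X => (Quotient.mk _ x : MulAction.orbitRel.Quotient N X) = o),
      f x = f o.out := by
    intro x hx
    have h2 := (Finset.mem_filter.1 hx).2
    have h3 : (Quotient.mk _ x : MulAction.orbitRel.Quotient N X) = Quotient.mk _ o.out := by
      rw [h2]; exact (Quotient.out_eq o).symm
    obtain ⟨n, hn⟩ := Quotient.exact h3
    rw [← hn]
    exact hf n _
  rw [Finset.sum_congr rfl h1, Finset.sum_const, nsmul_eq_mul]
  congr 1
  have h4 : Nat.card (MulAction.orbit N o.out) = K.index := by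
    rw [← h o.out, MulAction.index_stabilizer]
    rfl
  rw [← h4, Nat.card_eq_fintype_card, ← Set.toFinset_card]
  congr 2
  ext x
  simp only [Finset.mem_filter, Finset.mem_univ, true_and, Set.mem_toFinset]
  constructor
  · intro h2
    have h3 : (Quotient.mk _ x : MulAction.orbitRel.Quotient N X) = Quotient.mk _ o.out := by
      rw [h2]; exact (Quotient.out_eq o).symm
    exact Quotient.exact h3
  · intro h2
    have h3 : (Quotient.mk _ x : MulAction.orbitRel.Quotient N X) = Quotient.mk _ o.out := Quotient.sound h2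
    rw [h3]; exact Quotient.out_eq o

end Orb

section Main

variable {G : Type u} [Group G] [Fintype G]

/-- the permutation character on the cosets of `B` -/
noncomputable def pic (B : Subgroup G) : G → ℂ := indFun B (fun _ => 1)

variable {A B : Subgroup G}

theorem pic_isCharacter (B : Subgroup G) : IsCharacter G (pic B) := by
  haveI := Fintype.ofFinite B
  exact indFun_isCharacter B _ (irr_isCharacter (oneIrr B))

theorem pic_one (hAB : Nat.card A * Nat.card B = Nat.card G) : pic B 1 = Nat.card A := by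
  unfold pic
  rw [indFun_one_apply, mul_one]
  have h1 := B.card_mul_index
  have h2 : B.index = Nat.card A := by
    apply Nat.eq_of_mul_eq_mul_left (Nat.card_pos : 0 < Nat.card B)
    rw [h1, ← hAB, mul_comm]
  rw [h2]

theorem pic_A (hcop : (Nat.card A).Coprime (Nat.card B)) {a : G} (ha : a ∈ A) (ha1 : a ≠ 1) : pic B a = 0 := by
  classical
  unfold pic indFun
  rw [Finset.sum_eq_zero, mul_zero]
  intro x _
  apply extendByZero_of_notMem
  intro hx
  apply ha1
  have h1 : orderOf a ∣ Nat.card A := A.orderOf_dvd_natCard ha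
  have h2 : orderOf (x⁻¹ * a * x) ∣ Nat.card B := B.orderOf_dvd_natCard hx
  have h3 : orderOf (x⁻¹ * a * x) = orderOf a := by
    have := orderOf_injective (MulAut.conj x⁻¹).toMonoidHom (MulAut.conj x⁻¹).injective a
    simpa using this
  rw [h3] at h2
  have h4 := Nat.dvd_gcd h1 h2
  rw [hcop.gcd_eq_one, Nat.dvd_one] at h4
  exact orderOf_eq_one_iff.1 h4

theorem res_pic [Fintype A] (hAB : Nat.card A * Nat.card B = Nat.card G) (hcop : (Nat.card A).Coprime (Nat.card B))
    (φ : A → ℂ) : classInner (fun a : A => pic B a) φ = conj (φ 1) := by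
  classical
  unfold classInner
  rw [Finset.sum_eq_single (1 : A)]
  · show (Nat.card A : ℂ)⁻¹ * (pic B ((1 : A) : G) * conj (φ 1)) = _
    rw [OneMemClass.coe_one, pic_one hAB, ← mul_assoc, inv_mul_cancel₀, one_mul]
    exact_mod_cast Nat.card_pos.ne'
  · intro b _ hb
    show pic B (b : G) * _ = 0
    rw [pic_A hcop b.2 (fun h => hb (Subtype.ext h)), zero_mul]
  · intro h; exact absurd (Finset.mem_univ _) h

theorem res_orth [Fintype A] (hA : SelfCent A) (hAB : Nat.card A * Nat.card B = Nat.card G)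
    (hcop : (Nat.card A).Coprime (Nat.card B)) {X Y Z : G → ℂ} (hX : IsCharacter G X) (hY : IsCharacter G Y)
    (hZ : IsCharacter G Z) (hsum : pic B = X + Y + Z) :
    classInner (fun a : A => X a) (fun a : A => Y a) = 0 := by
  classical
  haveI := Fintype.ofFinite (IrrCharacter A)
  have hX' := isCharacter_restrict hX A
  have hY' := isCharacter_restrict hY A
  have hZ' := isCharacter_restrict hZ A
  rw [classInner_eq_sum (isClassFunction_of_isCharacter hX')]
  refine Finset.sum_eq_zero fun l _ => ?_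
  obtain ⟨x, hx⟩ := classInner_natCast hX' (irr_isCharacter l)
  obtain ⟨y, hy⟩ := classInner_natCast hY' (irr_isCharacter l)
  obtain ⟨z, hz⟩ := classInner_natCast hZ' (irr_isCharacter l)
  have h1 := res_pic hAB hcop (l : A → ℂ)
  have h2 : (l : A → ℂ) 1 = 1 := Cfsg.Agent.H74.TIData.irr_degree_one_of_comm (fun a b => Subtype.ext (hA.comm a.2 b.2)) l
  have h3 : (fun a : A => pic B a) = (fun a : A => X a) + (fun a : A => Y a) + (fun a : A => Z a) := by
    funext a
    rw [hsum]; rfl
  rw [h3, Cfsg.Agent.CharBase.classInner_add_left, Cfsg.Agent.CharBase.classInner_add_left, hx, hy, hz, h2, map_one] at h1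
  have h4 : x + y + z = 1 := by exact_mod_cast h1
  rw [hx, ← classInner_comm_of_isCharacter hY' (irr_isCharacter l), hy]
  have h5 : x * y = 0 := by
    rcases Nat.eq_zero_or_pos x with h | h
    · rw [h, zero_mul]
    · have : y = 0 := by omega
      rw [this, mul_zero]
  exact_mod_cast h5

theorem isCharacter_sub_one {π : G → ℂ} (hπ : IsCharacter G π) {m : IrrCharacter G → ℕ}
    (hm : ∀ ψ : IrrCharacter G, classInner π (ψ : G → ℂ) = m ψ) {χ : IrrCharacter G} (hχ : 1 ≤ m χ) :
    IsCharacter G (π - (χ : G → ℂ)) := by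
  classical
  refine isCharacter_of_classInner_nat (isClassFunction_sub (isClassFunction_of_isCharacter hπ)
    (irr_isClassFunction χ)) fun θ => ?_
  rw [Cfsg.Agent.CharBase.classInner_sub_left, hm, classInner_irr]
  split_ifs with h
  · refine ⟨m θ - 1, ?_⟩
    rw [← h]
    push_cast [hχ]
    ring
  · exact ⟨m θ, by simp⟩

theorem isCharacter_sub_two {π : G → ℂ} (hπ : IsCharacter G π) {m : IrrCharacter G → ℕ}
    (hm : ∀ ψ : IrrCharacter G, classInner π (ψ : G → ℂ) = m ψ) {χ ψ : IrrCharacter G} (hχ : 1 ≤ m χ) (hψ : 1 ≤ m ψ)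
    (hne : χ ≠ ψ) : IsCharacter G (π - (χ : G → ℂ) - (ψ : G → ℂ)) := by
  classical
  refine isCharacter_of_classInner_nat (isClassFunction_sub (isClassFunction_sub
    (isClassFunction_of_isCharacter hπ) (irr_isClassFunction χ)) (irr_isClassFunction ψ)) fun θ => ?_
  rw [Cfsg.Agent.CharBase.classInner_sub_left, Cfsg.Agent.CharBase.classInner_sub_left, hm, classInner_irr,
    classInner_irr]
  split_ifs with h h'
  · exact absurd (h.trans h'.symm) hne
  · refine ⟨m θ - 1, ?_⟩
    rw [← h]
    push_cast [hχ]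
    ring
  · refine ⟨m θ - 1, ?_⟩
    rename_i h2
    rw [← h2]
    push_cast [hψ]
    ring
  · exact ⟨m θ, by simp⟩

theorem isCharacter_sub_self {π : G → ℂ} (hπ : IsCharacter G π) {m : IrrCharacter G → ℕ}
    (hm : ∀ ψ : IrrCharacter G, classInner π (ψ : G → ℂ) = m ψ) {χ : IrrCharacter G} (hχ : 2 ≤ m χ) :
    IsCharacter G (π - (χ : G → ℂ) - (χ : G → ℂ)) := by
  classical
  refine isCharacter_of_classInner_nat (isClassFunction_sub (isClassFunction_sub
    (isClassFunction_of_isCharacter hπ) (irr_isClassFunction χ)) (irr_isClassFunction χ)) fun θ => ?_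
  rw [Cfsg.Agent.CharBase.classInner_sub_left, Cfsg.Agent.CharBase.classInner_sub_left, hm, classInner_irr]
  split_ifs with h
  · refine ⟨m θ - 2, ?_⟩
    rw [← h]
    push_cast [hχ]
    ring
  · exact ⟨m θ, by simp⟩

section Fix

variable [Fintype A] (hA : SelfCent A) (hAB : Nat.card A * Nat.card B = Nat.card G)
  (hcop : (Nat.card A).Coprime (Nat.card B)) {m : IrrCharacter G → ℕ}
  (hm : ∀ ψ : IrrCharacter G, classInner (pic B) (ψ : G → ℂ) = m ψ)

include hA hAB hcop hm

theorem norm_self {χ : IrrCharacter G} (hχ : 1 ≤ m χ) :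
    classInner (fun a : A => (χ : G → ℂ) a) (fun a : A => (χ : G → ℂ) a) = (χ : G → ℂ) 1 := by
  have h1 := isCharacter_sub_one (pic_isCharacter B) hm hχ
  have h2 := res_orth hA hAB hcop h1 (irr_isCharacter χ) isCharacter_zero (by
    rw [add_zero, sub_add_cancel])
  have h3 : (fun a : A => (pic B - (χ : G → ℂ)) a) = (fun a : A => pic B a) - (fun a : A => (χ : G → ℂ) a) := rfl
  rw [h3, Cfsg.Agent.CharBase.classInner_sub_left, res_pic hAB hcop, sub_eq_zero] at h2
  rw [← h2]
  obtain ⟨d, hd⟩ := exists_nat_degree (irr_isCharacter χ)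
  show conj ((χ : G → ℂ) ((1 : A) : G)) = _
  rw [OneMemClass.coe_one, hd, Complex.conj_natCast]

theorem orth {χ ψ : IrrCharacter G} (hχ : 1 ≤ m χ) (hψ : 1 ≤ m ψ) (hne : χ ≠ ψ) :
    classInner (fun a : A => (χ : G → ℂ) a) (fun a : A => (ψ : G → ℂ) a) = 0 := by
  refine res_orth hA hAB hcop (irr_isCharacter χ) (irr_isCharacter ψ)
    (isCharacter_sub_two (pic_isCharacter B) hm hχ hψ hne) ?_
  funext g
  simp only [Pi.add_apply, Pi.sub_apply]
  ring

theorem mult_le_one (χ : IrrCharacter G) : m χ ≤ 1 := by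
  by_contra hcon
  have h2 : 2 ≤ m χ := by omega
  have h1 := res_orth hA hAB hcop (irr_isCharacter χ) (irr_isCharacter χ)
    (isCharacter_sub_self (pic_isCharacter B) hm h2) (by
      funext g
      simp only [Pi.add_apply, Pi.sub_apply]
      ring)
  rw [norm_self hA hAB hcop hm (by omega : 1 ≤ m χ)] at h1
  exact irr_one_ne_zero χ.2 h1

end Fix

theorem mult_oneIrr {m : IrrCharacter G → ℕ}
    (hm : ∀ ψ : IrrCharacter G, classInner (pic B) (ψ : G → ℂ) = m ψ) : m (oneIrr G) = 1 := by
  haveI := Fintype.ofFinite B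
  have h1 := hm (oneIrr G)
  unfold pic at h1
  rw [frobenius_reciprocity B _ _ (irr_isClassFunction _)] at h1
  have h2 : classInner (oneIrr B : B → ℂ) (oneIrr B : B → ℂ) = 1 := classInner_irr_self _
  have h3 : (m (oneIrr G) : ℂ) = 1 := h1.symm.trans h2
  exact_mod_cast h3

end Main

end Cfsg.Agent.H35.Kg
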