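import Cfsg.Agent.H35.CRb

/-!
# Groups with the class sizes of PSL(2,q), part A: the elements of `p`-power order
-/

set_option autoImplicit false
set_option linter.style.haveILetI false
set_option linter.unusedSectionVars false

namespace Cfsg.Agent.H35.PS

open Cfsg.Agent.SC Cfsg.Agent.H35.CR

universe u

variable {G : Type u} [Group G] [Finite G]

/-- numerical hypotheses on the class sizes -/
structure Dat (G : Type u) [Group G] (p q a : ℕ) : Prop where
  hp : p.Prime
  hqp : ∃ f, 1 ≤ f ∧ q = p ^ f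
  hpa : ¬ p ∣ a
  ha1 : a ≠ 1
  hA : ∃ x : G, (cz x).index = a
  hX : ∀ x : G, (cz x).index = 1 ∨ (cz x).index = a ∨ ∃ j, (cz x).index = q * j ∧ ¬ p ∣ j ∧ j < a
  hdiv : ∀ x y : G, p ∣ (cz x).index → (cz x).index ∣ (cz y).index →
    (cz y).index = (cz x).index ∨ (p ≠ 2 ∧ (cz y).index = 2 * (cz x).index)
  hadvd : ∀ y : G, a ∣ (cz y).index → (cz y).index = a
  hex : ∃ x : G, p ∣ (cz x).index

/-- an element of `p`-power order -/
def Pel (p : ℕ) (x : G) : Prop := ∃ k : ℕ, x ^ p ^ k = 1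

theorem eq_of_le_index {H K : Subgroup G} (h : H ≤ K) (hi : H.index = K.index) : H = K := by
  apply le_antisymm h
  have h1 := Subgroup.relIndex_mul_index h
  rw [hi] at h1
  have h2 : H.relIndex K = 1 := by
    have : 0 < K.index := Nat.pos_of_ne_zero Subgroup.index_ne_zero_of_finite
    exact Nat.eq_of_mul_eq_mul_right this (by rw [h1, one_mul])
  exact Subgroup.relIndex_eq_one.1 h2

theorem index_cz_eq_one {x : G} : (cz x).index = 1 ↔ x ∈ Subgroup.center G := by
  rw [Subgroup.index_eq_one, Subgroup.mem_center_iff]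
  constructor
  · intro h g
    exact mem_cz.1 (h ▸ Subgroup.mem_top g)
  · intro h
    rw [eq_top_iff]
    intro g _
    exact mem_cz.2 (h g)

theorem le_cz_of_center (x : G) : Subgroup.center G ≤ cz x := by
  intro z hz
  exact mem_cz.2 ((Subgroup.mem_center_iff.1 hz x).symm)

theorem index_dvd_of_cz_le {x y : G} (h : cz x ≤ cz y) : (cz y).index ∣ (cz x).index :=
  Subgroup.index_dvd_of_le h

variable {p q a : ℕ}

theorem Dat.of_not_dvd (D : Dat G p q a) {x : G} (hx : x ∉ Subgroup.center G) (h : ¬ p ∣ (cz x).index) :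
    (cz x).index = a := by
  obtain ⟨f, hf, hq⟩ := D.hqp
  rcases D.hX x with h1 | h1 | ⟨j, h1, -, -⟩
  · exact absurd (index_cz_eq_one.1 h1) hx
  · exact h1
  · exfalso
    apply h
    rw [h1, hq]
    exact (dvd_pow_self p (by omega)).mul_right _

theorem Dat.eq_of_le (D : Dat G p q a) {x y : G} (hx : (cz x).index = a) (hy : y ∉ Subgroup.center G)
    (h : cz x ≤ cz y) : (cz y).index = a ∧ cz x = cz y := by
  have h1 := index_dvd_of_cz_le h
  have h2 : (cz y).index = a := by
    apply D.of_not_dvd hy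
    intro h3
    apply D.hpa
    rw [← hx]
    exact h3.trans h1
  exact ⟨h2, eq_of_le_index h (by rw [hx, h2])⟩

theorem Dat.eq_of_ge (D : Dat G p q a) {x y : G} (hx : (cz x).index = a) (h : cz y ≤ cz x) : cz y = cz x := by
  have h1 := index_dvd_of_cz_le h
  rw [hx] at h1
  have h2 := D.hadvd y h1
  exact eq_of_le_index h (by rw [hx, h2])

/-- Step 3 -/
theorem Dat.le_of_coprime (D : Dat G p q a) {x y : G} (hx : (cz x).index = a) (hy : y ∈ cz x)
    (hcop : (orderOf x).Coprime (orderOf y)) : cz x ≤ cz y := by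
  have hc : x * y = y * x := (mem_cz.1 hy).symm
  have h1 := cz_mul_le hc hcop
  rw [← D.eq_of_ge hx h1]
  exact cz_mul_le' hc hcop

theorem Pel.coprime {x y : G} (hp : p.Prime) (hx : Pel p x) (hy : ¬ p ∣ orderOf y) :
    (orderOf x).Coprime (orderOf y) := by
  obtain ⟨k, hk⟩ := hx
  exact orderOf_two_pow_coprime hp hk hy

theorem Pel.zpowers_isPGroup {x : G} (hx : Pel p x) : IsPGroup p (Subgroup.zpowers x) := by
  obtain ⟨k, hk⟩ := hx
  rintro ⟨y, hy⟩
  obtain ⟨i, rfl⟩ := Subgroup.mem_zpowers_iff.1 hy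
  refine ⟨k, ?_⟩
  apply Subtype.ext
  show (x ^ i) ^ p ^ k = 1
  rw [← zpow_natCast, ← zpow_mul, mul_comm, zpow_mul, zpow_natCast, hk, one_zpow]

theorem Pel.mem_sylow [Fact p.Prime] {x : G} (hx : Pel p x) {P : Sylow p G}
    (h : x ∈ Subgroup.normalizer ((P : Subgroup G) : Set G)) : x ∈ (P : Subgroup G) := by
  have h1 := hx.zpowers_isPGroup.inf_normalizer_sylow P
  have h2 : x ∈ Subgroup.zpowers x ⊓ Subgroup.normalizer ((P : Subgroup G) : Set G) :=
    ⟨Subgroup.mem_zpowers x, h⟩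
  exact (h1.le h2).2

theorem Pel.mem_sylow_of_le_cz [Fact p.Prime] {x : G} (hx : Pel p x) {P : Sylow p G}
    (h : (P : Subgroup G) ≤ cz x) : x ∈ (P : Subgroup G) := by
  apply hx.mem_sylow
  rw [Subgroup.mem_normalizer_iff]
  intro y
  constructor
  · intro hy
    have h1 : y * x = x * y := mem_cz.1 (h hy)
    rw [← h1, mul_assoc, mul_inv_cancel, mul_one]
    exact hy
  · intro hy
    have h1 := mem_cz.1 (h hy)
    have h2 : y * x = x * y := by
      have h3 : x * y * x⁻¹ * x = x * (x * y * x⁻¹) := h1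
      have h4 : x * y = x * (x * y * x⁻¹) := by
        rw [← h3]; group
      have h5 : y = x * y * x⁻¹ := mul_left_cancel h4
      calc y * x = (x * y * x⁻¹) * x := by rw [← h5]
        _ = x * y := by group
    rwa [← h2, mul_assoc, mul_inv_cancel, mul_one] at hy

theorem Pel.of_mem_sylow [Fact p.Prime] {P : Sylow p G} {x : G} (hx : x ∈ (P : Subgroup G)) : Pel p x := by
  obtain ⟨k, hk⟩ := P.isPGroup' ⟨x, hx⟩
  exact ⟨k, congrArg Subtype.val hk⟩

/-- a subgroup of index prime to `p` contains a Sylow `p`-subgroup -/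
theorem exists_sylow_le [Fact p.Prime] {H : Subgroup G} (h : ¬ p ∣ H.index) :
    ∃ P : Sylow p G, (P : Subgroup G) ≤ H := by
  let Q : Sylow p H := default
  have hQ : IsPGroup p ((Q : Subgroup H).map H.subtype) := Q.isPGroup'.map _
  obtain ⟨P, hP⟩ := hQ.exists_le_sylow
  refine ⟨P, ?_⟩
  have h1 : Nat.card ((Q : Subgroup H).map H.subtype) = Nat.card Q :=
    Subgroup.card_map_of_injective H.subtype_injective
  have h2 : Nat.card Q = p ^ (Nat.card H).factorization p := Q.card_eq_multiplicity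
  have h3 : Nat.card P = p ^ (Nat.card G).factorization p := P.card_eq_multiplicity
  have h4 : (Nat.card G).factorization p = (Nat.card H).factorization p := by
    rw [← Subgroup.card_mul_index H, Nat.factorization_mul Nat.card_pos.ne' Subgroup.index_ne_zero_of_finite,
      Finsupp.add_apply, Nat.factorization_eq_zero_of_not_dvd h, add_zero]
  have h5 : (Q : Subgroup H).map H.subtype = P := by
    apply Subgroup.eq_of_le_of_card_ge hP
    rw [h1, h2, ← h4]
    exact h3.le
  rw [← h5]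
  exact Subgroup.map_subtype_le _

/-- Steps 1, 2 -/
theorem Dat.exists_z [Fact p.Prime] (D : Dat G p q a) : ∃ (P : Sylow p G) (z : G), z ∈ (P : Subgroup G) ∧
    z ∉ Subgroup.center G ∧ (P : Subgroup G) ≤ cz z ∧ (cz z).index = a := by
  obtain ⟨x, hx⟩ := D.hA
  have hxc : x ∉ Subgroup.center G := fun h => D.ha1 (by rw [← hx]; exact index_cz_eq_one.2 h)
  obtain ⟨P, hP⟩ := exists_sylow_le (p := p) (H := cz x) (by rw [hx]; exact D.hpa)
  obtain ⟨t, ht, htc⟩ : ∃ t ∈ (P : Subgroup G), t ∉ Subgroup.center G := by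
    by_contra hcon
    push Not at hcon
    obtain ⟨y, hy⟩ := D.hex
    have h1 : (P : Subgroup G) ≤ cz y := fun s hs => le_cz_of_center y (hcon s hs)
    exact P.not_dvd_index (hy.trans (Subgroup.index_dvd_of_le h1))
  obtain ⟨u, w, hu, hw, hxuw, hup, hwp⟩ := split x D.hp
  have hcu : cz x ≤ cz u := cz_le_of_mem_zpowers hu
  have hcw : cz x ≤ cz w := cz_le_of_mem_zpowers hw
  by_cases huc : u ∈ Subgroup.center G
  · have hwc : w ∉ Subgroup.center G := fun h => hxc (hxuw ▸ Subgroup.mul_mem _ huc h)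
    obtain ⟨h1, h2⟩ := D.eq_of_le hx hwc hcw
    have h3 : cz w ≤ cz t := by
      apply D.le_of_coprime h1
      · rw [← h2]; exact hP ht
      · exact (Pel.coprime D.hp (Pel.of_mem_sylow ht) hwp).symm
    obtain ⟨h4, h5⟩ := D.eq_of_le h1 htc h3
    exact ⟨P, t, ht, htc, (hP.trans hcw).trans h3, h4⟩
  · obtain ⟨h1, h2⟩ := D.eq_of_le hx huc hcu
    exact ⟨P, u, Pel.mem_sylow_of_le_cz hup (hP.trans hcu), huc, hP.trans hcu, h1⟩

/-- if all `p'`-elements of `H` are central then `|H : Z|` is a power of `p` -/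
theorem relIndex_pow [Fact p.Prime] {H : Subgroup G}
    (h : ∀ k ∈ H, ¬ p ∣ orderOf k → k ∈ Subgroup.center G) : ∃ m : ℕ, (Subgroup.center G).relIndex H = p ^ m := by
  have hpp : p.Prime := Fact.out
  have h1 : IsPGroup p (H ⧸ (Subgroup.center G).subgroupOf H) := by
    intro y
    obtain ⟨⟨y, hy⟩, rfl⟩ := QuotientGroup.mk_surjective y
    obtain ⟨u, w, hu, hw, hyuw, ⟨k, hk⟩, hwp⟩ := split y hpp
    refine ⟨k, ?_⟩
    rw [← QuotientGroup.mk_pow, QuotientGroup.eq_one_iff, Subgroup.mem_subgroupOf]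
    show y ^ p ^ k ∈ _
    have hwc : w ∈ Subgroup.center G := h w ((Subgroup.zpowers_le.2 hy) hw) hwp
    have hc : Commute u w := ((Subgroup.mem_center_iff.1 hwc u))
    rw [hyuw, hc.mul_pow, hk, one_mul]
    exact Subgroup.pow_mem _ hwc _
  obtain ⟨m, hm⟩ := IsPGroup.iff_card.1 h1
  exact ⟨m, by rw [Subgroup.relIndex, Subgroup.index]; exact hm⟩

/-- if all `p`-elements of `H` are central then `|H : Z|` is prime to `p` -/
theorem relIndex_not_dvd [Fact p.Prime] {H : Subgroup G}
    (h : ∀ k ∈ H, Pel p k → k ∈ Subgroup.center G) : ¬ p ∣ (Subgroup.center G).relIndex H := by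
  have hpp : p.Prime := Fact.out
  intro hd
  rw [Subgroup.relIndex, Subgroup.index] at hd
  obtain ⟨y, hy⟩ := exists_prime_orderOf_dvd_card' p hd
  obtain ⟨⟨y, hyH⟩, rfl⟩ := QuotientGroup.mk_surjective y
  obtain ⟨u, w, hu, hw, hyuw, hup, hwp⟩ := split y hpp
  have huc : u ∈ Subgroup.center G := h u ((Subgroup.zpowers_le.2 hyH) hu) hup
  have hwH : w ∈ H := (Subgroup.zpowers_le.2 hyH) hw
  have h1 : (QuotientGroup.mk (⟨y, hyH⟩ : H) : H ⧸ (Subgroup.center G).subgroupOf H) =
      QuotientGroup.mk (⟨w, hwH⟩ : H) := by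
    rw [QuotientGroup.eq, Subgroup.mem_subgroupOf]
    show y⁻¹ * w ∈ _
    rw [hyuw]
    have hc : u * w = w * u := (Subgroup.mem_center_iff.1 huc w).symm
    have : (u * w)⁻¹ * w = u⁻¹ := by rw [hc]; group
    rw [this]
    exact Subgroup.inv_mem _ huc
  rw [h1] at hy
  apply hwp
  rw [← hy]
  have h2 := orderOf_map_dvd (QuotientGroup.mk' ((Subgroup.center G).subgroupOf H)) (⟨w, hwH⟩ : H)
  rw [Subgroup.orderOf_mk] at h2
  exact h2

theorem Pel.mem_zpowers_sq {z : G} (hp : p.Prime) (hp2 : p ≠ 2) (hz : Pel p z) : z ∈ Subgroup.zpowers (z * z) := by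
  obtain ⟨k, hk⟩ := hz
  have hodd : Odd (p ^ k) := (hp.odd_of_ne_two hp2).pow
  obtain ⟨m, hm⟩ := hodd
  refine Subgroup.mem_zpowers_iff.2 ⟨(m + 1 : ℕ), ?_⟩
  rw [zpow_natCast, ← pow_two, ← pow_mul]
  have : 2 * (m + 1) = p ^ k + 1 := by omega
  rw [this, pow_succ, hk, one_mul]

/-- Step 4, the claim: in the non-abelian case all `p'`-elements of `C(z)` are central -/
theorem Dat.central_of_nonabelian [Fact p.Prime] (D : Dat G p q a) {P : Sylow p G} {z : G}
    (hzP : z ∈ (P : Subgroup G)) (hPz : (P : Subgroup G) ≤ cz z) (hza : (cz z).index = a)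
    (hna : ¬ ∀ x ∈ (P : Subgroup G), ∀ y ∈ (P : Subgroup G), x * y = y * x) {k : G} (hk : k ∈ cz z)
    (hkp : ¬ p ∣ orderOf k) : k ∈ Subgroup.center G := by
  by_contra hkc
  apply hna
  have h1 : cz z ≤ cz k := D.le_of_coprime hza hk (Pel.coprime D.hp (Pel.of_mem_sylow hzP) hkp)
  obtain ⟨h2, h3⟩ := D.eq_of_le hza hkc h1
  intro x hx y hy
  have h4 : cz k ≤ cz x := by
    apply D.le_of_coprime h2
    · rw [← h3]; exact hPz hx
    · exact (Pel.coprime D.hp (Pel.of_mem_sylow hx) hkp).symm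
  exact (mem_cz.1 (h4 (h3 ▸ hPz hy))).symm

/-- Step 4: noncentral elements of `p`-power order have class size `a` -/
theorem Dat.all_a [Fact p.Prime] (D : Dat G p q a) {t : G} (htp : Pel p t) (htc : t ∉ Subgroup.center G) :
    (cz t).index = a := by
  obtain ⟨P, z, hzP, hzc, hPz, hza⟩ := D.exists_z
  -- we may assume `t ∈ P`
  obtain ⟨P', hP'⟩ := htp.zpowers_isPGroup.exists_le_sylow
  obtain ⟨g, hg⟩ := MulAction.exists_smul_eq G P' P
  have ht'P : g * t * g⁻¹ ∈ (P : Subgroup G) := by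
    rw [← hg, Sylow.coe_subgroup_smul]
    exact Subgroup.smul_mem_pointwise_smul _ _ _ (hP' (Subgroup.mem_zpowers t))
  have hidx : (cz (g * t * g⁻¹)).index = (cz t).index := by
    have h1 := Subgroup.card_mul_index (cz (g * t * g⁻¹))
    have h2 := Subgroup.card_mul_index (cz t)
    have h3 : Nat.card (cz (g * t * g⁻¹)) = Nat.card (cz t) := c_conj g t
    rw [h3, ← h2] at h1
    exact Nat.eq_of_mul_eq_mul_left Nat.card_pos h1
  have ht'c : g * t * g⁻¹ ∉ Subgroup.center G := by
    intro h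
    apply htc
    have : g⁻¹ * (g * t * g⁻¹) * g⁻¹⁻¹ ∈ Subgroup.center G :=
      (inferInstance : (Subgroup.center G).Normal).conj_mem _ h _
    have e : g⁻¹ * (g * t * g⁻¹) * g⁻¹⁻¹ = t := by group
    rwa [e] at this
  rw [← hidx]
  generalize g * t * g⁻¹ = t at ht'P ht'c
  have htp := Pel.of_mem_sylow ht'P
  by_contra hne
  by_cases hab : ∀ x ∈ (P : Subgroup G), ∀ y ∈ (P : Subgroup G), x * y = y * x
  · apply hne
    apply D.of_not_dvd ht'c
    intro h
    have h1 : (P : Subgroup G) ≤ cz t := fun s hs => mem_cz.2 (hab s hs t ht'P)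
    exact P.not_dvd_index (h.trans (Subgroup.index_dvd_of_le h1))
  · have hK : ∀ k ∈ cz z, ¬ p ∣ orderOf k → k ∈ Subgroup.center G := fun k hk hkp =>
      D.central_of_nonabelian hzP hPz hza hab hk hkp
    rcases D.hX t with h1 | h1 | ⟨j, hj, hpj, hja⟩
    · exact ht'c (index_cz_eq_one.1 h1)
    · exact hne h1
    obtain ⟨y, hyt, hyp, hyc⟩ : ∃ y ∈ cz t, ¬ p ∣ orderOf y ∧ y ∉ Subgroup.center G := by
      by_contra hcon
      push Not at hcon
      obtain ⟨m, hm⟩ := relIndex_pow (p := p) hK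
      obtain ⟨m', hm'⟩ := relIndex_pow (p := p) (H := cz t) hcon
      have h2 := Subgroup.relIndex_mul_index (le_cz_of_center z)
      have h3 := Subgroup.relIndex_mul_index (le_cz_of_center t)
      rw [hm, hza] at h2
      rw [hm', hj] at h3
      rw [← h2] at h3
      obtain ⟨f, hf, hq⟩ := D.hqp
      rw [hq] at h3
      have h4 : p ^ (m' + f) * j = p ^ m * a := by
        rw [← h3, pow_add]; ring
      have hapos : 0 < a := Nat.pos_of_ne_zero (fun h => D.hpa (h ▸ dvd_zero p))
      have hjpos : 0 < j := Nat.pos_of_ne_zero (fun h => hpj (h ▸ dvd_zero p))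
      have h5 : j = a := by
        have e1 : (p ^ (m' + f) * j).factorization p = m' + f := by
          rw [Nat.factorization_mul (pow_pos D.hp.pos _).ne' hjpos.ne', Finsupp.add_apply,
            Nat.factorization_eq_zero_of_not_dvd hpj, add_zero, Nat.Prime.factorization_pow D.hp, Finsupp.single_eq_same]
        have e2 : (p ^ m * a).factorization p = m := by
          rw [Nat.factorization_mul (pow_pos D.hp.pos _).ne' hapos.ne', Finsupp.add_apply,
            Nat.factorization_eq_zero_of_not_dvd D.hpa, add_zero, Nat.Prime.factorization_pow D.hp, Finsupp.single_eq_same]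
        rw [h4, e2] at e1
        rw [← e1] at h4
        exact Nat.eq_of_mul_eq_mul_left (pow_pos D.hp.pos _) h4
      omega
    have hct : t * y = y * t := (mem_cz.1 hyt).symm
    have hcop := Pel.coprime D.hp htp hyp
    have h2 := cz_mul_le hct hcop
    have hzt : z ∈ cz t := mem_cz_symm (hPz ht'P)
    have hzty : z ∈ cz (t * y) := by
      rcases D.hdiv t (t * y) (by
        rw [hj]
        obtain ⟨f, hf, hq⟩ := D.hqp
        rw [hq]
        exact (dvd_pow_self p (by omega)).mul_right _) (Subgroup.index_dvd_of_le h2) with h3 | ⟨hp2, h3⟩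
      · rw [eq_of_le_index h2 h3]
        exact hzt
      · have h4 := Subgroup.relIndex_mul_index h2
        rw [h3] at h4
        have h5 : (cz (t * y)).relIndex (cz t) = 2 :=
          Nat.eq_of_mul_eq_mul_right (Nat.pos_of_ne_zero Subgroup.index_ne_zero_of_finite) h4
        have h6 : (⟨z, hzt⟩ : cz t) * ⟨z, hzt⟩ ∈ (cz (t * y)).subgroupOf (cz t) :=
          Subgroup.mul_self_mem_of_index_two h5 _
        have h7 : z * z ∈ cz (t * y) := h6
        exact (Subgroup.zpowers_le.2 h7) ((Pel.of_mem_sylow hzP).mem_zpowers_sq D.hp hp2)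
    have h3 : z ∈ cz y := cz_mul_le' hct hcop hzty
    exact hyc (hK y (mem_cz_symm h3) hyp)

/-- Step 5: elements of `p`-power order commuting with an element of class size `≠ 1, a` are central -/
theorem Dat.pel_central [Fact p.Prime] (D : Dat G p q a) {x : G} (hxc : x ∉ Subgroup.center G)
    (hxa : (cz x).index ≠ a) {t : G} (ht : t ∈ cz x) (htp : Pel p t) : t ∈ Subgroup.center G := by
  by_contra htc
  have hta := D.all_a htp htc
  obtain ⟨u, w, hu, hw, hxuw, hup, hwp⟩ := split x D.hp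
  have hxt : x ∈ cz t := mem_cz_symm ht
  have hwt : w ∈ cz t := (Subgroup.zpowers_le.2 hxt) hw
  by_cases hwc : w ∈ Subgroup.center G
  · have huc : u ∉ Subgroup.center G := fun h => hxc (hxuw ▸ Subgroup.mul_mem _ h hwc)
    have h1 := D.all_a hup huc
    obtain ⟨h2, h3⟩ : (cz u).index = a ∧ cz x ≤ cz u := ⟨h1, cz_le_of_mem_zpowers hu⟩
    exact hxa (by rw [D.eq_of_ge h2 h3, h2])
  · have h1 : cz t ≤ cz w := D.le_of_coprime hta hwt (Pel.coprime D.hp htp hwp)
    obtain ⟨h2, h3⟩ := D.eq_of_le hta hwc h1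
    exact hxa (by rw [D.eq_of_ge h2 (cz_le_of_mem_zpowers hw), h2])

/-- Step 5: the index of the centre -/
theorem Dat.index_center [Fact p.Prime] (D : Dat G p q a) : ∃ b : ℕ, (Subgroup.center G).index = q * b ∧ ¬ p ∣ b := by
  obtain ⟨x, hx⟩ := D.hex
  have hxc : x ∉ Subgroup.center G := by
    intro h
    rw [index_cz_eq_one.2 h] at hx
    exact D.hp.one_lt.ne' (Nat.dvd_one.1 hx)
  have hxa : (cz x).index ≠ a := fun h => D.hpa (h ▸ hx)
  rcases D.hX x with h1 | h1 | ⟨j, hj, hpj, hja⟩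
  · exact absurd (index_cz_eq_one.1 h1) hxc
  · exact absurd h1 hxa
  refine ⟨j * (Subgroup.center G).relIndex (cz x), ?_, ?_⟩
  · rw [← Subgroup.relIndex_mul_index (le_cz_of_center x), hj]; ring
  · intro h
    rcases (D.hp.dvd_mul).1 h with h1 | h1
    · exact hpj h1
    · exact relIndex_not_dvd (fun k hk hkp => D.pel_central hxc hxa hk hkp) h1

end Cfsg.Agent.H35.PS
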