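import Cfsg.Agent.H35.PSa

/-!
# Groups with the class sizes of PSL(2,q), part B: passage to the central quotient
-/

set_option autoImplicit false
set_option linter.style.haveILetI false
set_option linter.unusedSectionVars false

namespace Cfsg.Agent.H35.PS

open Cfsg.Agent.SC Cfsg.Agent.H35.CR

universe u

variable {G : Type u} [Group G] [Finite G] {p q a : ℕ}

theorem Pel.conj {x : G} (hx : Pel p x) (g : G) : Pel p (g * x * g⁻¹) := by
  obtain ⟨k, hk⟩ := hx
  exact ⟨k, by rw [conj_pow, hk, mul_one, mul_inv_cancel]⟩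

/-- centralizers of noncentral `p`-elements are nilpotent, hence contain a unique Sylow `p`-subgroup -/
theorem Dat.cz_sylow [Fact p.Prime] (D : Dat G p q a) {u : G} (hu : Pel p u) (huc : u ∉ Subgroup.center G) :
    ∃ P : Sylow p G, (P : Subgroup G) ≤ cz u ∧ ∀ s ∈ cz u, Pel p s → s ∈ (P : Subgroup G) := by
  have hpp : p.Prime := Fact.out
  have hua := D.all_a hu huc
  obtain ⟨P, hP⟩ := exists_sylow_le (p := p) (H := cz u) (by rw [hua]; exact D.hpa)
  refine ⟨P, hP, ?_⟩
  have h1 : IsPGroup p (cz u ⧸ Subgroup.center (cz u)) := by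
    intro y
    obtain ⟨⟨y, hy⟩, rfl⟩ := QuotientGroup.mk_surjective y
    obtain ⟨x, w, hx, hw, hyxw, ⟨k, hk⟩, hwp⟩ := split y hpp
    refine ⟨k, ?_⟩
    rw [← QuotientGroup.mk_pow, QuotientGroup.eq_one_iff]
    have hwu : w ∈ cz u := (Subgroup.zpowers_le.2 hy) hw
    have hwc : cz u ≤ cz w := D.le_of_coprime hua hwu (Pel.coprime D.hp hu hwp)
    have hc : Commute x w := by
      obtain ⟨i, rfl⟩ := Subgroup.mem_zpowers_iff.1 hx
      obtain ⟨j, rfl⟩ := Subgroup.mem_zpowers_iff.1 hw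
      exact (Commute.refl y).zpow_zpow i j
    have hyk : y ^ p ^ k = w ^ p ^ k := by rw [hyxw, hc.mul_pow, hk, one_mul]
    rw [Subgroup.mem_center_iff]
    rintro ⟨g, hg⟩
    apply Subtype.ext
    show g * y ^ p ^ k = y ^ p ^ k * g
    rw [hyk]
    exact (show Commute g w from mem_cz.1 (hwc hg)).pow_right _
  have h2 : Group.IsNilpotent (cz u ⧸ Subgroup.center (cz u)) := IsPGroup.isNilpotent h1
  have h3 : Group.IsNilpotent (cz u) := Group.of_quotient_center_nilpotent h2
  have h4 : ∀ (p : ℕ) (_hp : Fact p.Prime) (P : Sylow p (cz u)), (P : Subgroup (cz u)).Normal :=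
    (Group.isNilpotent_of_finite_tfae.out 0 3 rfl rfl).1 h3
  intro s hs hsp
  let P' : Sylow p (cz u) := P.subtype hP
  haveI : (P' : Subgroup (cz u)).Normal := h4 p inferInstance P'
  have h5 : (⟨s, hs⟩ : cz u) ∈ Subgroup.normalizer ((P' : Subgroup (cz u)) : Set (cz u)) := by
    rw [Subgroup.normalizer_eq_top]; trivial
  have hsp' : Pel p (⟨s, hs⟩ : cz u) := by
    obtain ⟨k, hk⟩ := hsp
    exact ⟨k, Subtype.ext hk⟩
  have h6 := hsp'.mem_sylow h5
  exact h6

theorem Dat.norm_mem [Fact p.Prime] (D : Dat G p q a) {u : G} (hu : Pel p u) (huc : u ∉ Subgroup.center G)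
    {g : G} (hg : Pel p g) (hn : ∀ x, x ∈ cz u ↔ g * x * g⁻¹ ∈ cz u) : g ∈ cz u := by
  obtain ⟨P, hP, hall⟩ := D.cz_sylow hu huc
  apply hP
  apply hg.mem_sylow
  rw [Subgroup.mem_normalizer_iff]
  intro x
  constructor
  · intro hx
    exact hall _ ((hn x).1 (hP hx)) ((Pel.of_mem_sylow hx).conj g)
  · intro hx
    have h1 : x ∈ cz u := (hn x).2 (hP hx)
    apply hall _ h1
    have h2 := (Pel.of_mem_sylow hx).conj g⁻¹
    have e : g⁻¹ * (g * x * g⁻¹) * g⁻¹⁻¹ = x := by group
    rwa [e] at h2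

theorem cz_mul_center {u z : G} (hz : z ∈ Subgroup.center G) : cz (z * u) = cz u := by
  have h : ∀ {u z : G}, z ∈ Subgroup.center G → cz u ≤ cz (z * u) := by
    intro u z hz x hx
    rw [mem_cz] at hx ⊢
    exact (show Commute x z from (Subgroup.mem_center_iff.1 hz x)).mul_right hx
  apply le_antisymm _ (h hz)
  have h2 := h (u := z * u) (Subgroup.inv_mem _ hz)
  rwa [inv_mul_cancel_left] at h2

/-- the coset of the centre determines the centralizer: `[g, u] ∈ Z` implies `g ∈ C(u)` -/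
theorem Dat.comm_center [Fact p.Prime] (D : Dat G p q a) {u : G} (hu : Pel p u) (huc : u ∉ Subgroup.center G)
    {g : G} (hg : g * u * g⁻¹ * u⁻¹ ∈ Subgroup.center G) : g ∈ cz u := by
  have hpp : p.Prime := Fact.out
  -- the subgroup of such elements
  let Dg : Subgroup G := (cz (QuotientGroup.mk' (Subgroup.center G) u)).comap (QuotientGroup.mk' (Subgroup.center G))
  have hDg : ∀ g : G, g ∈ Dg ↔ g * u * g⁻¹ * u⁻¹ ∈ Subgroup.center G := by
    intro g
    show _ ∈ cz _ ↔ _
    rw [mem_cz, ← map_mul, ← map_mul, QuotientGroup.mk'_apply, QuotientGroup.mk'_apply, QuotientGroup.eq]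
    have e : (g * u)⁻¹ * (u * g) = (u * g)⁻¹ * (g * u * g⁻¹ * u⁻¹)⁻¹ * (u * g) := by group
    rw [e]
    constructor
    · intro h
      have h1 := (inferInstance : (Subgroup.center G).Normal).conj_mem _ h (u * g)
      have e2 : u * g * ((u * g)⁻¹ * (g * u * g⁻¹ * u⁻¹)⁻¹ * (u * g)) * (u * g)⁻¹ = (g * u * g⁻¹ * u⁻¹)⁻¹ := by group
      rw [e2] at h1
      exact (Subgroup.inv_mem_iff _).1 h1
    · intro h
      have h1 := (inferInstance : (Subgroup.center G).Normal).conj_mem _ (Subgroup.inv_mem _ h) (u * g)⁻¹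
      rwa [inv_inv] at h1
  have hgD : g ∈ Dg := (hDg g).2 hg
  obtain ⟨x, w, hx, hw, hgxw, hxp, hwp⟩ := split g hpp
  have hxD : x ∈ Dg := (Subgroup.zpowers_le.2 hgD) hx
  have hwD : w ∈ Dg := (Subgroup.zpowers_le.2 hgD) hw
  -- the `p'`-part
  have h1 : w ∈ cz u := by
    have h2 := (hDg w).1 hwD
    set z := w * u * w⁻¹ * u⁻¹ with hz
    have hconj : w * u * w⁻¹ = z * u := by rw [hz]; group
    have hzc : ∀ y : G, Commute z y := fun y => ((Subgroup.mem_center_iff.1 h2 y)).symm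
    obtain ⟨k, hk⟩ := hu
    have h3 : z ^ p ^ k = 1 := by
      have h4 : (w * u * w⁻¹) ^ p ^ k = 1 := by rw [conj_pow, hk, mul_one, mul_inv_cancel]
      rw [hconj, (hzc u).mul_pow, hk, mul_one] at h4
      exact h4
    have h4 : ∀ n : ℕ, w ^ n * u * (w ^ n)⁻¹ = z ^ n * u := by
      intro n
      induction n with
      | zero => simp
      | succ n ih =>
        calc w ^ (n + 1) * u * (w ^ (n + 1))⁻¹ = w * (w ^ n * u * (w ^ n)⁻¹) * w⁻¹ := by rw [pow_succ']; group
          _ = w * (z ^ n * u) * w⁻¹ := by rw [ih]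
          _ = z ^ n * (w * u * w⁻¹) := by
            rw [← mul_assoc w, ← ((hzc w).pow_left n).eq]; group
          _ = z ^ (n + 1) * u := by rw [hconj, pow_succ]; exact (mul_assoc _ _ _).symm
    have h5 : z ^ orderOf w = 1 := by
      have h6 := h4 (orderOf w)
      rw [pow_orderOf_eq_one, one_mul, inv_one, mul_one] at h6
      exact (mul_eq_right.1 h6.symm)
    have h6 : orderOf z ∣ 1 := by
      have h7 : (p ^ k).Coprime (orderOf w) := Nat.Coprime.pow_left k ((Nat.Prime.coprime_iff_not_dvd hpp).2 hwp)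
      rw [← h7]
      exact Nat.dvd_gcd (orderOf_dvd_of_pow_eq_one h3) (orderOf_dvd_of_pow_eq_one h5)
    have h7 : z = 1 := orderOf_eq_one_iff.1 (Nat.dvd_one.1 h6)
    rw [h7, one_mul] at hconj
    rw [mem_cz]
    exact mul_inv_eq_iff_eq_mul.1 hconj
  -- the `p`-part
  have h2 : x ∈ cz u := by
    apply D.norm_mem hu huc hxp
    have h2 := (hDg x).1 hxD
    have hconj : x * u * x⁻¹ = (x * u * x⁻¹ * u⁻¹) * u := by group
    have h3 : cz (x * u * x⁻¹) = cz u := by rw [hconj]; exact cz_mul_center h2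
    intro y
    conv_rhs => rw [← h3]
    rw [mem_cz, mem_cz]
    constructor
    · intro h
      calc x * y * x⁻¹ * (x * u * x⁻¹) = x * (y * u) * x⁻¹ := by group
        _ = x * (u * y) * x⁻¹ := by rw [h]
        _ = _ := by group
    · intro h
      have h4 : x * (y * u) * x⁻¹ = x * (u * y) * x⁻¹ := by
        calc x * (y * u) * x⁻¹ = x * y * x⁻¹ * (x * u * x⁻¹) := by group
          _ = _ := by rw [h]; group
      exact mul_left_cancel (mul_right_cancel h4)
  rw [hgxw]
  exact Subgroup.mul_mem _ h2 h1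

/-- the quotient map -/
abbrev qm (G : Type u) [Group G] : G →* G ⧸ Subgroup.center G := QuotientGroup.mk' (Subgroup.center G)

theorem qm_surjective : Function.Surjective (qm G) := QuotientGroup.mk'_surjective _

theorem qm_eq_one {g : G} : qm G g = 1 ↔ g ∈ Subgroup.center G := QuotientGroup.eq_one_iff g

theorem Dat.comap_cz [Fact p.Prime] (D : Dat G p q a) {u : G} (hu : Pel p u) (huc : u ∉ Subgroup.center G) :
    (cz (qm G u)).comap (qm G) = cz u := by
  apply le_antisymm
  · intro g hg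
    apply D.comm_center hu huc
    rw [← qm_eq_one, map_mul, map_mul, map_mul, map_inv, map_inv]
    have h1 : qm G g * qm G u = qm G u * qm G g := mem_cz.1 hg
    rw [h1]; group
  · intro g hg
    show qm G g ∈ cz (qm G u)
    rw [mem_cz, ← map_mul, ← map_mul, mem_cz.1 hg]

theorem Dat.index_cz_qm [Fact p.Prime] (D : Dat G p q a) {u : G} (hu : Pel p u) (huc : u ∉ Subgroup.center G) :
    (cz (qm G u)).index = a := by
  rw [← D.all_a hu huc, ← D.comap_cz hu huc, Subgroup.index_comap_of_surjective _ qm_surjective]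

/-- lifting `p`-elements -/
theorem lift_pel [Fact p.Prime] {y : G ⧸ Subgroup.center G} (hy : Pel p y) :
    ∃ u : G, Pel p u ∧ qm G u = y := by
  have hpp : p.Prime := Fact.out
  obtain ⟨g, rfl⟩ := qm_surjective (G := G) y
  obtain ⟨x, w, hx, hw, hgxw, hxp, hwp⟩ := split g hpp
  refine ⟨x, hxp, ?_⟩
  have h1 : qm G w = 1 := by
    obtain ⟨k, hk⟩ := hy
    have h2 : (qm G w) ^ p ^ k = 1 := by
      obtain ⟨i, hi⟩ := Subgroup.mem_zpowers_iff.1 hw
      rw [← hi, map_zpow, ← zpow_natCast, ← zpow_mul, mul_comm, zpow_mul, zpow_natCast, hk, one_zpow]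
    have h3 : orderOf (qm G w) ∣ orderOf w := orderOf_map_dvd _ _
    have h4 : orderOf (qm G w) ∣ p ^ k := orderOf_dvd_of_pow_eq_one h2
    have h5 : (p ^ k).Coprime (orderOf w) := Nat.Coprime.pow_left k ((Nat.Prime.coprime_iff_not_dvd hpp).2 hwp)
    have h6 : orderOf (qm G w) ∣ 1 := by rw [← h5]; exact Nat.dvd_gcd h4 h3
    exact orderOf_eq_one_iff.1 (Nat.dvd_one.1 h6)
  rw [hgxw, map_mul, h1, mul_one]

theorem Pel.map {H : Type u} [Group H] {x : G} (hx : Pel p x) (f : G →* H) : Pel p (f x) := by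
  obtain ⟨k, hk⟩ := hx
  exact ⟨k, by rw [← map_pow, hk, map_one]⟩

theorem card_quot : Nat.card (G ⧸ Subgroup.center G) = (Subgroup.center G).index := rfl

end Cfsg.Agent.H35.PS
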