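import Cfsg.Agent.H35.PSa
import Cfsg.Agent.S0658
import Cfsg.Agent.S0632
import Cfsg.Agent.S0657
import Cfsg.Agent.H1.PCon

/-!
# If all centralizers of `p`-elements are Sylow subgroups (`p` odd) then the Sylow subgroups are abelian
-/

set_option autoImplicit false
set_option linter.style.haveILetI false
set_option linter.unusedSectionVars false

namespace Cfsg.Agent.H35.PS

open Cfsg.Agent.SC Cfsg.Agent.H35.CR

universe u

variable {G : Type u} [Group G] [Finite G] {p : ℕ}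

/-- a normal `p`-subgroup lies in `O_{p',p}` -/
theorem le_pPrimePCore_of_normal {X : Type u} [Group X] [Finite X] {N : Subgroup X} (hN : N.Normal) (hNp : IsPGroup p N) :
    N ≤ Cfsg.pPrimePCore p X := by
  rw [Cfsg.pPrimePCore, ← Subgroup.map_le_iff_le_comap]
  apply Cfsg.Agent.Solv.le_pCore
  · exact hN.map _ (QuotientGroup.mk'_surjective _)
  · exact hNp.map _

theorem two_dvd_card_sl (hp : p.Prime) (hp2 : p ≠ 2) : 2 ∣ Nat.card (Matrix.SpecialLinearGroup (Fin 2) (ZMod p)) := by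
  haveI : Fact p.Prime := ⟨hp⟩
  have h1 : orderOf (-1 : Matrix.SpecialLinearGroup (Fin 2) (ZMod p)) = 2 := by
    apply orderOf_eq_prime
    · rw [neg_one_sq]
    · intro h
      have h2 := congrArg (fun M : Matrix.SpecialLinearGroup (Fin 2) (ZMod p) => M 0 0) h
      simp only [Matrix.SpecialLinearGroup.coe_neg, Matrix.SpecialLinearGroup.coe_one, Matrix.neg_apply,
        Matrix.one_apply_eq] at h2
      have h3 : ((2 : ℕ) : ZMod p) = 0 := by
        push_cast
        linear_combination -h2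
      rw [ZMod.natCast_eq_zero_iff] at h3
      exact hp2 ((Nat.prime_dvd_prime_iff_eq hp Nat.prime_two).1 h3)
  have h2 := orderOf_dvd_natCard (-1 : Matrix.SpecialLinearGroup (Fin 2) (ZMod p))
  rwa [h1] at h2

section

variable [Fact p.Prime] (hp2 : p ≠ 2)
  (hc : ∀ u : G, Pel p u → u ≠ 1 → ∃ P : Sylow p G, (P : Subgroup G) = cz u)

include hc in
theorem isPGroup_cz {u : G} (hu : Pel p u) (hu1 : u ≠ 1) : IsPGroup p (cz u) := by
  obtain ⟨P, hP⟩ := hc u hu hu1
  rw [← hP]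
  exact P.isPGroup'

include hc in
theorem pel_of_comm {u x : G} (hu : Pel p u) (hu1 : u ≠ 1) (hx : x * u = u * x) : Pel p x := by
  obtain ⟨k, hk⟩ := isPGroup_cz hc hu hu1 ⟨x, mem_cz.2 hx⟩
  exact ⟨k, congrArg Subtype.val hk⟩

include hp2 hc in
/-- an involution in a local subgroup forces abelian Sylow subgroups -/
theorem local_odd (P : Sylow p G) (hna : ¬ ∀ x ∈ (P : Subgroup G), ∀ y ∈ (P : Subgroup G), x * y = y * x)
    {Q : Subgroup G} (hQ : IsPGroup p Q) (hQ1 : Q ≠ ⊥) : Odd (Nat.card (Subgroup.normalizer (Q : Set G))) := by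
  have hpp : p.Prime := Fact.out
  rw [← Nat.not_even_iff_odd, even_iff_two_dvd]
  intro h2
  haveI : Fact (Nat.Prime 2) := ⟨Nat.prime_two⟩
  obtain ⟨⟨τ, hτN⟩, hτ⟩ := exists_prime_orderOf_dvd_card' 2 h2
  rw [Subgroup.orderOf_mk] at hτ
  have hτ1 : τ ≠ 1 := fun h => by rw [h, orderOf_one] at hτ; omega
  have hττ : τ * τ = 1 := by rw [← pow_two, ← hτ, pow_orderOf_eq_one]
  have hτinv : τ⁻¹ = τ := inv_eq_of_mul_eq_one_right hττ
  -- `τ` commutes with no nontrivial `p`-element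
  have hfree : ∀ x : G, Pel p x → τ * x = x * τ → x = 1 := by
    intro x hx hcx
    by_contra hx1
    obtain ⟨k, hk⟩ := pel_of_comm hc hx hx1 hcx
    have h3 : orderOf τ ∣ p ^ k := orderOf_dvd_of_pow_eq_one hk
    rw [hτ] at h3
    have h4 := Nat.prime_two.dvd_of_dvd_pow h3
    exact hp2 ((Nat.prime_dvd_prime_iff_eq Nat.prime_two hpp).1 h4).symm
  have hQpel : ∀ x ∈ Q, Pel p x := by
    intro x hx
    obtain ⟨k, hk⟩ := hQ ⟨x, hx⟩
    exact ⟨k, congrArg Subtype.val hk⟩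
  -- a central element of `Q`
  haveI : Nontrivial Q := (Subgroup.nontrivial_iff_ne_bot Q).2 hQ1
  haveI := hQ.center_nontrivial
  obtain ⟨⟨⟨u, huQ⟩, huc⟩, hu1⟩ := exists_ne (1 : Subgroup.center Q)
  have hu1' : u ≠ 1 := fun h => hu1 (by
    apply Subtype.ext; apply Subtype.ext; exact h)
  have hucent : ∀ x ∈ Q, x * u = u * x := by
    intro x hx
    have h3 := Subgroup.mem_center_iff.1 huc ⟨x, hx⟩
    exact congrArg Subtype.val h3
  have hτu : τ * u * τ⁻¹ ∈ Q := (Subgroup.mem_normalizer_iff.1 hτN u).1 huQ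
  have h3 : u * (τ * u * τ⁻¹) = 1 := by
    apply hfree _ (hQpel _ (Subgroup.mul_mem _ huQ hτu))
    have h4 := hucent _ hτu
    calc τ * (u * (τ * u * τ⁻¹)) = (τ * u * τ⁻¹) * (τ * τ) * u * τ⁻¹ := by group
      _ = (τ * u * τ⁻¹) * u * τ⁻¹ := by rw [hττ, mul_one]
      _ = u * (τ * u * τ⁻¹) * τ⁻¹ := by rw [h4]
      _ = u * (τ * u * τ⁻¹) * τ := by rw [hτinv]
  have h4 : τ * u * τ⁻¹ = u⁻¹ := (inv_eq_of_mul_eq_one_right h3).symm
  -- `τ` normalizes `C(u)`
  have hnorm : ∀ x ∈ cz u, τ * x * τ⁻¹ ∈ cz u := by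
    intro x hx
    rw [← cz_inv, ← h4, mem_cz]
    rw [mem_cz] at hx
    calc τ * x * τ⁻¹ * (τ * u * τ⁻¹) = τ * (x * u) * τ⁻¹ := by group
      _ = τ * (u * x) * τ⁻¹ := by rw [hx]
      _ = _ := by group
  let φ : cz u →* cz u :=
    { toFun := fun x => ⟨τ * x * τ⁻¹, hnorm x x.2⟩
      map_one' := by apply Subtype.ext; show τ * 1 * τ⁻¹ = 1; group
      map_mul' := by
        intro x y
        apply Subtype.ext
        show τ * (x * y : G) * τ⁻¹ = τ * x * τ⁻¹ * (τ * y * τ⁻¹)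
        group }
  have hφ : MonoidHom.FixedPointFree φ := by
    rintro ⟨x, hx⟩ h5
    have h6 : τ * x * τ⁻¹ = x := congrArg Subtype.val h5
    apply Subtype.ext
    apply hfree x (pel_of_comm hc (hQpel u huQ) hu1' (mem_cz.1 hx))
    exact mul_inv_eq_iff_eq_mul.1 h6
  have hφ2 : Function.Involutive φ := by
    rintro ⟨x, hx⟩
    apply Subtype.ext
    show τ * (τ * x * τ⁻¹) * τ⁻¹ = x
    calc τ * (τ * x * τ⁻¹) * τ⁻¹ = (τ * τ) * x * (τ * τ)⁻¹ := by group
      _ = x := by rw [hττ]; group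
  obtain ⟨R, hR⟩ := hc u (hQpel u huQ) hu1'
  have hRc : ∀ x ∈ (R : Subgroup G), ∀ y ∈ (R : Subgroup G), x * y = y * x := by
    intro x hx y hy
    have h5 := hφ.commute_all_of_involutive hφ2 ⟨x, hR ▸ hx⟩ ⟨y, hR ▸ hy⟩
    exact congrArg Subtype.val h5.eq
  obtain ⟨g, hg⟩ := MulAction.exists_smul_eq G P R
  apply hna
  intro x hx y hy
  have hmem : ∀ x ∈ (P : Subgroup G), g * x * g⁻¹ ∈ (R : Subgroup G) := by
    intro x hx
    rw [← hg, Sylow.coe_subgroup_smul]
    exact Subgroup.smul_mem_pointwise_smul _ _ _ hx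
  have h5 := hRc _ (hmem x hx) _ (hmem y hy)
  have h6 : g * (x * y) * g⁻¹ = g * (y * x) * g⁻¹ := by
    calc g * (x * y) * g⁻¹ = g * x * g⁻¹ * (g * y * g⁻¹) := by group
      _ = g * y * g⁻¹ * (g * x * g⁻¹) := h5
      _ = _ := by group
  exact mul_left_cancel (mul_right_cancel h6)

include hp2 hc in
/-- local analysis: the local subgroups satisfy the hypotheses of Glauberman's theorem -/
theorem local_facts {Q : Subgroup G} (hQ : IsPGroup p Q) (hQ1 : Q ≠ ⊥)
    (hodd : Odd (Nat.card (Subgroup.normalizer (Q : Set G)))) :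
    Cfsg.pPrimeCore p ↥(Subgroup.normalizer (Q : Set G)) = ⊥ ∧
      Cfsg.IsPConstrained p ↥(Subgroup.normalizer (Q : Set G)) ∧
      Cfsg.IsPStable p ↥(Subgroup.normalizer (Q : Set G)) := by
  have hpp : p.Prime := Fact.out
  set N := Subgroup.normalizer (Q : Set G) with hN
  obtain ⟨⟨u, huQ⟩, hu1⟩ : ∃ u : Q, u ≠ 1 := by
    haveI : Nontrivial Q := (Subgroup.nontrivial_iff_ne_bot Q).2 hQ1
    exact exists_ne 1
  have hu1' : u ≠ 1 := fun h => hu1 (Subtype.ext h)
  have hupel : Pel p u := by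
    obtain ⟨k, hk⟩ := hQ ⟨u, huQ⟩
    exact ⟨k, congrArg Subtype.val hk⟩
  have hQN : Q ≤ N := Subgroup.le_normalizer
  haveI hQ'n : (Q.subgroupOf N).Normal := by rw [hN]; infer_instance
  have hQ'p : IsPGroup p (Q.subgroupOf N) := hQ.comap_subtype
  have hcop := Cfsg.Agent.Solv.pPrimeCore_card_coprime (G := N) p
  have h1 : Cfsg.pPrimeCore p N = ⊥ := by
    rw [eq_bot_iff]
    intro x hx
    have hdis : Disjoint (Cfsg.pPrimeCore p N) (Q.subgroupOf N) := by
      apply Subgroup.disjoint_of_coprime_natCard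
      obtain ⟨m, hm⟩ := IsPGroup.iff_card.1 hQ'p
      rw [hm]
      exact Nat.Coprime.pow_right m hcop
    have hcomm : x * ⟨u, hQN huQ⟩ = ⟨u, hQN huQ⟩ * x :=
      Subgroup.commute_of_normal_of_disjoint _ _ inferInstance hQ'n hdis x ⟨u, hQN huQ⟩ hx huQ
    have h2 : (x : G) * u = u * x := congrArg Subtype.val hcomm
    obtain ⟨k, hk⟩ := pel_of_comm hc hupel hu1' h2
    have h3 : orderOf x ∣ p ^ k := orderOf_dvd_of_pow_eq_one (Subtype.ext hk)
    have h4 : orderOf x ∣ Nat.card (Cfsg.pPrimeCore p N) := by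
      have := orderOf_dvd_natCard (⟨x, hx⟩ : Cfsg.pPrimeCore p N)
      rwa [Subgroup.orderOf_mk] at this
    have h5 : orderOf x ∣ 1 := by
      have h6 : (Nat.card (Cfsg.pPrimeCore p N)).Coprime (p ^ k) := Nat.Coprime.pow_right k hcop
      rw [← h6]
      exact Nat.dvd_gcd h4 h3
    rw [Subgroup.mem_bot]
    exact orderOf_eq_one_iff.1 (Nat.dvd_one.1 h5)
  refine ⟨h1, ?_, ?_⟩
  · rw [hN, Cfsg.Agent.H1.isPConstrained_normalizer_iff hQ]
    have hCp : IsPGroup p (Subgroup.centralizer (Q : Set G)) := by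
      apply (isPGroup_cz hc hupel hu1').to_le
      intro x hx
      rw [Subgroup.mem_centralizer_iff] at hx
      exact mem_cz.2 (hx u huQ).symm
    have htop : Cfsg.pPrimePCore p (Subgroup.centralizer (Q : Set G)) = ⊤ := by
      rw [eq_top_iff]
      exact le_pPrimePCore_of_normal inferInstance (hCp.to_subgroup ⊤)
    intro P
    exact le_top.trans htop.ge
  · have hcore : Cfsg.pCore p N ≠ ⊥ := by
      intro h
      have h2 := Cfsg.Agent.Solv.le_pCore hQ'n hQ'p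
      rw [h, le_bot_iff] at h2
      have h3 : (⟨u, hQN huQ⟩ : N) ∈ Q.subgroupOf N := huQ
      rw [h2, Subgroup.mem_bot] at h3
      exact hu1' (congrArg Subtype.val h3)
    rw [Cfsg.Agent.S0632.result hcore]
    by_contra hns
    have hlt : Cfsg.pPrimeCore p N < Cfsg.pPrimePCore p N := by
      rw [h1, bot_lt_iff_ne_bot]
      intro h
      have h2 := le_pPrimePCore_of_normal (p := p) hQ'n hQ'p
      rw [h, le_bot_iff] at h2
      have h3 : (⟨u, hQN huQ⟩ : N) ∈ Q.subgroupOf N := huQ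
      rw [h2, Subgroup.mem_bot] at h3
      exact hu1' (congrArg Subtype.val h3)
    obtain ⟨K, L, hL, -, ⟨e⟩⟩ := Cfsg.Agent.S0657.result hp2 hlt hns
    have h2 := two_dvd_card_sl hpp hp2
    rw [← Nat.card_congr e.toEquiv] at h2
    have h3 : 2 ∣ Nat.card N := h2.trans ((Subgroup.card_quotient_dvd_card _).trans (Subgroup.card_subgroup_dvd_card K))
    exact (Nat.not_even_iff_odd.2 hodd) (even_iff_two_dvd.2 h3)

include hp2 hc in
theorem comm_of_odd (P : Sylow p G) : ∀ x ∈ (P : Subgroup G), ∀ y ∈ (P : Subgroup G), x * y = y * x := by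
  have hpp : p.Prime := Fact.out
  by_contra hna
  have hP1 : (P : Subgroup G) ≠ ⊥ := by
    intro h
    apply hna
    intro x hx y hy
    rw [h, Subgroup.mem_bot] at hx hy
    rw [hx, hy]
  have hloc : ∀ Q : Subgroup G, Q ≤ (P : Subgroup G) → Q ≠ ⊥ → Subgroup.normalizer (Q : Set G) ≤
      Subgroup.normalizer (Cfsg.centerThompsonAOf ((P : Subgroup G)) : Set G) := fun Q hQP hQ1 =>
    Cfsg.Agent.S0658.result hp2 (fun Q hQ hQ1 => local_facts hp2 hc hQ hQ1 (local_odd hp2 hc P hna hQ hQ1)) P Q hQP hQ1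
  set Z0 := Cfsg.centerThompsonAOf ((P : Subgroup G)) with hZ0
  set M := Subgroup.normalizer (Z0 : Set G) with hM
  have hZ01 : Z0 ≠ ⊥ := Cfsg.Agent.S0658.center_ne_bot hp2 P.isPGroup' hP1
  have hZ0P : Z0 ≤ (P : Subgroup G) := Cfsg.Agent.S0658.center_le _
  have hZ0M : Z0 ≤ M := Subgroup.le_normalizer
  have hPM : (P : Subgroup G) ≤ M := Subgroup.le_normalizer.trans (hloc P le_rfl hP1)
  obtain ⟨⟨z0, hz0⟩, hz01⟩ : ∃ u : Z0, u ≠ 1 := by
    haveI : Nontrivial Z0 := (Subgroup.nontrivial_iff_ne_bot Z0).2 hZ01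
    exact exists_ne 1
  have hz01' : z0 ≠ 1 := fun h => hz01 (Subtype.ext h)
  have hpelP : ∀ x ∈ (P : Subgroup G), Pel p x := fun x hx => Pel.of_mem_sylow hx
  -- the core of `M`
  let O := Cfsg.pCore p M
  have hOp : IsPGroup p O := Cfsg.Agent.Solv.pCore_isPGroup p
  let P' : Sylow p M := P.subtype hPM
  have hOP' : O ≤ (P' : Subgroup M) := Cfsg.Agent.Solv.pCore_le_sylow P'
  haveI hZ0n : (Z0.subgroupOf M).Normal := by rw [hM]; infer_instance
  have hZ0O : Z0.subgroupOf M ≤ O := Cfsg.Agent.Solv.le_pCore hZ0n ((P.isPGroup'.to_le hZ0P).comap_subtype)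
  have hCO : Subgroup.centralizer (O : Set M) ≤ O := by
    apply Cfsg.Agent.Solv.le_pCore
    · infer_instance
    · rintro ⟨⟨x, hxM⟩, hx⟩
      rw [Subgroup.mem_centralizer_iff] at hx
      have h1 := hx ⟨z0, hZ0M hz0⟩ (hZ0O hz0)
      have h2 : x * z0 = z0 * x := (congrArg Subtype.val h1).symm
      obtain ⟨k, hk⟩ := pel_of_comm hc (hpelP z0 (hZ0P hz0)) hz01' h2
      exact ⟨k, Subtype.ext (Subtype.ext hk)⟩
  -- central elements of `P` lie in `O`
  have hZP : ∀ z (hz : z ∈ (P : Subgroup G)), (∀ x ∈ (P : Subgroup G), x * z = z * x) →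
      (⟨z, hPM hz⟩ : M) ∈ O := by
    intro z hz hzc
    apply hCO
    rw [Subgroup.mem_centralizer_iff]
    rintro ⟨x, hxM⟩ hx
    apply Subtype.ext
    exact hzc x (hOP' hx)
  -- for `u ∈ P` nontrivial, the Sylow subgroup `C(u)` is `M`-conjugate to `P`
  have key : ∀ u ∈ (P : Subgroup G), u ≠ 1 → ∃ m : M, ∀ x : G, x ∈ cz u ↔ (m : G)⁻¹ * x * m ∈ (P : Subgroup G) := by
    intro u hu hu1
    obtain ⟨R, hR⟩ := hc u (hpelP u hu) hu1
    have hRM : (R : Subgroup G) ≤ M := by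
      rw [hR]
      have h1 : Subgroup.zpowers u ≤ (P : Subgroup G) := Subgroup.zpowers_le.2 hu
      have h2 : Subgroup.zpowers u ≠ ⊥ := fun h => hu1 (Subgroup.zpowers_eq_bot.1 h)
      refine le_trans ?_ (hloc _ h1 h2)
      intro x hx
      apply Subgroup.centralizer_le_normalizer
      rw [Subgroup.mem_centralizer_iff]
      intro y hy
      obtain ⟨i, rfl⟩ := Subgroup.mem_zpowers_iff.1 hy
      exact ((show Commute x u from mem_cz.1 hx).zpow_right i).symm.eq
    obtain ⟨m, hm⟩ := MulAction.exists_smul_eq M P' (R.subtype hRM)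
    refine ⟨m, fun x => ?_⟩
    have hmem : ∀ y : M, y ∈ (R.subtype hRM : Subgroup M) ↔ m⁻¹ * y * m ∈ (P' : Subgroup M) := by
      intro y
      rw [← hm, Sylow.coe_subgroup_smul, Subgroup.mem_pointwise_smul_iff_inv_smul_mem]
      have : (MulAut.conj m)⁻¹ • y = m⁻¹ * y * m := by
        rw [← map_inv]
        show MulAut.conj m⁻¹ y = _
        rw [MulAut.conj_apply, inv_inv]
      rw [this]
    constructor
    · intro hx
      have hxM : x ∈ M := hRM (hR ▸ hx)
      exact (hmem ⟨x, hxM⟩).1 (show x ∈ (R : Subgroup G) from hR ▸ hx)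
    · intro hx
      have hxM : x ∈ M := by
        have h1 : (m : G) * ((m : G)⁻¹ * x * m) * (m : G)⁻¹ ∈ M :=
          Subgroup.mul_mem _ (Subgroup.mul_mem _ m.2 (hPM hx)) (Subgroup.inv_mem _ m.2)
        have e : (m : G) * ((m : G)⁻¹ * x * m) * (m : G)⁻¹ = x := by group
        rwa [e] at h1
      have h1 := (hmem ⟨x, hxM⟩).2 hx
      have h2 : x ∈ (R : Subgroup G) := h1
      rw [← hR]; exact h2
  -- `P ≤ O`
  have hPO : (P' : Subgroup M) ≤ O := by
    rintro ⟨u, huM⟩ hu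
    have hu : u ∈ (P : Subgroup G) := hu
    by_cases hu1 : u = 1
    · have : (⟨u, huM⟩ : M) = 1 := Subtype.ext hu1
      rw [this]; exact Subgroup.one_mem _
    obtain ⟨m, hm⟩ := key u hu hu1
    have h1 : (m : G)⁻¹ * u * m ∈ (P : Subgroup G) := (hm u).1 (self_mem u)
    have h2 := hZP _ h1 (by
      intro x hx
      have h3 : (m : G) * x * (m : G)⁻¹ ∈ cz u := by
        rw [hm]
        have e : (m : G)⁻¹ * ((m : G) * x * (m : G)⁻¹) * m = x := by group
        rw [e]; exact hx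
      have h4 := mem_cz.1 h3
      calc x * ((m : G)⁻¹ * u * m) = (m : G)⁻¹ * ((m : G) * x * (m : G)⁻¹ * u) * m := by group
        _ = (m : G)⁻¹ * (u * ((m : G) * x * (m : G)⁻¹)) * m := by rw [h4]
        _ = _ := by group)
    have h3 : m * ⟨(m : G)⁻¹ * u * m, hPM h1⟩ * m⁻¹ ∈ O :=
      (inferInstance : (Cfsg.pCore p M).Normal).conj_mem _ h2 m
    have e : m * ⟨(m : G)⁻¹ * u * m, hPM h1⟩ * m⁻¹ = (⟨u, huM⟩ : M) := by
      apply Subtype.ext
      show (m : G) * ((m : G)⁻¹ * u * m) * (m : G)⁻¹ = u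
      group
    rwa [e] at h3
  have hPeq : (P' : Subgroup M) = O := le_antisymm hPO hOP'
  apply hna
  intro x hx y hy
  by_cases hy1 : y = 1
  · rw [hy1, mul_one, one_mul]
  obtain ⟨m, hm⟩ := key y hy hy1
  have h1 : x ∈ cz y := by
    rw [hm]
    have h2 : (⟨x, hPM hx⟩ : M) ∈ O := hPO hx
    have h3 : m⁻¹ * ⟨x, hPM hx⟩ * m⁻¹⁻¹ ∈ O := (inferInstance : (Cfsg.pCore p M).Normal).conj_mem _ h2 m⁻¹
    rw [inv_inv] at h3
    exact hOP' h3
  exact mem_cz.1 h1

end

end Cfsg.Agent.H35.PS
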