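import Cfsg.Agent.H35.PSa
import Cfsg.Agent.H70.Roots

/-!
# Counting elements of 2-power order
-/

set_option autoImplicit false
set_option linter.style.haveILetI false
set_option linter.unusedSectionVars false

namespace Cfsg.Agent.H35.PS

open Cfsg.Agent.SC Cfsg.Agent.H35.CR

universe u

variable {G : Type u} [Group G] [Finite G]

theorem sq_one_of_card {q : ℕ} (hcard : Nat.card G = q * (q ^ 2 - 1)) (hq : ∃ f, 1 ≤ f ∧ q = 2 ^ f)
    (hc : ∀ t : G, Pel 2 t → t ≠ 1 → (cz t).index = q ^ 2 - 1) (t : G) (ht : Pel 2 t) : t ^ 2 = 1 := by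
  classical
  haveI : Fact (Nat.Prime 2) := ⟨Nat.prime_two⟩
  haveI : Fintype G := Fintype.ofFinite G
  obtain ⟨f, hf, hqf⟩ := hq
  have hq2 : 2 ≤ q := by
    rw [hqf]
    calc 2 = 2 ^ 1 := rfl
      _ ≤ 2 ^ f := Nat.pow_le_pow_right (by norm_num) hf
  have h2G : 2 ∣ Nat.card G := by
    rw [hcard, hqf]
    exact (dvd_pow_self 2 (by omega)).mul_right _
  obtain ⟨t0, ht0⟩ := exists_prime_orderOf_dvd_card' 2 h2G
  have ht0p : Pel 2 t0 := ⟨1, by rw [pow_one, ← ht0, pow_orderOf_eq_one]⟩
  have ht01 : t0 ≠ 1 := ne_one_of_prime Nat.prime_two ht0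
  by_cases ht1 : t = 1
  · rw [ht1, one_pow]
  by_cases hcj : IsConj t0 t
  · obtain ⟨g, hg⟩ := isConj_iff.1 hcj
    rw [← hg, conj_pow, ← ht0, pow_orderOf_eq_one, mul_one, mul_inv_cancel]
  exfalso
  -- the number of nontrivial elements of `2`-power order
  let S : Finset G := Finset.univ.filter (fun x => Pel 2 x ∧ x ≠ 1)
  have hSd : q ^ 2 - 1 ∣ S.card := by
    have h1 := Cfsg.Agent.H70.dvd_sum_of_classFun (G := G) (fun x => if Pel 2 x ∧ x ≠ 1 then 1 else 0) (q ^ 2 - 1)
      (by
        intro g y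
        have e : (Pel 2 (g * y * g⁻¹) ∧ g * y * g⁻¹ ≠ 1) ↔ (Pel 2 y ∧ y ≠ 1) := by
          constructor
          · rintro ⟨⟨k, hk⟩, h⟩
            refine ⟨⟨k, ?_⟩, ?_⟩
            · rw [conj_pow] at hk
              have : y ^ 2 ^ k = g⁻¹ * (g * y ^ 2 ^ k * g⁻¹) * g := by group
              rw [this, hk]; group
            · rintro rfl
              apply h; group
          · rintro ⟨⟨k, hk⟩, h⟩
            refine ⟨⟨k, by rw [conj_pow, hk, mul_one, mul_inv_cancel]⟩, ?_⟩
            intro h2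
            apply h
            have : y = g⁻¹ * (g * y * g⁻¹) * g := by group
            rw [this, h2]; group
        simp only [e])
      (by
        intro y
        by_cases hy : Pel 2 y ∧ y ≠ 1
        · rw [if_pos hy, mul_one]
          exact (hc y hy.1 hy.2).symm.dvd
        · rw [if_neg hy, mul_zero]
          exact dvd_zero _)
    rwa [← Finset.card_filter] at h1
  have hN : Nat.card {z : G // Cfsg.Agent.H70.Pel 2 z} = S.card + 1 := by
    have h1 : Nat.card {z : G // Cfsg.Agent.H70.Pel 2 z} = (Finset.univ.filter (fun x : G => Pel 2 x)).card := by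
      rw [Nat.card_eq_fintype_card, Fintype.card_subtype]
      rfl
    rw [h1]
    have h2 : Finset.univ.filter (fun x : G => Pel 2 x) = insert 1 S := by
      ext x
      simp only [Finset.mem_filter, Finset.mem_univ, true_and, Finset.mem_insert, S]
      constructor
      · intro h
        by_cases hx : x = 1
        · exact Or.inl hx
        · exact Or.inr ⟨h, hx⟩
      · rintro (rfl | h)
        · exact ⟨0, by simp⟩
        · exact h.1
    rw [h2, Finset.card_insert_of_notMem]
    simp [S]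
  have hqN : q ∣ S.card + 1 := by
    rw [← hN, hqf]
    exact Cfsg.Agent.H70.dvd_card_pel 2 (Nat.card G) (G := G) rfl f (by
      rw [hcard, hqf]
      exact Dvd.intro _ rfl)
  -- two classes
  have hcl : ∀ s : G, Pel 2 s → s ≠ 1 → (Finset.univ.filter (fun x : G => IsConj s x)).card = q ^ 2 - 1 := by
    intro s hs hs1
    rw [← hc s hs hs1, Cfsg.Agent.H70.index_centralizer_eq, Nat.card_eq_fintype_card, Fintype.card_subtype]
  have hsub : ∀ s : G, Pel 2 s → s ≠ 1 → Finset.univ.filter (fun x : G => IsConj s x) ⊆ S := by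
    intro s hs hs1 x hx
    simp only [Finset.mem_filter, Finset.mem_univ, true_and, S] at hx ⊢
    obtain ⟨g, rfl⟩ := isConj_iff.1 hx
    obtain ⟨k, hk⟩ := hs
    refine ⟨⟨k, by rw [conj_pow, hk, mul_one, mul_inv_cancel]⟩, ?_⟩
    intro h2
    apply hs1
    have : s = g⁻¹ * (g * s * g⁻¹) * g := by group
    rw [this, h2]; group
  have hdis : Disjoint (Finset.univ.filter (fun x : G => IsConj t0 x)) (Finset.univ.filter (fun x : G => IsConj t x)) := by
    rw [Finset.disjoint_left]
    intro x hx hx'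
    simp only [Finset.mem_filter, Finset.mem_univ, true_and] at hx hx'
    exact hcj (hx.trans hx'.symm)
  have h2 : 2 * (q ^ 2 - 1) ≤ S.card := by
    calc 2 * (q ^ 2 - 1) = (Finset.univ.filter (fun x : G => IsConj t0 x)).card +
          (Finset.univ.filter (fun x : G => IsConj t x)).card := by
          rw [hcl t0 ht0p ht01, hcl t ht ht1]; ring
      _ = (Finset.univ.filter (fun x : G => IsConj t0 x) ∪ Finset.univ.filter (fun x : G => IsConj t x)).card :=
          (Finset.card_union_of_disjoint hdis).symm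
      _ ≤ S.card := Finset.card_le_card (Finset.union_subset (hsub t0 ht0p ht01) (hsub t ht ht1))
  have h3 : S.card + 1 ≤ q * (q ^ 2 - 1) := by
    rw [← hcard, ← hN]
    exact Finite.card_subtype_le _
  obtain ⟨c, hc'⟩ := hSd
  obtain ⟨m, hm⟩ : ∃ m, q ^ 2 = m + 1 := ⟨q ^ 2 - 1, by
    have : 0 < q ^ 2 := by positivity
    omega⟩
  have hm' : q ^ 2 - 1 = m := by omega
  rw [hm'] at hc' h2 h3
  rw [hc'] at h2 h3 hqN
  have hmpos : 0 < m := by nlinarith
  have hc2 : 2 ≤ c := by
    by_contra hlt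
    push Not at hlt
    interval_cases c <;> omega
  have hcq : c < q := by
    by_contra hle
    push Not at hle
    have : m * q ≤ m * c := Nat.mul_le_mul_left m hle
    rw [mul_comm q m] at h3
    omega
  -- `q ∣ c - 1`
  have h4 : (q : ℤ) ∣ (c : ℤ) - 1 := by
    have h5 : (q : ℤ) ∣ (m : ℤ) * c + 1 := by exact_mod_cast hqN
    have h6 : (c : ℤ) - 1 = (q : ℤ) * (q * c) - ((m : ℤ) * c + 1) := by
      have h7 : (q : ℤ) ^ 2 = m + 1 := by exact_mod_cast hm
      linear_combination (-(c : ℤ)) * h7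
    rw [h6]
    exact dvd_sub (Dvd.intro _ rfl) h5
  have h5 := Int.le_of_dvd (by omega) h4
  omega

end Cfsg.Agent.H35.PS
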