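import Cfsg.Agent.H35.PSb
import Cfsg.Agent.H35.PSc
import Cfsg.Agent.H35.PSd

/-!
# Groups with the class sizes of PSL(2,q), part E: the central quotient has abelian TI centralizers of `p`-elements
-/

set_option autoImplicit false
set_option linter.style.haveILetI false
set_option linter.unusedSectionVars false

namespace Cfsg.Agent.H35.PS

open Cfsg.Agent.SC Cfsg.Agent.H35.CR

universe u

/-- groups with abelian TI centralizers of `p`-elements -/
structure Good (H : Type u) [Group H] (p q a : ℕ) : Prop where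
  hp : p.Prime
  hqp : ∃ f, 1 ≤ f ∧ q = p ^ f
  hpa : ¬ p ∣ a
  hidx : ∀ u : H, Pel p u → u ≠ 1 → (cz u).index = a
  hcomm : ∀ u : H, Pel p u → u ≠ 1 → ∀ x ∈ cz u, ∀ y ∈ cz u, x * y = y * x
  hTI : ∀ u v : H, Pel p u → u ≠ 1 → Pel p v → v ≠ 1 → ∀ x, x ≠ 1 → x ∈ cz u → x ∈ cz v → cz u = cz v
  hsyl : ∀ P : Sylow p H, ∀ x ∈ (P : Subgroup H), ∀ y ∈ (P : Subgroup H), x * y = y * x
  hcard : ∃ b, Nat.card H = q * b ∧ ¬ p ∣ b

variable {G : Type u} [Group G] [Finite G] {p q a : ℕ}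

theorem comm_conj [Fact p.Prime] {H : Type u} [Group H] [Finite H] {P Q : Sylow p H}
    (hP : ∀ x ∈ (P : Subgroup H), ∀ y ∈ (P : Subgroup H), x * y = y * x) :
    ∀ x ∈ (Q : Subgroup H), ∀ y ∈ (Q : Subgroup H), x * y = y * x := by
  obtain ⟨g, hg⟩ := MulAction.exists_smul_eq H Q P
  have hmem : ∀ x ∈ (Q : Subgroup H), g * x * g⁻¹ ∈ (P : Subgroup H) := by
    intro x hx
    rw [← hg, Sylow.coe_subgroup_smul]
    exact Subgroup.smul_mem_pointwise_smul _ _ _ hx
  intro x hx y hy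
  have h5 := hP _ (hmem x hx) _ (hmem y hy)
  have h6 : g * (x * y) * g⁻¹ = g * (y * x) * g⁻¹ := by
    calc g * (x * y) * g⁻¹ = g * x * g⁻¹ * (g * y * g⁻¹) := by group
      _ = g * y * g⁻¹ * (g * x * g⁻¹) := h5
      _ = _ := by group
  exact mul_left_cancel (mul_right_cancel h6)

theorem pow_mul_cancel {p : ℕ} (hp : p.Prime) {m f a b : ℕ} (ha : ¬ p ∣ a) (hb : ¬ p ∣ b)
    (h : p ^ m * a = p ^ f * b) : m = f ∧ a = b := by
  have ha0 : 0 < a := Nat.pos_of_ne_zero (fun h => ha (h ▸ dvd_zero p))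
  have hb0 : 0 < b := Nat.pos_of_ne_zero (fun h => hb (h ▸ dvd_zero p))
  have e1 : (p ^ m * a).factorization p = m := by
    rw [Nat.factorization_mul (pow_pos hp.pos _).ne' ha0.ne', Finsupp.add_apply,
      Nat.factorization_eq_zero_of_not_dvd ha, add_zero, Nat.Prime.factorization_pow hp, Finsupp.single_eq_same]
  have e2 : (p ^ f * b).factorization p = f := by
    rw [Nat.factorization_mul (pow_pos hp.pos _).ne' hb0.ne', Finsupp.add_apply,
      Nat.factorization_eq_zero_of_not_dvd hb, add_zero, Nat.Prime.factorization_pow hp, Finsupp.single_eq_same]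
  rw [h, e2] at e1
  subst e1
  exact ⟨rfl, Nat.eq_of_mul_eq_mul_left (pow_pos hp.pos _) h⟩

/-- the Sylow `p`-subgroups of `G` are abelian -/
theorem Dat.sylow_comm [Fact p.Prime] (D : Dat G p q a) (h2 : p = 2 → a = q ^ 2 - 1) (P : Sylow p G) :
    ∀ x ∈ (P : Subgroup G), ∀ y ∈ (P : Subgroup G), x * y = y * x := by
  have hpp : p.Prime := Fact.out
  obtain ⟨P0, z, hzP, hzc, hPz, hza⟩ := D.exists_z
  apply comm_conj (P := P0)
  by_contra hna
  have hK : ∀ k ∈ cz z, ¬ p ∣ orderOf k → k ∈ Subgroup.center G := fun k hk hkp =>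
    D.central_of_nonabelian hzP hPz hza hna hk hkp
  obtain ⟨m, hm⟩ := relIndex_pow (p := p) hK
  obtain ⟨b, hb, hpb⟩ := D.index_center
  obtain ⟨f, hf, hqf⟩ := D.hqp
  have h3 := Subgroup.relIndex_mul_index (le_cz_of_center z)
  rw [hm, hza, hb, hqf] at h3
  obtain ⟨hmf, hab⟩ := pow_mul_cancel hpp D.hpa hpb h3
  subst hab
  have hcard : Nat.card (G ⧸ Subgroup.center G) = q * a := by rw [card_quot, hb]
  -- centralizers of `p`-elements in the quotient
  have hidx : ∀ y : G ⧸ Subgroup.center G, Pel p y → y ≠ 1 → (cz y).index = a := by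
    intro y hy hy1
    obtain ⟨u, hu, rfl⟩ := lift_pel hy
    exact D.index_cz_qm hu (fun h => hy1 (qm_eq_one.2 h))
  have hapos : 0 < a := Nat.pos_of_ne_zero (fun h => D.hpa (h ▸ dvd_zero p))
  have hc : ∀ y : G ⧸ Subgroup.center G, Pel p y → y ≠ 1 →
      ∃ P : Sylow p (G ⧸ Subgroup.center G), (P : Subgroup (G ⧸ Subgroup.center G)) = cz y := by
    intro y hy hy1
    have h4 := Subgroup.card_mul_index (cz y)
    rw [hidx y hy hy1, hcard] at h4
    have h5 : Nat.card (cz y) = p ^ f := by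
      rw [← hqf]
      exact Nat.eq_of_mul_eq_mul_right hapos h4
    refine ⟨(IsPGroup.of_card h5).toSylow ?_, rfl⟩
    rw [hidx y hy hy1]
    exact D.hpa
  have hcommbar : ∀ P : Sylow p (G ⧸ Subgroup.center G), ∀ x ∈ (P : Subgroup (G ⧸ Subgroup.center G)),
      ∀ y ∈ (P : Subgroup (G ⧸ Subgroup.center G)), x * y = y * x := by
    by_cases hp2 : p = 2
    · subst hp2
      have ha := h2 rfl
      have hsq := sq_one_of_card (G := G ⧸ Subgroup.center G) (q := q) (by rw [hcard, ha]) ⟨f, hf, hqf⟩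
        (fun t ht ht1 => by rw [hidx t ht ht1, ha])
      intro P x hx y hy
      have h4 := hsq x (Pel.of_mem_sylow hx)
      have h5 := hsq y (Pel.of_mem_sylow hy)
      have h6 := hsq (x * y) (Pel.of_mem_sylow (Subgroup.mul_mem _ hx hy))
      rw [pow_two] at h4 h5 h6
      have hx' : x⁻¹ = x := inv_eq_of_mul_eq_one_right h4
      have hy' : y⁻¹ = y := inv_eq_of_mul_eq_one_right h5
      have hxy : (x * y)⁻¹ = x * y := inv_eq_of_mul_eq_one_right h6
      rw [mul_inv_rev, hx', hy'] at hxy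
      exact hxy.symm
    · exact fun P => comm_of_odd hp2 hc P
  apply hna
  intro x hx y hy
  by_cases hyc : y ∈ Subgroup.center G
  · exact Subgroup.mem_center_iff.1 hyc x
  have h4 : IsPGroup p ((P0 : Subgroup G).map (qm G)) := P0.isPGroup'.map _
  obtain ⟨Q, hQ⟩ := h4.exists_le_sylow
  have h5 := hcommbar Q (qm G x) (hQ (Subgroup.mem_map_of_mem _ hx)) (qm G y) (hQ (Subgroup.mem_map_of_mem _ hy))
  have h6 : x ∈ (cz (qm G y)).comap (qm G) := mem_cz.2 h5
  rw [D.comap_cz (Pel.of_mem_sylow hy) hyc] at h6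
  exact mem_cz.1 h6

/-- centralizers of noncentral `p`-elements are abelian -/
theorem Dat.cz_comm [Fact p.Prime] (D : Dat G p q a) (h2 : p = 2 → a = q ^ 2 - 1) {u : G} (hu : Pel p u)
    (huc : u ∉ Subgroup.center G) : ∀ x ∈ cz u, ∀ y ∈ cz u, x * y = y * x := by
  obtain ⟨P, hP, hall⟩ := D.cz_sylow hu huc
  have hPc := D.sylow_comm h2 P
  have hua := D.all_a hu huc
  intro x hx y hy
  obtain ⟨s, w, hs, hw, hxsw, hsp, hwp⟩ := split x D.hp
  obtain ⟨s', w', hs', hw', hysw, hsp', hwp'⟩ := split y D.hp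
  have hsu : s ∈ cz u := (Subgroup.zpowers_le.2 hx) hs
  have hwu : w ∈ cz u := (Subgroup.zpowers_le.2 hx) hw
  have hsu' : s' ∈ cz u := (Subgroup.zpowers_le.2 hy) hs'
  have hwu' : w' ∈ cz u := (Subgroup.zpowers_le.2 hy) hw'
  have hwc : cz u ≤ cz w := D.le_of_coprime hua hwu (Pel.coprime D.hp hu hwp)
  have hwc' : cz u ≤ cz w' := D.le_of_coprime hua hwu' (Pel.coprime D.hp hu hwp')
  have h1 : Commute s s' := hPc s (hall s hsu hsp) s' (hall s' hsu' hsp')
  have h2 : Commute s w' := mem_cz.1 (hwc' hsu)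
  have h3 : Commute s' w := mem_cz.1 (hwc hsu')
  have h4 : Commute w' w := mem_cz.1 (hwc hwu')
  rw [hxsw, hysw]
  exact ((h1.mul_right h2).mul_left (h3.symm.mul_right h4.symm)).eq

theorem Dat.good [Fact p.Prime] (D : Dat G p q a) (h2 : p = 2 → a = q ^ 2 - 1) :
    Good (G ⧸ Subgroup.center G) p q a where
  hp := D.hp
  hqp := D.hqp
  hpa := D.hpa
  hidx := by
    intro y hy hy1
    obtain ⟨u, hu, rfl⟩ := lift_pel hy
    exact D.index_cz_qm hu (fun h => hy1 (qm_eq_one.2 h))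
  hcomm := by
    intro y hy hy1 v hv w hw
    obtain ⟨u, hu, rfl⟩ := lift_pel hy
    have huc : u ∉ Subgroup.center G := fun h => hy1 (qm_eq_one.2 h)
    obtain ⟨v, rfl⟩ := qm_surjective (G := G) v
    obtain ⟨w, rfl⟩ := qm_surjective (G := G) w
    have hv' : v ∈ (cz (qm G u)).comap (qm G) := hv
    have hw' : w ∈ (cz (qm G u)).comap (qm G) := hw
    rw [D.comap_cz hu huc] at hv' hw'
    rw [← map_mul, ← map_mul, D.cz_comm h2 hu huc v hv' w hw']
  hTI := by
    intro y y' hy hy1 hy' hy1' x hx1 hx hx'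
    obtain ⟨u, hu, rfl⟩ := lift_pel hy
    obtain ⟨u', hu', rfl⟩ := lift_pel hy'
    have huc : u ∉ Subgroup.center G := fun h => hy1 (qm_eq_one.2 h)
    have huc' : u' ∉ Subgroup.center G := fun h => hy1' (qm_eq_one.2 h)
    obtain ⟨x, rfl⟩ := qm_surjective (G := G) x
    have hxc : x ∉ Subgroup.center G := fun h => hx1 (qm_eq_one.2 h)
    have hv : x ∈ (cz (qm G u)).comap (qm G) := hx
    have hv' : x ∈ (cz (qm G u')).comap (qm G) := hx'
    rw [D.comap_cz hu huc] at hv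
    rw [D.comap_cz hu' huc'] at hv'
    have h3 : cz u ≤ cz x := fun t ht => mem_cz.2 (D.cz_comm h2 hu huc t ht x hv)
    have h4 : cz u' ≤ cz x := fun t ht => mem_cz.2 (D.cz_comm h2 hu' huc' t ht x hv')
    have h5 : cz u = cz u' := (D.eq_of_le (D.all_a hu huc) hxc h3).2.trans
      (D.eq_of_le (D.all_a hu' huc') hxc h4).2.symm
    rw [← D.comap_cz hu huc, ← D.comap_cz hu' huc'] at h5
    exact Subgroup.comap_injective qm_surjective h5
  hsyl := by
    intro P
    let P0 : Sylow p G := default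
    apply comm_conj (P := P0.mapSurjective qm_surjective)
    intro x hx y hy
    rw [Sylow.coe_mapSurjective, Subgroup.mem_map] at hx hy
    obtain ⟨x, hx, rfl⟩ := hx
    obtain ⟨y, hy, rfl⟩ := hy
    rw [← map_mul, ← map_mul, D.sylow_comm h2 P0 x hx y hy]
  hcard := by
    obtain ⟨b, hb, hpb⟩ := D.index_center
    exact ⟨b, by rw [card_quot, hb], hpb⟩

end Cfsg.Agent.H35.PS
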