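import Cfsg.Agent.H35.PSe

/-!
# Groups with the class sizes of PSL(2,q), part F: the action on the Sylow `p`-subgroups
-/

set_option autoImplicit false
set_option linter.style.haveILetI false
set_option linter.unusedSectionVars false

namespace Cfsg.Agent.H35.PS

open Cfsg.Agent.SC Cfsg.Agent.H35.CR

universe u v

theorem dvd_card_of_index {N : Type u} {X : Type v} [Group N] [Finite N] [MulAction N X] [Finite X] {m : ℕ}
    (h : ∀ x : X, (MulAction.stabilizer N x).index = m) : m ∣ Nat.card X := by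
  classical
  haveI : Finite (MulAction.orbitRel.Quotient N X) := Quotient.finite _
  haveI := Fintype.ofFinite (MulAction.orbitRel.Quotient N X)
  rw [Nat.card_congr (MulAction.selfEquivSigmaOrbits N X), Nat.card_sigma]
  apply Finset.dvd_sum
  intro o _
  have h1 : Nat.card (MulAction.orbit N o.out) = m := by
    rw [← h o.out, MulAction.index_stabilizer]
    rfl
  rw [h1]

variable {H : Type u} [Group H] [Finite H] {p q a : ℕ}

section

variable [Fact p.Prime]

theorem Good.le_cz (Gd : Good H p q a) {P : Sylow p H} {u : H} (hu : u ∈ (P : Subgroup H)) :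
    (P : Subgroup H) ≤ cz u := fun x hx => mem_cz.2 (Gd.hsyl P x hx u hu)

theorem Good.sylow_eq (Gd : Good H p q a) {P Q : Sylow p H} {u : H} (hu : Pel p u) (hu1 : u ≠ 1)
    (hP : (P : Subgroup H) ≤ cz u) (hQ : (Q : Subgroup H) ≤ cz u) : P = Q := by
  apply Sylow.ext
  apply le_antisymm
  · intro x hx
    apply (Pel.of_mem_sylow hx).mem_sylow_of_le_cz
    intro y hy
    exact mem_cz.2 (Gd.hcomm u hu hu1 y (hQ hy) x (hP hx))
  · intro x hx
    apply (Pel.of_mem_sylow hx).mem_sylow_of_le_cz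
    intro y hy
    exact mem_cz.2 (Gd.hcomm u hu hu1 y (hP hy) x (hQ hx))

theorem Good.inf (Gd : Good H p q a) {P Q : Sylow p H} {u : H} (hu1 : u ≠ 1) (hP : u ∈ (P : Subgroup H))
    (hQ : u ∈ (Q : Subgroup H)) : P = Q :=
  Gd.sylow_eq (Pel.of_mem_sylow hP) hu1 (Gd.le_cz hP) (Gd.le_cz hQ)

theorem Good.smul_ne (Gd : Good H p q a) {P Q : Sylow p H} (hPQ : P ≠ Q) {u : H} (hP : u ∈ (P : Subgroup H))
    (h : u • Q = Q) : u = 1 := by
  by_contra hu1
  apply hPQ
  apply Gd.inf hu1 hP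
  exact (Pel.of_mem_sylow hP).mem_sylow (Sylow.smul_eq_iff_mem_normalizer.1 h)

theorem Good.card_sylow (Gd : Good H p q a) (P : Sylow p H) : Nat.card P = q := by
  have hpp : p.Prime := Fact.out
  obtain ⟨f, hf, hqf⟩ := Gd.hqp
  obtain ⟨b, hb, hpb⟩ := Gd.hcard
  have hb0 : 0 < b := Nat.pos_of_ne_zero (fun h => hpb (h ▸ dvd_zero p))
  have h1 : Nat.card P = p ^ (Nat.card H).factorization p := P.card_eq_multiplicity
  rw [h1, hb, hqf, Nat.factorization_mul (pow_pos hpp.pos _).ne' hb0.ne', Finsupp.add_apply,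
    Nat.factorization_eq_zero_of_not_dvd hpb, add_zero, Nat.Prime.factorization_pow hpp, Finsupp.single_eq_same]

theorem Good.one_lt_q (Gd : Good H p q a) : 1 < q := by
  obtain ⟨f, hf, hqf⟩ := Gd.hqp
  rw [hqf]
  exact Nat.one_lt_pow (by omega) Gd.hp.one_lt

theorem Good.exists_ne (Gd : Good H p q a) (P : Sylow p H) : ∃ u ∈ (P : Subgroup H), u ≠ 1 := by
  have h1 := Gd.one_lt_q
  rw [← Gd.card_sylow P] at h1
  haveI : Nontrivial P := Finite.one_lt_card_iff_nontrivial.1 h1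
  obtain ⟨⟨u, hu⟩, hu1⟩ := _root_.exists_ne (1 : P)
  exact ⟨u, hu, fun h => hu1 (Subtype.ext h)⟩

theorem Good.cz_eq_cz (Gd : Good H p q a) {P : Sylow p H} {u v : H} (hu : u ∈ (P : Subgroup H)) (hu1 : u ≠ 1)
    (hv : v ∈ (P : Subgroup H)) (hv1 : v ≠ 1) : cz u = cz v :=
  Gd.hTI u v (Pel.of_mem_sylow hu) hu1 (Pel.of_mem_sylow hv) hv1 v hv1 (Gd.le_cz hu hv) (self_mem v)

/-- an element fixing `P` that commutes with a nontrivial element lies in the centralizer of `P` -/
theorem Good.cz_le_normalizer (Gd : Good H p q a) {P : Sylow p H} {u : H} (hu : u ∈ (P : Subgroup H)) (hu1 : u ≠ 1)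
    {c : H} (hc : c ∈ cz u) : c • P = P := by
  rw [Sylow.smul_eq_iff_mem_normalizer]
  show c ∈ Subgroup.normalizer ((P : Subgroup H) : Set H)
  rw [Subgroup.mem_normalizer_iff]
  intro x
  have hcomm : ∀ x ∈ (P : Subgroup H), c * x * c⁻¹ = x := by
    intro x hx
    rw [Gd.hcomm u (Pel.of_mem_sylow hu) hu1 c hc x (Gd.le_cz hu hx)]
    group
  constructor
  · intro hx
    rw [hcomm x hx]; exact hx
  · intro hx
    have h1 := Gd.hcomm u (Pel.of_mem_sylow hu) hu1 c⁻¹ (Subgroup.inv_mem _ hc) _ (Gd.le_cz hu hx)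
    have h2 : x = c * x * c⁻¹ := by
      calc x = c⁻¹ * (c * x * c⁻¹) * c := by group
        _ = c * x * c⁻¹ * c⁻¹ * c := by rw [h1]
        _ = _ := by group
    rw [h2]; exact hx

/-- the number of Sylow subgroups other than `P` is a multiple of `q` -/
theorem Good.q_dvd (Gd : Good H p q a) (P : Sylow p H) : q ∣ Nat.card {Q : Sylow p H // Q ≠ P} := by
  letI : MulAction P {Q : Sylow p H // Q ≠ P} :=
    { smul := fun x Q => ⟨(x : H) • Q.1, by
        intro h
        apply Q.2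
        have h1 : (x : H)⁻¹ • P = P := by
          rw [Sylow.smul_eq_iff_mem_normalizer]
          exact Subgroup.le_normalizer (Subgroup.inv_mem _ x.2)
        exact ((inv_smul_smul (x : H) Q.1).symm.trans (congrArg (fun R => (x : H)⁻¹ • R) h)).trans h1⟩
      one_smul := fun Q => Subtype.ext (one_smul H Q.1)
      mul_smul := fun x y Q => Subtype.ext (mul_smul (x : H) (y : H) Q.1) }
  have h1 : ∀ Q : {Q : Sylow p H // Q ≠ P}, (MulAction.stabilizer P Q).index = q := by
    intro Q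
    have h2 : MulAction.stabilizer P Q = ⊥ := by
      rw [eq_bot_iff]
      rintro ⟨x, hx⟩ h
      rw [MulAction.mem_stabilizer_iff] at h
      have h3 : x • Q.1 = Q.1 := congrArg Subtype.val h
      rw [Subgroup.mem_bot]
      exact Subtype.ext (Gd.smul_ne (Ne.symm Q.2) hx h3)
    rw [h2, Subgroup.index_bot]
    exact Gd.card_sylow P
  exact dvd_card_of_index h1

theorem card_ne (P : Sylow p H) : Nat.card {Q : Sylow p H // Q ≠ P} + 1 = Nat.card (Sylow p H) := by
  classical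
  haveI : Fintype (Sylow p H) := Fintype.ofFinite _
  rw [Nat.card_eq_fintype_card, Nat.card_eq_fintype_card, Fintype.card_subtype_compl, Fintype.card_subtype_eq]
  have : 0 < Fintype.card (Sylow p H) := Fintype.card_pos_iff.2 ⟨P⟩
  omega

/-- the index of the centralizer in the normalizer divides `q - 1` -/
theorem Good.w_dvd (Gd : Good H p q a) (P : Sylow p H) {u : H} (hu : u ∈ (P : Subgroup H)) (hu1 : u ≠ 1) :
    (cz u).relIndex (Subgroup.normalizer (P : Set H)) ∣ q - 1 := by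
  set N := Subgroup.normalizer (P : Set H) with hN
  have hPN : ∀ x ∈ N, ∀ y ∈ (P : Subgroup H), x * y * x⁻¹ ∈ (P : Subgroup H) := fun x hx y hy =>
    (Subgroup.mem_normalizer_iff.1 hx y).1 hy
  letI : MulAction N {x : P // x ≠ 1} :=
    { smul := fun g x => ⟨⟨(g : H) * x.1.1 * (g : H)⁻¹, hPN g g.2 _ x.1.2⟩, by
        intro h
        apply x.2
        have h1 : (g : H) * x.1.1 * (g : H)⁻¹ = 1 := congrArg Subtype.val h
        apply Subtype.ext
        show (x.1.1 : H) = 1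
        calc x.1.1 = (g : H)⁻¹ * ((g : H) * x.1.1 * (g : H)⁻¹) * g := by group
          _ = 1 := by rw [h1]; group⟩
      one_smul := by
        intro x
        apply Subtype.ext; apply Subtype.ext
        show (1 : H) * x.1.1 * (1 : H)⁻¹ = x.1.1
        group
      mul_smul := by
        intro g h x
        apply Subtype.ext; apply Subtype.ext
        show (g * h : H) * x.1.1 * (g * h : H)⁻¹ = g * (h * x.1.1 * (h : H)⁻¹) * (g : H)⁻¹
        group }
  have h1 : ∀ x : {x : P // x ≠ 1}, (MulAction.stabilizer N x).index = (cz u).relIndex N := by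
    rintro ⟨⟨x, hx⟩, hx1⟩
    have hx1' : x ≠ 1 := fun h => hx1 (Subtype.ext h)
    have h2 : MulAction.stabilizer N (⟨⟨x, hx⟩, hx1⟩ : {x : P // x ≠ 1}) = (cz u).subgroupOf N := by
      ext g
      rw [MulAction.mem_stabilizer_iff, Subgroup.mem_subgroupOf, Gd.cz_eq_cz hu hu1 hx hx1', mem_cz]
      constructor
      · intro h
        have h3 : (g : H) * x * (g : H)⁻¹ = x := congrArg (fun y => (y.1.1 : H)) h
        exact mul_inv_eq_iff_eq_mul.1 h3
      · intro h
        apply Subtype.ext; apply Subtype.ext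
        show (g : H) * x * (g : H)⁻¹ = x
        rw [h]; group
    rw [h2]
    rfl
  have h3 := dvd_card_of_index h1
  have h4 : Nat.card {x : P // x ≠ 1} = q - 1 := by
    classical
    haveI : Fintype P := Fintype.ofFinite _
    rw [Nat.card_eq_fintype_card, Fintype.card_subtype_compl, Fintype.card_subtype_eq, ← Nat.card_eq_fintype_card]
    exact congrArg (fun n => n - 1) (Gd.card_sylow P)
  rwa [h4] at h3

/-- the numerical step -/
theorem arith {q a d n w : ℕ} (hq : 1 < q) (hd : d = 1 ∨ d = 2) (hda : d * a = q ^ 2 - 1) (hn : q ∣ n - 1) (hn1 : 1 ≤ n)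
    (hw : w ∣ q - 1) (hnw : n * w = a) : n = q + 1 ∧ d * w = q - 1 := by
  obtain ⟨k, hk⟩ := hn
  have hn' : n = q * k + 1 := by omega
  have hwq : w ≤ q - 1 := Nat.le_of_dvd (by omega) hw
  have hq2 : q ^ 2 = d * a + 1 := by
    have : 0 < q ^ 2 := by positivity
    omega
  obtain ⟨e, he⟩ : ∃ e, e = d * w := ⟨_, rfl⟩
  have h1 : q ^ 2 = (q * k + 1) * e + 1 := by
    rw [hq2, ← hnw, hn', he]; ring
  have he2 : e ≤ 2 * (q - 1) := by
    rw [he]
    rcases hd with rfl | rfl
    · omega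
    · omega
  -- `q ∣ e + 1`
  have h2 : q ∣ e + 1 := by
    have h3 : (q : ℤ) ∣ (e : ℤ) + 1 := by
      have h4 : (e : ℤ) + 1 = q * (q - k * e) := by
        have h5 : (q : ℤ) ^ 2 = (q * k + 1) * e + 1 := by exact_mod_cast h1
        linear_combination -h5
      rw [h4]
      exact Dvd.intro _ rfl
    exact_mod_cast h3
  obtain ⟨m, hm⟩ := h2
  have hm1 : m = 1 := by
    rcases Nat.lt_or_ge m 2 with h | h
    · interval_cases m
      · omega
      · rfl
    · have : q * 2 ≤ q * m := Nat.mul_le_mul_left q h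
      omega
  rw [hm1, mul_one] at hm
  have he' : e = q - 1 := by omega
  refine ⟨?_, by rw [← he, he']⟩
  obtain ⟨r, rfl⟩ : ∃ r, q = r + 1 := ⟨q - 1, by omega⟩
  have he3 : e = r := by omega
  subst he3
  have h5 : e * (((e + 1) * k + 1)) = e * (e + 2) := by
    have : (e + 1) ^ 2 = ((e + 1) * k + 1) * e + 1 := h1
    nlinarith
  have hepos : 0 < e := by omega
  have h6 := Nat.eq_of_mul_eq_mul_left hepos h5
  rw [hn', h6]

/-- numerical hypotheses -/
structure GoodN (H : Type u) [Group H] (p q a d : ℕ) : Prop extends Good H p q a where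
  hd : d = 1 ∨ d = 2
  hda : d * a = q ^ 2 - 1

variable {d : ℕ}

theorem GoodN.numbers (Gd : GoodN H p q a d) (P : Sylow p H) :
    Nat.card (Sylow p H) = q + 1 ∧ ∀ u ∈ (P : Subgroup H), u ≠ 1 →
      d * (cz u).relIndex (Subgroup.normalizer (P : Set H)) = q - 1 := by
  have key : ∀ u ∈ (P : Subgroup H), u ≠ 1 → Nat.card (Sylow p H) = q + 1 ∧
      d * (cz u).relIndex (Subgroup.normalizer (P : Set H)) = q - 1 := by
    intro u hu hu1
    have hle : cz u ≤ Subgroup.normalizer (P : Set H) := fun c hc =>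
      Sylow.smul_eq_iff_mem_normalizer.1 (Gd.toGood.cz_le_normalizer hu hu1 hc)
    have h1 := Subgroup.relIndex_mul_index hle
    rw [Gd.toGood.hidx u (Pel.of_mem_sylow hu) hu1] at h1
    have h2 : (Subgroup.normalizer (P : Set H)).index = Nat.card (Sylow p H) := (P.card_eq_index_normalizer).symm
    rw [h2, mul_comm] at h1
    have h3 := card_ne P
    exact arith Gd.toGood.one_lt_q Gd.hd Gd.hda (by
      have := Gd.toGood.q_dvd P
      rwa [show Nat.card {Q : Sylow p H // Q ≠ P} = Nat.card (Sylow p H) - 1 by omega] at this) (by omega)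
      (Gd.toGood.w_dvd P hu hu1) h1
  obtain ⟨u, hu, hu1⟩ := Gd.toGood.exists_ne P
  exact ⟨(key u hu hu1).1, fun u hu hu1 => (key u hu hu1).2⟩

theorem GoodN.card_sylows (Gd : GoodN H p q a d) : Nat.card (Sylow p H) = q + 1 :=
  (Gd.numbers default).1

/-- `P` is transitive on the other Sylow subgroups -/
theorem GoodN.trans (Gd : GoodN H p q a d) {P Q R : Sylow p H} (hQ : Q ≠ P) (hR : R ≠ P) :
    ∃ x ∈ (P : Subgroup H), x • Q = R := by
  have hfix : ∀ x : P, (x : H)⁻¹ • P = P := by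
    intro x
    rw [Sylow.smul_eq_iff_mem_normalizer]
    exact Subgroup.le_normalizer (Subgroup.inv_mem _ x.2)
  let f : P → {Q : Sylow p H // Q ≠ P} := fun x => ⟨(x : H) • Q, by
    intro h
    apply hQ
    exact ((inv_smul_smul (x : H) Q).symm.trans (congrArg (fun R => (x : H)⁻¹ • R) h)).trans (hfix x)⟩
  have hf : Function.Injective f := by
    intro x y hxy
    have h1 : (x : H) • Q = (y : H) • Q := congrArg Subtype.val hxy
    have h2 : ((y : H)⁻¹ * x) • Q = Q := by rw [mul_smul, h1, inv_smul_smul]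
    have h3 := Gd.toGood.smul_ne (Ne.symm hQ) (Subgroup.mul_mem _ (Subgroup.inv_mem _ y.2) x.2) h2
    exact Subtype.ext (inv_mul_eq_one.1 h3).symm
  have hcard : Nat.card P = Nat.card {Q : Sylow p H // Q ≠ P} := by
    have h1 := card_ne P
    rw [Gd.card_sylows] at h1
    rw [Gd.toGood.card_sylow P]
    omega
  have hbij := (Nat.bijective_iff_injective_and_card f).2 ⟨hf, hcard⟩
  obtain ⟨x, hx⟩ := hbij.2 ⟨R, hR⟩
  exact ⟨x, x.2, congrArg Subtype.val hx⟩

theorem GoodN.exists_other (Gd : GoodN H p q a d) (P : Sylow p H) : ∃ Q : Sylow p H, Q ≠ P := by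
  have h1 := card_ne P
  rw [Gd.card_sylows] at h1
  have h2 : 0 < Nat.card {Q : Sylow p H // Q ≠ P} := by
    have := Gd.toGood.one_lt_q
    omega
  obtain ⟨⟨Q, hQ⟩⟩ := (Nat.card_pos_iff.1 h2).1
  exact ⟨Q, hQ⟩

theorem GoodN.two_trans (Gd : GoodN H p q a d) {P Q P' Q' : Sylow p H} (h : P ≠ Q) (h' : P' ≠ Q') :
    ∃ g : H, g • P = P' ∧ g • Q = Q' := by
  obtain ⟨g, hg⟩ := MulAction.exists_smul_eq H P P'
  have h1 : g • Q ≠ P' := by
    rw [← hg]
    intro h2
    exact h ((MulAction.injective g) h2).symm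
  obtain ⟨x, hx, hxQ⟩ := Gd.trans h1 (Ne.symm h')
  refine ⟨x * g, ?_, ?_⟩
  · rw [mul_smul, hg, Sylow.smul_eq_iff_mem_normalizer]
    exact Subgroup.le_normalizer hx
  · rw [mul_smul, hxQ]

/-- the action is faithful -/
theorem GoodN.faithful (Gd : GoodN H p q a d) {k : H} (hk : ∀ P : Sylow p H, k • P = P) : k = 1 := by
  by_contra hk1
  let P : Sylow p H := default
  obtain ⟨Q, hQ⟩ := Gd.exists_other P
  -- the kernel commutes with all `p`-elements
  have hcomm : ∀ (R : Sylow p H) (u : H), u ∈ (R : Subgroup H) → k ∈ cz u := by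
    intro R u hu
    obtain ⟨S, hS⟩ := Gd.exists_other R
    -- `c = k u k⁻¹ u⁻¹` is in `R` and fixes `S`
    have h1 : k * u * k⁻¹ * u⁻¹ ∈ (R : Subgroup H) := by
      apply Subgroup.mul_mem _ _ (Subgroup.inv_mem _ hu)
      exact (Subgroup.mem_normalizer_iff.1 (Sylow.smul_eq_iff_mem_normalizer.1 (hk R)) u).1 hu
    have h2 : (k * u * k⁻¹ * u⁻¹) • S = S := by
      have h3 : k⁻¹ • (u⁻¹ • S) = u⁻¹ • S := by
        have := hk (u⁻¹ • S)
        conv_lhs => rw [← this]
        rw [inv_smul_smul]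
      rw [mul_smul, mul_smul, mul_smul, h3, smul_inv_smul, hk]
    have h3 := Gd.toGood.smul_ne (Ne.symm hS) h1 h2
    rw [mem_cz]
    have h4 : k * u * k⁻¹ = u := mul_inv_eq_one.1 h3
    exact mul_inv_eq_iff_eq_mul.1 h4
  obtain ⟨u, hu, hu1⟩ := Gd.toGood.exists_ne P
  obtain ⟨v, hv, hv1⟩ := Gd.toGood.exists_ne Q
  have h1 := Gd.toGood.hTI u v (Pel.of_mem_sylow hu) hu1 (Pel.of_mem_sylow hv) hv1 k hk1 (hcomm P u hu) (hcomm Q v hv)
  apply hQ
  apply Gd.toGood.sylow_eq (Pel.of_mem_sylow hu) hu1 _ (Gd.toGood.le_cz hu)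
  rw [h1]
  exact Gd.toGood.le_cz hv

/-- `C(u) = P` -/
theorem GoodN.cz_eq (Gd : GoodN H p q a d) {P : Sylow p H} {u : H} (hu : u ∈ (P : Subgroup H)) (hu1 : u ≠ 1) :
    cz u = (P : Subgroup H) := by
  obtain ⟨Q, hQ⟩ := Gd.exists_other P
  have hup := Pel.of_mem_sylow hu
  -- elements of `C(u)` fixing `Q` are trivial
  have hfree : ∀ c ∈ cz u, c • Q = Q → c = 1 := by
    intro c hc hcQ
    apply Gd.faithful
    intro R
    by_cases hR : R = P
    · rw [hR]; exact Gd.toGood.cz_le_normalizer hu hu1 hc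
    · obtain ⟨x, hx, rfl⟩ := Gd.trans hQ hR
      have hcx : c * x = x * c := Gd.toGood.hcomm u hup hu1 c hc x (Gd.toGood.le_cz hu hx)
      rw [← mul_smul, hcx, mul_smul, hcQ]
  symm
  apply le_antisymm (Gd.toGood.le_cz hu)
  intro c hc
  by_cases hcQ : c • Q = Q
  · rw [hfree c hc hcQ]; exact Subgroup.one_mem _
  have hcQP : c • Q ≠ P := by
    intro h
    apply hQ
    have h2 : c⁻¹ • P = P := Gd.toGood.cz_le_normalizer hu hu1 (Subgroup.inv_mem _ hc)
    rw [← h2, ← h, inv_smul_smul]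
  obtain ⟨x, hx, hxQ⟩ := Gd.trans hQ hcQP
  have h1 : (x⁻¹ * c) • Q = Q := by rw [mul_smul, ← hxQ, inv_smul_smul]
  have h2 := hfree _ (Subgroup.mul_mem _ (Subgroup.inv_mem _ (Gd.toGood.le_cz hu hx)) hc) h1
  rw [inv_mul_eq_one] at h2
  rw [← h2]; exact hx

theorem GoodN.card (Gd : GoodN H p q a d) : Nat.card H = q * a := by
  let P : Sylow p H := default
  obtain ⟨u, hu, hu1⟩ := Gd.toGood.exists_ne P
  have h1 := Subgroup.card_mul_index (cz u)
  rw [Gd.toGood.hidx u (Pel.of_mem_sylow hu) hu1, Gd.cz_eq hu hu1] at h1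
  rw [← h1, ← Gd.toGood.card_sylow P]

/-- three-point stabilizers are trivial -/
theorem GoodN.three (Gd : GoodN H p q a d) {P Q R : Sylow p H} (hPQ : P ≠ Q) (hQR : Q ≠ R) (hPR : P ≠ R) {g : H}
    (h1 : g • P = P) (h2 : g • Q = Q) (h3 : g • R = R) : g = 1 := by
  obtain ⟨x, hx, hxQ⟩ := Gd.trans (Ne.symm hPQ) (Ne.symm hPR)
  have hx1 : x ≠ 1 := by
    rintro rfl
    rw [one_smul] at hxQ
    exact hQR hxQ
  -- `c = x⁻¹ g x g⁻¹`
  have hc1 : x⁻¹ * g * x * g⁻¹ ∈ (P : Subgroup H) := by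
    have e : x⁻¹ * g * x * g⁻¹ = x⁻¹ * (g * x * g⁻¹) := by group
    rw [e]
    apply Subgroup.mul_mem _ (Subgroup.inv_mem _ hx)
    exact (Subgroup.mem_normalizer_iff.1 (Sylow.smul_eq_iff_mem_normalizer.1 h1) x).1 hx
  have hc2 : (x⁻¹ * g * x * g⁻¹) • Q = Q := by
    have h4 : g⁻¹ • Q = Q := by
      conv_lhs => rw [← h2]
      rw [inv_smul_smul]
    rw [mul_smul, mul_smul, mul_smul, h4, hxQ, h3, ← hxQ, inv_smul_smul]
  have h4 := Gd.toGood.smul_ne hPQ hc1 hc2
  have h5 : g ∈ cz x := by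
    rw [mem_cz]
    have h6 : x⁻¹ * g * x = g := mul_inv_eq_one.1 h4
    calc g * x = x * (x⁻¹ * g * x) := by group
      _ = x * g := by rw [h6]
  rw [Gd.cz_eq hx hx1] at h5
  exact Gd.toGood.smul_ne hPQ h5 h2

/-- the order of the two-point stabilizers -/
theorem GoodN.card_stab (Gd : GoodN H p q a d) {P Q : Sylow p H} (hPQ : P ≠ Q) :
    d * Nat.card ↥(MulAction.stabilizer H P ⊓ MulAction.stabilizer H Q) = q - 1 := by
  -- `|N(P)| = q w`, and `P` acts regularly on the other points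
  obtain ⟨u, hu, hu1⟩ := Gd.toGood.exists_ne P
  have hw := (Gd.numbers P).2 u hu hu1
  rw [← hw]
  congr 1
  have hcz := Gd.cz_eq hu hu1
  rw [hcz]
  -- `N(P) = P · (N(P) ∩ N(Q))`
  have hN : MulAction.stabilizer H P = Subgroup.normalizer (P : Set H) := Sylow.stabilizer_eq_normalizer P
  rw [hN]
  set N := Subgroup.normalizer (P : Set H) with hNdef
  have hPN : (P : Subgroup H) ≤ N := Subgroup.le_normalizer
  have h1 : Nat.card N = Nat.card P * Nat.card ↥(N ⊓ MulAction.stabilizer H Q) := by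
    rw [← Nat.card_prod]
    symm
    apply Nat.card_congr
    refine Equiv.ofBijective (fun z : P × ↥(N ⊓ MulAction.stabilizer H Q) =>
      (⟨(z.1 : H) * (z.2 : H), Subgroup.mul_mem _ (hPN z.1.2) z.2.2.1⟩ : N)) ⟨?_, ?_⟩
    · rintro ⟨⟨x, hx⟩, ⟨y, hy⟩⟩ ⟨⟨x', hx'⟩, ⟨y', hy'⟩⟩ h
      have h2 : x * y = x' * y' := congrArg Subtype.val h
      have h3 : x'⁻¹ * x = y' * y⁻¹ := by
        calc x'⁻¹ * x = x'⁻¹ * (x * y) * y⁻¹ := by group
          _ = y' * y⁻¹ := by rw [h2]; group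
      have h4 : (x'⁻¹ * x) • Q = Q := by
        rw [h3]
        have h5 : y' * y⁻¹ ∈ MulAction.stabilizer H Q := Subgroup.mul_mem _ hy'.2 (Subgroup.inv_mem _ hy.2)
        exact h5
      have h5 := Gd.toGood.smul_ne hPQ (Subgroup.mul_mem _ (Subgroup.inv_mem _ hx') hx) h4
      have h6 : x = x' := (inv_mul_eq_one.1 h5).symm
      subst h6
      have h7 : y = y' := mul_left_cancel h2
      subst h7
      rfl
    · rintro ⟨n, hn⟩
      have h2 : n • Q ≠ P := by
        intro h3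
        apply hPQ
        have h4 : n⁻¹ • P = P := Sylow.smul_eq_iff_mem_normalizer.2 (Subgroup.inv_mem _ hn)
        rw [← h4, ← h3, inv_smul_smul]
      obtain ⟨x, hx, hxQ⟩ := Gd.trans (Ne.symm hPQ) h2
      refine ⟨⟨⟨x, hx⟩, ⟨x⁻¹ * n, Subgroup.mul_mem _ (Subgroup.inv_mem _ (hPN hx)) hn, ?_⟩⟩, ?_⟩
      · show (x⁻¹ * n) • Q = Q
        rw [mul_smul, ← hxQ, inv_smul_smul]
      · apply Subtype.ext
        show x * (x⁻¹ * n) = n
        group
  have h2 := Subgroup.card_mul_index ((P : Subgroup H).subgroupOf N)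
  rw [h1, Nat.card_congr (Subgroup.subgroupOfEquivOfLe hPN).toEquiv] at h2
  exact (Nat.eq_of_mul_eq_mul_left Nat.card_pos h2).symm

end

end Cfsg.Agent.H35.PS
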