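import Cfsg.Agent.H35.PSf
import Cfsg.Agent.H37.ZMain
import Cfsg.Agent.S1230
import Cfsg.Agent.ClassBase.RelHom

/-!
# Groups with the class sizes of PSL(2,q), part G: identification of the central quotient
-/

set_option autoImplicit false
set_option linter.style.haveILetI false
set_option linter.unusedSectionVars false

namespace Cfsg.Agent.H35.PS

open Cfsg.Agent.SC Cfsg.Agent.H35.CR

universe u v

/-- class sizes of elements of prime order modulo the centre -/
theorem index_lift {G : Type u} [Group G] [Finite G] {x : G} {r : ℕ} (hr : r.Prime) (hx : orderOf (qm G x) = r) :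
    ∃ j : ℕ, (cz x).index = (cz (qm G x)).index * r ^ j := by
  haveI : Fact r.Prime := ⟨hr⟩
  set D := (cz (qm G x)).comap (qm G) with hD
  have hxr : x ^ r ∈ Subgroup.center G := by
    rw [← qm_eq_one, map_pow, ← hx, pow_orderOf_eq_one]
  have hDmem : ∀ g ∈ D, g * x * g⁻¹ * x⁻¹ ∈ Subgroup.center G := by
    intro g hg
    rw [← qm_eq_one, map_mul, map_mul, map_mul, map_inv, map_inv]
    have h1 : qm G g * qm G x = qm G x * qm G g := mem_cz.1 hg
    rw [h1]; group
  have hle : cz x ≤ D := by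
    intro g hg
    show qm G g ∈ cz (qm G x)
    rw [mem_cz, ← map_mul, ← map_mul, mem_cz.1 hg]
  let φ : D →* Subgroup.center G :=
    { toFun := fun g => ⟨(g : G) * x * (g : G)⁻¹ * x⁻¹, hDmem g g.2⟩
      map_one' := by apply Subtype.ext; show (1 : G) * x * (1 : G)⁻¹ * x⁻¹ = 1; group
      map_mul' := by
        intro g h
        apply Subtype.ext
        show (g * h : G) * x * (g * h : G)⁻¹ * x⁻¹ = (g * x * (g : G)⁻¹ * x⁻¹) * (h * x * (h : G)⁻¹ * x⁻¹)
        have h1 := Subgroup.mem_center_iff.1 (hDmem h h.2) g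
        have h2 : (g * h : G) * x * (g * h : G)⁻¹ * x⁻¹ = (g : G) * ((h : G) * x * (h : G)⁻¹ * x⁻¹) * (x * (g : G)⁻¹ * x⁻¹) := by
          group
        have h3 := Subgroup.mem_center_iff.1 (hDmem h h.2) ((g : G) * x * (g : G)⁻¹ * x⁻¹)
        rw [h2, h1, h3]
        group }
  have hker : φ.ker = (cz x).subgroupOf D := by
    ext g
    rw [MonoidHom.mem_ker, Subgroup.mem_subgroupOf, mem_cz]
    constructor
    · intro h
      have h1 : (g : G) * x * (g : G)⁻¹ * x⁻¹ = 1 := congrArg Subtype.val h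
      exact mul_inv_eq_iff_eq_mul.1 (mul_inv_eq_one.1 h1)
    · intro h
      apply Subtype.ext
      show (g : G) * x * (g : G)⁻¹ * x⁻¹ = 1
      rw [h]; group
  have hrange : IsPGroup r φ.range := by
    rintro ⟨z, hz⟩
    refine ⟨1, ?_⟩
    obtain ⟨g, rfl⟩ := hz
    rw [pow_one]
    apply Subtype.ext
    apply Subtype.ext
    show ((g : G) * x * (g : G)⁻¹ * x⁻¹) ^ r = 1
    set z := (g : G) * x * (g : G)⁻¹ * x⁻¹ with hz
    have hzc : Commute z x := ((Subgroup.mem_center_iff.1 (hDmem g g.2)) x).symm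
    have h1 : (g : G) * x * (g : G)⁻¹ = z * x := by rw [hz]; group
    have h2 : ((g : G) * x * (g : G)⁻¹) ^ r = x ^ r := by
      rw [conj_pow, Subgroup.mem_center_iff.1 hxr (g : G), mul_inv_cancel_right]
    rw [h1, hzc.mul_pow] at h2
    exact mul_eq_right.1 h2
  obtain ⟨j, hj⟩ := IsPGroup.iff_card.1 hrange
  refine ⟨j, ?_⟩
  have h1 := Subgroup.relIndex_mul_index hle
  have h2 : (cz x).relIndex D = r ^ j := by
    rw [← hj, ← Subgroup.index_ker, hker]
    rfl
  have h3 : D.index = (cz (qm G x)).index := Subgroup.index_comap_of_surjective _ qm_surjective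
  rw [← h1, h2, h3, mul_comm]

section

variable {G : Type u} [Group G] [Finite G] {p q a d : ℕ} [Fact p.Prime]

/-- no regular normal subgroup -/
theorem GoodN.no_regular (Gd : GoodN (G ⧸ Subgroup.center G) p q a d)
    (hreg : ∀ r b j : ℕ, r.Prime → q + 1 = r ^ b → ∀ x : G, orderOf (qm G x) = r → (cz x).index ≠ q * r ^ j)
    (M : Subgroup (G ⧸ Subgroup.center G)) (hM : M.Normal)
    (htr : MulAction.IsPretransitive M (Sylow p (G ⧸ Subgroup.center G)))
    (hst : ∀ P : Sylow p (G ⧸ Subgroup.center G), MulAction.stabilizer M P = ⊥) : False := by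
  classical
  set H := G ⧸ Subgroup.center G with hH
  let P : Sylow p H := default
  -- the order of `M`
  have hcardM : Nat.card M = q + 1 := by
    have h1 := MulAction.index_stabilizer (M) P
    rw [hst P, Subgroup.index_bot] at h1
    rw [h1, MulAction.orbit_eq_univ, Set.ncard_univ, Gd.card_sylows]
  have hq1 := Gd.toGood.one_lt_q
  -- elements of `P` are not in `M`
  have hPM : ∀ u ∈ (P : Subgroup H), u ∈ M → u = 1 := by
    intro u hu huM
    have h1 : (⟨u, huM⟩ : M) ∈ MulAction.stabilizer M P := by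
      show (u : H) • P = P
      rw [Sylow.smul_eq_iff_mem_normalizer]
      exact Subgroup.le_normalizer hu
    rw [hst P, Subgroup.mem_bot] at h1
    exact congrArg Subtype.val h1
  have hfree : ∀ m ∈ M, m ≠ 1 → ∀ u ∈ (P : Subgroup H), u * m = m * u → u = 1 := by
    intro m hm hm1 u hu hum
    by_contra hu1
    have h1 : m ∈ cz u := mem_cz.2 hum.symm
    rw [Gd.cz_eq hu hu1] at h1
    exact hm1 (hPM m h1 hm)
  haveI : Nontrivial M := Finite.one_lt_card_iff_nontrivial.1 (by rw [hcardM]; omega)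
  obtain ⟨⟨m1, hm1M⟩, hm1⟩ := _root_.exists_ne (1 : M)
  have hm1' : m1 ≠ 1 := fun h => hm1 (Subtype.ext h)
  obtain ⟨r, k, hr, hrk⟩ := exists_prime_power hm1'
  set m := m1 ^ k with hmdef
  have hmM : m ∈ M := Subgroup.pow_mem _ hm1M _
  have hm_ne : m ≠ 1 := ne_one_of_prime hr hrk
  -- all nontrivial elements of `M` are conjugate to `m`
  let f : P → {x : M // x ≠ 1} := fun u => ⟨⟨(u : H) * m * (u : H)⁻¹, hM.conj_mem _ hmM _⟩, by
    intro h
    have h1 : (u : H) * m * (u : H)⁻¹ = 1 := congrArg Subtype.val h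
    apply hm_ne
    calc m = (u : H)⁻¹ * ((u : H) * m * (u : H)⁻¹) * u := by group
      _ = 1 := by rw [h1]; group⟩
  have hf : Function.Injective f := by
    intro u v huv
    have h1 : (u : H) * m * (u : H)⁻¹ = (v : H) * m * (v : H)⁻¹ := congrArg (fun x => (x.1.1 : H)) huv
    have h2 : (v : H)⁻¹ * u * m = m * ((v : H)⁻¹ * u) := by
      calc (v : H)⁻¹ * u * m = (v : H)⁻¹ * (u * m * (u : H)⁻¹) * u := by group
        _ = (v : H)⁻¹ * (v * m * (v : H)⁻¹) * u := by rw [h1]
        _ = _ := by group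
    have h3 := hfree m hmM hm_ne _ (Subgroup.mul_mem _ (Subgroup.inv_mem _ v.2) u.2) h2
    exact Subtype.ext (inv_mul_eq_one.1 h3).symm
  have hcardf : Nat.card P = Nat.card {x : M // x ≠ 1} := by
    haveI : Fintype M := Fintype.ofFinite _
    rw [Gd.toGood.card_sylow P, Nat.card_eq_fintype_card, Fintype.card_subtype_compl, Fintype.card_subtype_eq,
      ← Nat.card_eq_fintype_card, hcardM]
    omega
  have hbij := (Nat.bijective_iff_injective_and_card f).2 ⟨hf, hcardf⟩
  have hall : ∀ x ∈ M, x ≠ 1 → IsConj m x := by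
    intro x hx hx1
    obtain ⟨u, hu⟩ := hbij.2 ⟨⟨x, hx⟩, fun h => hx1 (congrArg Subtype.val h)⟩
    exact isConj_iff.2 ⟨u, congrArg (fun x => (x.1.1 : H)) hu⟩
  -- `M` is an `r`-group
  haveI : Fact r.Prime := ⟨hr⟩
  have hMr : IsPGroup r M := by
    rintro ⟨x, hx⟩
    refine ⟨1, ?_⟩
    rw [pow_one]
    apply Subtype.ext
    show x ^ r = 1
    by_cases hx1 : x = 1
    · rw [hx1, one_pow]
    · obtain ⟨g, hg⟩ := isConj_iff.1 (hall x hx hx1)
      rw [← hg, conj_pow, ← hrk, pow_orderOf_eq_one, mul_one, mul_inv_cancel]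
  obtain ⟨b, hb⟩ := IsPGroup.iff_card.1 hMr
  rw [hcardM] at hb
  -- the class of `m`
  have hidx : (cz m).index = q := by
    rw [Cfsg.Agent.H70.index_centralizer_eq]
    have h1 : Nat.card {x : H // IsConj m x} = Nat.card {x : M // x ≠ 1} := by
      apply Nat.card_congr
      refine ⟨fun x => ⟨⟨x.1, ?_⟩, ?_⟩, fun x => ⟨x.1.1, hall x.1.1 x.1.2 (fun h => x.2 (Subtype.ext h))⟩,
        fun x => rfl, fun x => rfl⟩
      · obtain ⟨g, hg⟩ := isConj_iff.1 x.2
        rw [← hg]; exact hM.conj_mem _ hmM _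
      · intro h
        have h2 : x.1 = 1 := congrArg Subtype.val h
        obtain ⟨g, hg⟩ := isConj_iff.1 x.2
        rw [h2] at hg
        apply hm_ne
        calc m = g⁻¹ * (g * m * g⁻¹) * g := by group
          _ = 1 := by rw [hg]; group
    rw [h1, ← hcardf, Gd.toGood.card_sylow P]
  obtain ⟨x, hx⟩ := qm_surjective (G := G) m
  obtain ⟨j, hj⟩ := index_lift (x := x) hr (by rw [hx]; exact hrk)
  rw [hx, hidx] at hj
  exact hreg r b j hr hb x (by rw [hx]; exact hrk) hj

/-- the Zassenhaus property -/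
theorem GoodN.zass (Gd : GoodN (G ⧸ Subgroup.center G) p q a d) (hq3 : d + 1 < q)
    (hreg : ∀ r b j : ℕ, r.Prime → q + 1 = r ^ b → ∀ x : G, orderOf (qm G x) = r → (cz x).index ≠ q * r ^ j) :
    Cfsg.IsZassenhausGroup (G ⧸ Subgroup.center G) (Sylow p (G ⧸ Subgroup.center G)) := by
  refine ⟨⟨?_⟩, ?_, ?_, ?_, ?_⟩
  · intro g h hgh
    have h1 : ∀ S : Sylow p (G ⧸ Subgroup.center G), (h⁻¹ * g) • S = S := fun S => by
      rw [mul_smul, hgh, inv_smul_smul]
    exact (inv_mul_eq_one.1 (Gd.faithful h1)).symm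
  · rw [MulAction.is_two_pretransitive_iff]
    intro P Q P' Q' h h'
    exact Gd.two_trans h h'
  · intro g P Q R h1 h2 h3 h4 h5 h6
    exact Gd.three h1 h2 h3 h4 h5 h6
  · let P : Sylow p (G ⧸ Subgroup.center G) := default
    obtain ⟨Q, hQ⟩ := Gd.exists_other P
    have h1 := Gd.card_stab (Ne.symm hQ)
    haveI : Nontrivial ↥(MulAction.stabilizer (G ⧸ Subgroup.center G) P ⊓
        MulAction.stabilizer (G ⧸ Subgroup.center G) Q) := by
      rw [← Finite.one_lt_card_iff_nontrivial]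
      by_contra hle
      push Not at hle
      have h2 := Nat.mul_le_mul_left d hle
      omega
    obtain ⟨⟨g, hg⟩, hg1⟩ := _root_.exists_ne (1 : ↥(MulAction.stabilizer (G ⧸ Subgroup.center G) P ⊓
        MulAction.stabilizer (G ⧸ Subgroup.center G) Q))
    exact ⟨g, fun h => hg1 (Subtype.ext h), P, Q, Ne.symm hQ, hg.1, hg.2⟩
  · intro N hN hT
    by_contra hc
    push Not at hc
    exact Gd.no_regular hreg N hN hT hc

/-- identification, `q` odd -/
theorem GoodN.psl_odd (Gd : GoodN (G ⧸ Subgroup.center G) p q a 2) (hq3 : 3 < q)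
    (hreg : ∀ r b j : ℕ, r.Prime → q + 1 = r ^ b → ∀ x : G, orderOf (qm G x) = r → (cz x).index ≠ q * r ^ j) :
    ∃ (K : Type) (_ : Field K) (_ : Fintype K), Nat.card K = q ∧
      Nonempty (G ⧸ Subgroup.center G ≃* Matrix.ProjectiveSpecialLinearGroup (Fin 2) K) := by
  have hZ := Gd.zass (by omega) hreg
  let P : Sylow p (G ⧸ Subgroup.center G) := default
  obtain ⟨Q, hQ⟩ := Gd.exists_other P
  have hker : Cfsg.Agent.H37.ZT.IsKer (G ⧸ Subgroup.center G) P (P : Subgroup (G ⧸ Subgroup.center G)) :=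
    { le := fun x hx => Sylow.smul_eq_iff_mem_normalizer.2 (Subgroup.le_normalizer hx)
      norm := fun g hg u hu =>
        (Subgroup.mem_normalizer_iff.1 (Sylow.smul_eq_iff_mem_normalizer.1 (show g • P = P from hg)) u).1 hu
      reg := by
        intro y z hy hz
        obtain ⟨x, hx, hxy⟩ := Gd.trans hy hz
        refine ⟨⟨x, hx⟩, hxy, ?_⟩
        rintro ⟨x', hx'⟩ h
        have h1 : x' • y = z := h
        have h2 : (x⁻¹ * x') • y = y := by rw [mul_smul, h1, ← hxy, inv_smul_smul]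
        have h3 := Gd.toGood.smul_ne (Ne.symm hy) (Subgroup.mul_mem _ (Subgroup.inv_mem _ hx) hx') h2
        exact Subtype.ext (inv_mul_eq_one.1 h3).symm }
  have h1 := Gd.card_stab (Ne.symm hQ)
  have h2 := Gd.card_sylows
  rcases Cfsg.Agent.H37.ZT.zass_abelian hZ (Ne.symm hQ) hker (Gd.toGood.hsyl P) with h3 | ⟨-, K, iF, iFt, -, hc, he⟩
  · exfalso
    have h4 : Nat.card (Cfsg.Agent.H34.stab2 (G ⧸ Subgroup.center G) P Q) =
      Nat.card ↥(MulAction.stabilizer (G ⧸ Subgroup.center G) P ⊓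
        MulAction.stabilizer (G ⧸ Subgroup.center G) Q) := rfl
    rw [h4, h2] at h3
    rw [h3] at h1
    omega
  · refine ⟨K, iF, iFt, ?_, he⟩
    rw [h2] at hc
    omega

end

/-- identification, `q` even -/
theorem GoodN.psl_even {H : Type u} [Group H] [Finite H] {q a : ℕ} (Gd : GoodN H 2 q a 1) (hq3 : 2 < q) :
    ∃ (K : Type) (_ : Field K) (_ : Fintype K), Nat.card K = q ∧
      Nonempty (H ≃* Matrix.ProjectiveSpecialLinearGroup (Fin 2) K) := by
  haveI : Fact (Nat.Prime 2) := ⟨Nat.prime_two⟩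
  have ha : a = q ^ 2 - 1 := by have := Gd.hda; omega
  have hsq := sq_one_of_card (G := H) (q := q) (by rw [Gd.card, ha]) Gd.toGood.hqp
    (fun t ht ht1 => by rw [Gd.toGood.hidx t ht ht1, ha])
  let P : Sylow 2 H := default
  have hcP := Gd.toGood.card_sylow P
  have hnc : ¬ IsCyclic (P : Subgroup H) := by
    intro hcyc
    obtain ⟨g, hg⟩ := hcyc.exists_generator
    have h1 : orderOf g = Nat.card P := orderOf_eq_card_of_forall_mem_zpowers hg
    have h2 : orderOf g ∣ 2 := by
      apply orderOf_dvd_of_pow_eq_one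
      apply Subtype.ext
      exact hsq g (Pel.of_mem_sylow g.2)
    have h3 := Nat.le_of_dvd (by norm_num) h2
    omega
  have hnn : ¬ (P : Subgroup H).Normal := by
    intro hn
    have h1 := Gd.card_sylows
    haveI := Sylow.unique_of_normal P hn
    have h2 : Nat.card (Sylow 2 H) = 1 := Nat.card_unique
    omega
  obtain ⟨F, iF, iFt, hF, he⟩ := Cfsg.Agent.S1230.result P hnc hnn (by
    intro t ht
    have htp : Pel 2 t := ⟨1, by rw [pow_one, ← ht, pow_orderOf_eq_one]⟩
    have ht1 : t ≠ 1 := ne_one_of_prime Nat.prime_two ht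
    obtain ⟨Q, hQ⟩ := htp.zpowers_isPGroup.exists_le_sylow
    have htQ : t ∈ (Q : Subgroup H) := hQ (Subgroup.mem_zpowers t)
    have h1 := Gd.cz_eq htQ ht1
    refine ⟨⟨⟨?_⟩⟩, ?_⟩
    · rintro ⟨x, hx⟩ ⟨y, hy⟩
      apply Subtype.ext
      exact Gd.toGood.hcomm t htp ht1 x hx y hy
    · intro c hc
      have hc' : c ∈ (Q : Subgroup H) := h1 ▸ hc
      exact hsq c (Pel.of_mem_sylow hc'))
  exact ⟨F, iF, iFt, by rw [Nat.card_eq_fintype_card, hF]; exact hcP, he⟩

end Cfsg.Agent.H35.PS
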