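import Cfsg.Agent.H35.PSg

/-!
# Groups with the class sizes of PSL(2,q), part H: the numbers
-/

set_option autoImplicit false
set_option linter.style.haveILetI false
set_option linter.unusedSectionVars false

namespace Cfsg.Agent.H35.PS

open Cfsg.Agent.SC Cfsg.Agent.H35.CR

universe u v

theorem dat_of {G : Type u} [Group G] [Finite G] {p q a : ℕ} (hp : p.Prime) (hqp : ∃ f, 1 ≤ f ∧ q = p ^ f)
    (J : Set ℕ) (hR : ∀ n : ℕ, (∃ g : G, (cz g).index = n) ↔ n = 1 ∨ n = a ∨ ∃ j ∈ J, n = q * j)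
    (hpa : ¬ p ∣ a) (ha : 1 < a) (hJ : ∀ j ∈ J, ¬ p ∣ j ∧ j < a ∧ 0 < j) (hJe : ∃ j, j ∈ J)
    (hJJ : ∀ i ∈ J, ∀ j ∈ J, i ∣ j → j = i ∨ (p ≠ 2 ∧ j = 2 * i)) : Dat G p q a where
  hp := hp
  hqp := hqp
  hpa := hpa
  ha1 := by omega
  hA := (hR a).2 (Or.inr (Or.inl rfl))
  hX := by
    intro x
    rcases (hR _).1 ⟨x, rfl⟩ with h | h | ⟨j, hj, h⟩
    · exact Or.inl h
    · exact Or.inr (Or.inl h)
    · exact Or.inr (Or.inr ⟨j, h, (hJ j hj).1, (hJ j hj).2.1⟩)
  hdiv := by
    intro x y hx hxy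
    have hq0 : 0 < q := by
      obtain ⟨f, -, rfl⟩ := hqp
      exact pow_pos hp.pos _
    rcases (hR _).1 ⟨x, rfl⟩ with h | h | ⟨i, hi, h⟩
    · rw [h] at hx
      exact absurd (Nat.dvd_one.1 hx) hp.one_lt.ne'
    · rw [h] at hx
      exact absurd hx hpa
    · rcases (hR _).1 ⟨y, rfl⟩ with h' | h' | ⟨j, hj, h'⟩
      · have := hx.trans hxy
        rw [h'] at this
        exact absurd (Nat.dvd_one.1 this) hp.one_lt.ne'
      · have := hx.trans hxy
        rw [h'] at this
        exact absurd this hpa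
      · rw [h, h'] at hxy ⊢
        rcases hJJ i hi j hj (Nat.dvd_of_mul_dvd_mul_left hq0 hxy) with h1 | ⟨h1, h2⟩
        · left; rw [h1]
        · right; exact ⟨h1, by rw [h2]; ring⟩
  hadvd := by
    intro y hy
    rcases (hR _).1 ⟨y, rfl⟩ with h' | h' | ⟨j, hj, h'⟩
    · rw [h'] at hy
      have := Nat.dvd_one.1 hy
      omega
    · exact h'
    · rw [h'] at hy
      exfalso
      have hco : Nat.Coprime a q := by
        obtain ⟨f, -, rfl⟩ := hqp
        exact Nat.Coprime.pow_right _ (((Nat.Prime.coprime_iff_not_dvd hp).2 hpa).symm)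
      have h1 := Nat.le_of_dvd (hJ j hj).2.2 (hco.dvd_of_dvd_mul_left hy)
      have h2 := (hJ j hj).2.1
      omega
  hex := by
    obtain ⟨j, hj⟩ := hJe
    obtain ⟨g, hg⟩ := (hR (q * j)).2 (Or.inr (Or.inr ⟨j, hj, rfl⟩))
    refine ⟨g, ?_⟩
    rw [hg]
    obtain ⟨f, hf, rfl⟩ := hqp
    exact Dvd.dvd.mul_right (dvd_pow_self p (by omega)) _

theorem not_dvd_sq_sub_one {p q : ℕ} (hp : p.Prime) (hpq : p ∣ q) (hq : 1 < q) : ¬ p ∣ q ^ 2 - 1 := by
  intro h
  have h1 : p ∣ q ^ 2 := Dvd.dvd.pow hpq (by norm_num)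
  have h2 := (Nat.dvd_sub_iff_right (by nlinarith) h1).1 h
  exact hp.one_lt.ne' (Nat.dvd_one.1 h2)

theorem sq_sub_one {q : ℕ} (hq : 1 < q) : q ^ 2 - 1 = (q - 1) * (q + 1) := by
  obtain ⟨m, rfl⟩ : ∃ m, q = m + 1 := ⟨q - 1, by omega⟩
  have : (m + 1) ^ 2 = m * (m + 1 + 1) + 1 := by ring
  rw [this]; simp

theorem dat_even {G : Type u} [Group G] [Finite G] {q f : ℕ} (hf : q = 2 ^ f) (h4 : 4 ≤ q)
    (h : Set.range (fun g : G => (cz g).index) = {1, q * (q - 1), q ^ 2 - 1, q * (q + 1)}) :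
    Dat G 2 q (q ^ 2 - 1) := by
  have hf1 : 1 ≤ f := by
    rcases Nat.eq_zero_or_pos f with h | h
    · subst h; simp at hf; omega
    · exact h
  have h2q : 2 ∣ q := by rw [hf]; exact dvd_pow_self 2 (by omega)
  have hsq := sq_sub_one (q := q) (by omega)
  have hnd := not_dvd_sq_sub_one Nat.prime_two h2q (by omega)
  refine dat_of Nat.prime_two ⟨f, hf1, hf⟩ {q - 1, q + 1} ?_ hnd ?_ ?_ ⟨q - 1, Or.inl rfl⟩ ?_
  · intro n
    have h1 : (∃ g : G, (cz g).index = n) ↔ n ∈ Set.range (fun g : G => (cz g).index) := Iff.rfl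
    rw [h1, h]
    simp only [Set.mem_insert_iff, Set.mem_singleton_iff, exists_eq_or_imp, exists_eq_left]
    tauto
  · rw [hsq]; nlinarith [Nat.mul_le_mul (show 3 ≤ q - 1 by omega) (show 5 ≤ q + 1 by omega)]
  · rintro j (rfl | rfl)
    · refine ⟨fun hd => hnd (hsq ▸ Dvd.dvd.mul_right hd _), ?_, by omega⟩
      rw [hsq]
      have h5 := Nat.mul_le_mul (le_refl (q - 1)) (show 5 ≤ q + 1 by omega)
      omega
    · refine ⟨fun hd => hnd (hsq ▸ Dvd.dvd.mul_left hd _), ?_, by omega⟩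
      rw [hsq]
      nlinarith [Nat.mul_le_mul (show 3 ≤ q - 1 by omega) (le_refl (q + 1))]
  · rintro i (rfl | rfl) j (rfl | rfl) hij
    · left; rfl
    · exfalso
      have h1 : q + 1 = (q - 1) + 2 := by omega
      rw [h1] at hij
      have h2 := (Nat.dvd_add_right (dvd_refl (q - 1))).1 hij
      have := Nat.le_of_dvd (by norm_num) h2
      omega
    · exfalso
      have := Nat.le_of_dvd (by omega) hij
      omega
    · left; rfl

/-- the odd case: `m` is the odd one of `(q - 1) / 2`, `(q + 1) / 2` -/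
theorem dat_odd {G : Type u} [Group G] [Finite G] {p q f m a : ℕ} (hp : p.Prime) (hf1 : 1 ≤ f) (hf : q = p ^ f)
    (h7 : 7 ≤ q) (hm : (q % 4 = 1 ∧ 2 * m = q + 1) ∨ (q % 4 = 3 ∧ 2 * m = q - 1)) (ha : 2 * a = q ^ 2 - 1)
    (h : Set.range (fun g : G => (cz g).index) = {1, a, q * m, q * (q - 1), q * (q + 1)}) :
    Dat G p q a := by
  have hpq : p ∣ q := by rw [hf]; exact dvd_pow_self p (by omega)
  have hp2 : p ≠ 2 := by
    intro h2
    rw [h2] at hpq
    omega
  have hsq := sq_sub_one (q := q) (by omega)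
  have hnd := not_dvd_sq_sub_one hp hpq (by omega)
  have hlt : q + 1 < a := by
    have : 2 * (q + 1) < 2 * a := by
      rw [ha, hsq]
      nlinarith [Nat.mul_le_mul (show 6 ≤ q - 1 by omega) (le_refl (q + 1))]
    omega
  refine dat_of hp ⟨f, hf1, hf⟩ {m, q - 1, q + 1} ?_ ?_ ?_ ?_ ⟨m, Or.inl rfl⟩ ?_
  · intro n
    have h1 : (∃ g : G, (cz g).index = n) ↔ n ∈ Set.range (fun g : G => (cz g).index) := Iff.rfl
    rw [h1, h]
    simp only [Set.mem_insert_iff, Set.mem_singleton_iff, exists_eq_or_imp, exists_eq_left]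
  · intro hd
    apply hnd
    rw [← ha]
    exact Dvd.dvd.mul_left hd _
  · omega
  · rintro j (rfl | rfl | rfl)
    · refine ⟨fun hd => hnd ?_, by omega, by omega⟩
      have h1 : p ∣ 2 * j := Dvd.dvd.mul_left hd _
      rw [hsq]
      rcases hm with ⟨-, h2⟩ | ⟨-, h2⟩
      · rw [h2] at h1; exact Dvd.dvd.mul_left h1 _
      · rw [h2] at h1; exact Dvd.dvd.mul_right h1 _
    · refine ⟨fun hd => hnd (hsq ▸ Dvd.dvd.mul_right hd _), by omega, by omega⟩
    · refine ⟨fun hd => hnd (hsq ▸ Dvd.dvd.mul_left hd _), by omega, by omega⟩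
  · have hmodd : m % 2 = 1 := by omega
    rintro i hi j hj hij
    rcases hi with rfl | rfl | rfl
    · -- `i = m`
      rcases hj with rfl | rfl | rfl
      · left; rfl
      · rcases hm with ⟨h1, h2⟩ | ⟨h1, h2⟩
        · exfalso
          have h3 : q + 1 = (q - 1) + 2 := by omega
          have h4 : i ∣ q - 1 + 2 := by rw [← h3, ← h2]; exact Dvd.intro_left _ rfl
          have h5 := (Nat.dvd_add_right hij).1 h4
          have h6 := Nat.le_of_dvd (by norm_num) h5
          omega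
        · right; exact ⟨hp2, h2.symm⟩
      · rcases hm with ⟨h1, h2⟩ | ⟨h1, h2⟩
        · right; exact ⟨hp2, h2.symm⟩
        · exfalso
          have h3 : q + 1 = (q - 1) + 2 := by omega
          rw [h3] at hij
          have h4 : i ∣ q - 1 := by rw [← h2]; exact Dvd.intro_left _ rfl
          have h5 := (Nat.dvd_add_right h4).1 hij
          have h6 := Nat.le_of_dvd (by norm_num) h5
          omega
    · rcases hj with rfl | rfl | rfl
      · exfalso
        have := Nat.le_of_dvd (by omega) hij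
        omega
      · left; rfl
      · exfalso
        have h1 : q + 1 = (q - 1) + 2 := by omega
        rw [h1] at hij
        have h2 := (Nat.dvd_add_right (dvd_refl (q - 1))).1 hij
        have := Nat.le_of_dvd (by norm_num) h2
        omega
    · rcases hj with rfl | rfl | rfl
      · exfalso
        have := Nat.le_of_dvd (by omega) hij
        omega
      · exfalso
        have := Nat.le_of_dvd (by omega) hij
        omega
      · left; rfl

/-- the centralizer of an element of prime order modulo the centre -/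
theorem mul_index_dvd {G : Type u} [Group G] [Finite G] {x : G} {r : ℕ} (hx : orderOf (qm G x) = r) :
    r * (cz x).index ∣ (Subgroup.center G).index := by
  have h1 := Subgroup.relIndex_mul_index (le_cz_of_center x)
  rw [← h1]
  apply Nat.mul_dvd_mul_right
  have h2 : (Subgroup.center G).relIndex (cz x) = Nat.card ((cz x).map (qm G)) := by
    have h3 := Subgroup.relIndex_ker (K := cz x) (qm G)
    rw [← h3]
    congr 1
    exact (QuotientGroup.ker_mk' _).symm
  rw [h2, ← hx, ← Nat.card_zpowers]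
  apply Subgroup.card_dvd_of_le
  rw [Subgroup.zpowers_le]
  exact Subgroup.mem_map_of_mem _ (self_mem x)

theorem hreg_odd {G : Type u} [Group G] [Finite G] {p q m a : ℕ} [Fact p.Prime]
    (Gd : GoodN (G ⧸ Subgroup.center G) p q a 2)
    (h7 : 7 ≤ q) (hm : (q % 4 = 1 ∧ 2 * m = q + 1) ∨ (q % 4 = 3 ∧ 2 * m = q - 1))
    (hX : ∀ x : G, (cz x).index = 1 ∨ (cz x).index = a ∨ (cz x).index = q * m ∨ (cz x).index = q * (q - 1) ∨
      (cz x).index = q * (q + 1)) :
    ∀ r b j : ℕ, r.Prime → q + 1 = r ^ b → ∀ x : G, orderOf (qm G x) = r → (cz x).index ≠ q * r ^ j := by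
  intro r b j hr hb x hx hi
  have ha : 2 * a = q ^ 2 - 1 := Gd.hda
  have hsq := sq_sub_one (q := q) (by omega)
  have hq2 : q % 2 = 1 := by omega
  have hb0 : b ≠ 0 := by rintro rfl; simp at hb; omega
  have hr2 : r = 2 := by
    have h1 : 2 ∣ r ^ b := by rw [← hb]; omega
    exact ((Nat.prime_dvd_prime_iff_eq Nat.prime_two hr).1 (Nat.prime_two.dvd_of_dvd_pow h1)).symm
  subst hr2
  have hb3 : 3 ≤ b := by
    by_contra hb3
    push Not at hb3
    have : 2 ^ b ≤ 2 ^ 2 := Nat.pow_le_pow_right (by norm_num) (by omega)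
    omega
  have h8 : 8 ∣ q + 1 := by rw [hb]; exact pow_dvd_pow 2 hb3
  have hm' : 2 * m = q - 1 := by omega
  have hmo : m % 2 = 1 := by omega
  have hq0 : 0 < q := by omega
  have hdvd : 2 * (q * 2 ^ j) ∣ q * a := by
    have h1 := mul_index_dvd hx
    rw [hi, ← card_quot, Gd.card] at h1
    exact h1
  have hdvd' : 2 ^ (j + 1) ∣ a := by
    have h1 : q * 2 ^ (j + 1) ∣ q * a := by
      have : 2 * (q * 2 ^ j) = q * 2 ^ (j + 1) := by ring
      rwa [this] at hdvd
    exact Nat.dvd_of_mul_dvd_mul_left hq0 h1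
  have ham : a = m * (q + 1) := by
    have : 2 * a = 2 * (m * (q + 1)) := by rw [ha, hsq, ← hm']; ring
    omega
  rcases hX x with h | h | h | h | h
  · rw [hi] at h
    have := Nat.eq_one_of_mul_eq_one_right h
    omega
  · rw [hi] at h
    have hpa := Gd.toGood.hpa
    apply hpa
    rw [← h]
    obtain ⟨f, hf1, hf⟩ := Gd.toGood.hqp
    apply Dvd.dvd.mul_right
    rw [hf]; exact dvd_pow_self p (by omega)
  · rw [hi] at h
    have h1 := Nat.eq_of_mul_eq_mul_left hq0 h
    rcases Nat.eq_zero_or_pos j with h0 | h0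
    · rw [h0] at h1; simp at h1; omega
    · have : 2 ∣ 2 ^ j := dvd_pow_self 2 (by omega)
      omega
  · rw [hi] at h
    have h1 := Nat.eq_of_mul_eq_mul_left hq0 h
    rcases Nat.lt_or_ge j 2 with h0 | h0
    · have : 2 ^ j ≤ 2 ^ 1 := Nat.pow_le_pow_right (by norm_num) (by omega)
      omega
    · have : 2 ^ 2 ∣ 2 ^ j := pow_dvd_pow 2 h0
      omega
  · rw [hi] at h
    have h1 := Nat.eq_of_mul_eq_mul_left hq0 h
    rw [pow_succ, h1, ham, mul_comm (q + 1) 2] at hdvd'
    have h2 := Nat.dvd_of_mul_dvd_mul_right (by omega) hdvd'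
    omega

end Cfsg.Agent.H35.PS
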