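import Cfsg.Agent.H35.PSh
import Cfsg.Agent.S2507
import Cfsg.Agent.S2508

/-!
# Groups with the class sizes of PSL(2,q), part I: the central quotient
-/

set_option autoImplicit false
set_option linter.style.haveILetI false
set_option linter.unusedSectionVars false

namespace Cfsg.Agent.H35.PS

open Cfsg.Agent.SC Cfsg.Agent.H35.CR

universe u v

/-- same class sizes -/
def SameSizes (G : Type u) [Group G] (H : Type v) [Group H] : Prop :=
  Set.range (fun g : G => (cz g).index) = Set.range (fun g : H => (cz g).index)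

theorem exists_prime_power_card (F : Type v) [Field F] [Fintype F] :
    ∃ p f : ℕ, p.Prime ∧ 1 ≤ f ∧ Fintype.card F = p ^ f := by
  obtain ⟨p, _⟩ := CharP.exists F
  obtain ⟨n, hp, hn⟩ := FiniteField.card F p
  exact ⟨p, n, hp, n.2, hn⟩

theorem psl_congr {F : Type v} [Field F] [Fintype F] {K : Type u} [Field K] [Fintype K] (h : Nat.card K = Fintype.card F) :
    Nonempty (Matrix.ProjectiveSpecialLinearGroup (Fin 2) K ≃* Matrix.ProjectiveSpecialLinearGroup (Fin 2) F) :=
  ⟨Cfsg.Agent.ClassBase.pslCongr (FiniteField.ringEquivOfCardEq (by rw [← Nat.card_eq_fintype_card, h]))⟩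

/-- data in the odd case -/
structure OddData (F : Type v) [Field F] [Fintype F] (G : Type u) [Group G] [Finite G] (p a m : ℕ) : Prop where
  h7 : 7 ≤ Fintype.card F
  hodd : ¬ 2 ∣ Fintype.card F
  hp : p.Prime
  dat : Dat G p (Fintype.card F) a
  good : GoodN (G ⧸ Subgroup.center G) p (Fintype.card F) a 2
  hm : (Fintype.card F % 4 = 1 ∧ 2 * m = Fintype.card F + 1) ∨ (Fintype.card F % 4 = 3 ∧ 2 * m = Fintype.card F - 1)
  hG : Set.range (fun g : G => (cz g).index) = {1, a, Fintype.card F * m, Fintype.card F * (Fintype.card F - 1),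
    Fintype.card F * (Fintype.card F + 1)}
  hF : Set.range (fun g : Matrix.ProjectiveSpecialLinearGroup (Fin 2) F => (cz g).index) = {1, a, Fintype.card F * m,
    Fintype.card F * (Fintype.card F - 1), Fintype.card F * (Fintype.card F + 1)}
  iso : Nonempty (G ⧸ Subgroup.center G ≃* Matrix.ProjectiveSpecialLinearGroup (Fin 2) F)

theorem oddData {F : Type v} [Field F] [Fintype F] (hodd : ¬ 2 ∣ Fintype.card F) (h7 : 7 ≤ Fintype.card F)
    {G : Type u} [Group G] [Finite G] (h : SameSizes G (Matrix.ProjectiveSpecialLinearGroup (Fin 2) F)) :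
    ∃ p a m : ℕ, OddData F G p a m := by
  obtain ⟨p, f, hp, hf1, hf⟩ := exists_prime_power_card F
  haveI : Fact p.Prime := ⟨hp⟩
  set q := Fintype.card F with hq
  have hodd' : q % 2 = 1 := by omega
  obtain ⟨m, hm, hF⟩ : ∃ m, ((q % 4 = 1 ∧ 2 * m = q + 1) ∨ (q % 4 = 3 ∧ 2 * m = q - 1)) ∧
      Set.range (fun g : Matrix.ProjectiveSpecialLinearGroup (Fin 2) F => (cz g).index) =
        {1, (q ^ 2 - 1) / 2, q * m, q * (q - 1), q * (q + 1)} := by
    rcases (show q % 4 = 1 ∨ q % 4 = 3 by omega) with h4 | h4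
    · refine ⟨(q + 1) / 2, Or.inl ⟨h4, by omega⟩, ?_⟩
      have h1 := (Cfsg.Agent.S2508.result hodd h7).1 h4
      have h2 : q * (q + 1) / 2 = q * ((q + 1) / 2) := Nat.mul_div_assoc _ (by omega)
      rw [← hq, h2] at h1
      exact h1
    · refine ⟨(q - 1) / 2, Or.inr ⟨h4, by omega⟩, ?_⟩
      have h1 := (Cfsg.Agent.S2508.result hodd h7).2 h4
      have h2 : q * (q - 1) / 2 = q * ((q - 1) / 2) := Nat.mul_div_assoc _ (by omega)
      rw [← hq, h2] at h1
      have h3 : (cz : Matrix.ProjectiveSpecialLinearGroup (Fin 2) F → _) = fun g => Subgroup.centralizer {g} := rfl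
      show Set.range (fun g : Matrix.ProjectiveSpecialLinearGroup (Fin 2) F => (Subgroup.centralizer {g}).index) = _
      rw [h1]
      ext n
      simp only [Set.mem_insert_iff, Set.mem_singleton_iff]
      tauto
  have hpq : p ∣ q := by rw [hf]; exact dvd_pow_self p (by omega)
  have ha : 2 * ((q ^ 2 - 1) / 2) = q ^ 2 - 1 := by
    have h1 : 2 ∣ q ^ 2 - 1 := by
      rw [sq_sub_one (by omega)]
      exact Dvd.dvd.mul_right (by omega) _
    omega
  set a := (q ^ 2 - 1) / 2 with hadef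
  have hG : Set.range (fun g : G => (cz g).index) = {1, a, q * m, q * (q - 1), q * (q + 1)} := h.trans hF
  have D : Dat G p q a := dat_odd hp hf1 hf h7 hm ha hG
  have hp2 : p ≠ 2 := by rintro rfl; exact hodd hpq
  have Gd : GoodN (G ⧸ Subgroup.center G) p q a 2 :=
    { toGood := D.good (fun h => absurd h hp2), hd := Or.inr rfl, hda := ha }
  obtain ⟨K, iF, iFt, hc, ⟨e⟩⟩ := Gd.psl_odd (by omega) (hreg_odd Gd h7 hm (by
    intro x
    have h1 : (cz x).index ∈ Set.range (fun g : G => (cz g).index) := ⟨x, rfl⟩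
    rw [hG] at h1
    simpa only [Set.mem_insert_iff, Set.mem_singleton_iff] using h1))
  obtain ⟨e'⟩ := psl_congr (F := F) (K := K) hc
  exact ⟨p, a, m, ⟨h7, hodd, hp, D, Gd, hm, hG, hF, ⟨e.trans e'⟩⟩⟩

/-- data in the even case -/
structure EvenData (F : Type v) [Field F] [Fintype F] (G : Type u) [Group G] [Finite G] : Prop where
  h4 : 4 ≤ Fintype.card F
  heven : 2 ∣ Fintype.card F
  dat : Dat G 2 (Fintype.card F) (Fintype.card F ^ 2 - 1)
  good : GoodN (G ⧸ Subgroup.center G) 2 (Fintype.card F) (Fintype.card F ^ 2 - 1) 1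
  iso : Nonempty (G ⧸ Subgroup.center G ≃* Matrix.ProjectiveSpecialLinearGroup (Fin 2) F)

theorem evenData {F : Type v} [Field F] [Fintype F] (heven : 2 ∣ Fintype.card F) (h2 : 2 < Fintype.card F)
    {G : Type u} [Group G] [Finite G] (h : SameSizes G (Matrix.ProjectiveSpecialLinearGroup (Fin 2) F)) :
    EvenData F G := by
  obtain ⟨p, f, hp, hf1, hf⟩ := exists_prime_power_card F
  have h4 : 4 ≤ Fintype.card F := by omega
  have hp2 : p = 2 := by
    have h1 : 2 ∣ p ^ f := by rw [← hf]; exact heven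
    exact ((Nat.prime_dvd_prime_iff_eq Nat.prime_two hp).1 (Nat.prime_two.dvd_of_dvd_pow h1)).symm
  subst hp2
  have D : Dat G 2 (Fintype.card F) (Fintype.card F ^ 2 - 1) :=
    dat_even hf h4 (h.trans (Cfsg.Agent.S2507.result heven h4))
  have Gd : GoodN (G ⧸ Subgroup.center G) 2 (Fintype.card F) (Fintype.card F ^ 2 - 1) 1 :=
    { toGood := D.good (fun _ => rfl), hd := Or.inl rfl, hda := by rw [one_mul] }
  obtain ⟨K, iF, iFt, hc, ⟨e⟩⟩ := Gd.psl_even (by omega)
  obtain ⟨e'⟩ := psl_congr (F := F) (K := K) hc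
  exact ⟨h4, heven, D, Gd, ⟨e.trans e'⟩⟩

end Cfsg.Agent.H35.PS
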