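import Cfsg.Agent.FT.Base
import Cfsg.Agent.Asch.PaQb
import Mathlib.GroupTheory.Perm.Cycle.Type

/-!
# S3930, piece O2 (nine)
-/

set_option autoImplicit false
set_option linter.unusedVariables false

namespace Cfsg.Agent.H35.PyrNine

open Subgroup Cfsg.Agent

universe u

/-- the fixed points of a permutation commuting with an involution with exactly one fixed point -/
theorem fix_odd {I : Type*} [Finite I] (ι : I → I) (hι : ∀ x, ι (ι x) = x) (e : I)
    (he : ∀ x, ι x = x ↔ x = e) (σ : Equiv.Perm I) (hσι : ∀ x, σ (ι x) = ι (σ x)) :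
    Odd (Nat.card {x : I // σ x = x}) := by
  classical
  have : Fintype I := Fintype.ofFinite I
  have : Fact (Nat.Prime 2) := ⟨Nat.prime_two⟩
  let f : Function.End {x : I // σ x = x} := fun x => ⟨ι x, by rw [hσι, x.2]⟩
  have hf : f ^ 2 ^ 1 = 1 := by
    rw [pow_one, sq]
    funext x
    exact Subtype.ext (hι x)
  have h1 := Equiv.Perm.card_fixedPoints_modEq (p := 2) (n := 1) (f := f) hf
  have hee : ι e = e := (he e).2 rfl
  have hσe : σ e = e := by
    rw [← he, ← hσι, hee]
  have h2 : Fintype.card (Function.fixedPoints f) = 1 := by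
    rw [Fintype.card_eq_one_iff]
    refine ⟨⟨⟨e, hσe⟩, Subtype.ext hee⟩, ?_⟩
    rintro ⟨⟨x, hx⟩, hfx⟩
    have h3 : ι x = x := congrArg Subtype.val hfx
    apply Subtype.ext
    apply Subtype.ext
    exact (he x).1 h3
  rw [h2] at h1
  rw [Nat.card_eq_fintype_card, Nat.odd_iff]
  exact h1

theorem eq_one_of_pow {I : Type*} [Finite I] (h9 : Nat.card I = 9) (ι : I → I) (hι : ∀ x, ι (ι x) = x) (e : I)
    (he : ∀ x, ι x = x ↔ x = e) (σ : Equiv.Perm I) (hσι : ∀ x, σ (ι x) = ι (σ x)) {r : ℕ} (hr : r = 5 ∨ r = 7)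
    (hσ : σ ^ r = 1) : σ = 1 := by
  classical
  have : Fintype I := Fintype.ofFinite I
  have : Fact (Nat.Prime r) := ⟨by rcases hr with rfl | rfl <;> norm_num⟩
  have h1 := fix_odd ι hι e he σ hσι
  let f : Function.End I := fun x => σ x
  have hf : f ^ r ^ 1 = 1 := by
    rw [pow_one]
    have h2 : ∀ (n : ℕ) (x : I), (f ^ n) x = (σ ^ n) x := by
      intro n
      induction n with
      | zero => intro x; rfl
      | succ n ih => intro x; rw [pow_succ, pow_succ]; exact ih (σ x)
    funext x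
    rw [h2, hσ]; rfl
  have h2 := Equiv.Perm.card_fixedPoints_modEq (p := r) (n := 1) (f := f) hf
  have h3 : Fintype.card (Function.fixedPoints f) = Nat.card {x : I // σ x = x} := by
    rw [Nat.card_eq_fintype_card]
    exact Fintype.card_congr (Equiv.refl _)
  have h4 : Nat.card {x : I // σ x = x} ≤ 9 := by
    rw [← h9]
    exact Finite.card_subtype_le _
  rw [h3, ← Nat.card_eq_fintype_card, h9] at h2
  have h5 : Nat.card {x : I // σ x = x} = 9 := by
    rw [Nat.odd_iff] at h1
    unfold Nat.ModEq at h2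
    rcases hr with rfl | rfl
    · omega
    · omega
  ext x
  by_contra hx
  have h6 : Nat.card {x : I // σ x = x} < Nat.card I := by
    rw [Nat.card_eq_fintype_card, Nat.card_eq_fintype_card]
    exact Fintype.card_subtype_lt hx
  omega

theorem nine {G : Type u} [Group G] [Finite G] (N : Subgroup G) [N.Normal] (hN : Odd (Nat.card N)) (z : G)
    (hz : orderOf z = 2) (hu : ∀ x : G, x * z = z * x → orderOf x = 2 → x = z)
    (h9 : Nat.card {x : G // x ∈ N ∧ z * x * z⁻¹ = x⁻¹} = 9) :
    Group.IsSolvable (Subgroup.centralizer ({z} : Set G)) := by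
  classical
  have hNn : N.Normal := inferInstance
  have hodd : ∀ x ∈ N, x = x⁻¹ → x = 1 := by
    intro x hx h
    by_contra h1
    have h2 : x ^ 2 = 1 := by
      rw [sq]
      nth_rewrite 2 [h]
      exact mul_inv_cancel x
    have : Fact (Nat.Prime 2) := ⟨Nat.prime_two⟩
    have h3 : orderOf x = 2 := orderOf_eq_prime h2 h1
    have h4 : orderOf (⟨x, hx⟩ : N) ∣ Nat.card N := orderOf_dvd_natCard _
    rw [orderOf_mk, h3] at h4
    exact (Nat.not_even_iff_odd.2 hN) (even_iff_two_dvd.2 h4)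
  have hmem : ∀ g : G, g * z = z * g → ∀ x : G, (x ∈ N ∧ z * x * z⁻¹ = x⁻¹) →
      (g * x * g⁻¹ ∈ N ∧ z * (g * x * g⁻¹) * z⁻¹ = (g * x * g⁻¹)⁻¹) := by
    intro g hg x hx
    refine ⟨hNn.conj_mem x hx.1 g, ?_⟩
    have h1 : z * g = g * z := hg.symm
    calc z * (g * x * g⁻¹) * z⁻¹ = (z * g) * x * (z * g)⁻¹ := by group
      _ = g * (z * x * z⁻¹) * g⁻¹ := by rw [h1]; group
      _ = (g * x * g⁻¹)⁻¹ := by rw [hx.2]; group
  let φ : centralizer ({z} : Set G) →* Equiv.Perm {x : G // x ∈ N ∧ z * x * z⁻¹ = x⁻¹} :=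
    { toFun := fun g =>
        { toFun := fun x => ⟨g * x * (g : G)⁻¹, hmem g (mem_centralizer_singleton_iff.1 g.2) x x.2⟩
          invFun := fun x => ⟨(g : G)⁻¹ * x * (g : G)⁻¹⁻¹,
            hmem (g : G)⁻¹ (mem_centralizer_singleton_iff.1 (inv_mem g.2)) x x.2⟩
          left_inv := by
            intro x
            apply Subtype.ext
            show (g : G)⁻¹ * (g * x * (g : G)⁻¹) * (g : G)⁻¹⁻¹ = x
            group
          right_inv := by
            intro x
            apply Subtype.ext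
            show (g : G) * ((g : G)⁻¹ * x * (g : G)⁻¹⁻¹) * (g : G)⁻¹ = x
            group }
      map_one' := by
        ext x
        show (1 : G) * x * (1 : G)⁻¹ = x
        group
      map_mul' := by
        intro g h
        ext x
        show ((g : G) * h) * x * ((g : G) * h)⁻¹ = g * (h * x * (h : G)⁻¹) * (g : G)⁻¹
        group }
  have hφ : ∀ (g : centralizer ({z} : Set G)) (x : {x : G // x ∈ N ∧ z * x * z⁻¹ = x⁻¹}),
      ((φ g x : {x : G // x ∈ N ∧ z * x * z⁻¹ = x⁻¹}) : G) = g * x * (g : G)⁻¹ := fun g x => rfl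
  -- the kernel has odd order
  have hker : Odd (Nat.card φ.ker) := by
    rw [← Nat.not_even_iff_odd]
    intro he
    have : Fact (Nat.Prime 2) := ⟨Nat.prime_two⟩
    obtain ⟨⟨w, hw⟩, hw2⟩ := exists_prime_orderOf_dvd_card' (G := φ.ker) 2 he.two_dvd
    rw [orderOf_mk] at hw2
    have hwz : (w : G) = z := by
      apply hu
      · exact mem_centralizer_singleton_iff.1 w.2
      · rw [← hw2, orderOf_coe]
    have hsub : ∀ x : {x : G // x ∈ N ∧ z * x * z⁻¹ = x⁻¹}, x = ⟨1, one_mem _, by group⟩ := by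
      intro x
      apply Subtype.ext
      apply hodd x x.2.1
      have h1 : φ w x = x := by
        have : φ w = 1 := hw
        rw [this]; rfl
      have h2 := congrArg Subtype.val h1
      rw [hφ, hwz, x.2.2] at h2
      exact h2.symm
    have h3 : Nat.card {x : G // x ∈ N ∧ z * x * z⁻¹ = x⁻¹} = 1 :=
      Nat.card_eq_one_iff_unique.2 ⟨⟨fun a b => (hsub a).trans (hsub b).symm⟩, ⟨⟨1, one_mem _, by group⟩⟩⟩
    omega
  have hkers : Group.IsSolvable φ.ker := FT.solvable_of_odd hker
  -- the order of the image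
  have hnr : ∀ r : ℕ, (r = 5 ∨ r = 7) → ¬ r ∣ Nat.card φ.range := by
    intro r hr hd
    have : Fact (Nat.Prime r) := ⟨by rcases hr with rfl | rfl <;> norm_num⟩
    obtain ⟨⟨σ, hσ⟩, hσr⟩ := exists_prime_orderOf_dvd_card' (G := φ.range) r hd
    rw [orderOf_mk] at hσr
    obtain ⟨g, rfl⟩ := hσ
    have h1 : φ g = 1 := by
      apply eq_one_of_pow h9
        (fun x : {x : G // x ∈ N ∧ z * x * z⁻¹ = x⁻¹} => ⟨(x : G)⁻¹, inv_mem x.2.1, by
          have : z * (x : G)⁻¹ * z⁻¹ = (z * x * z⁻¹)⁻¹ := by group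
          rw [this, x.2.2]⟩) ?_ ⟨1, one_mem _, by group⟩ ?_ (φ g) ?_ hr
      · rw [← hσr, pow_orderOf_eq_one]
      · intro x
        apply Subtype.ext
        exact inv_inv _
      · intro x
        constructor
        · intro h
          apply Subtype.ext
          exact hodd x x.2.1 (congrArg Subtype.val h).symm
        · rintro rfl
          apply Subtype.ext
          exact inv_one
      · intro x
        apply Subtype.ext
        show (g : G) * (x : G)⁻¹ * (g : G)⁻¹ = ((g : G) * x * (g : G)⁻¹)⁻¹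
        group
    rw [h1, orderOf_one] at hσr
    rcases hr with rfl | rfl <;> omega
  have hdvd : Nat.card φ.range ∣ Nat.factorial 9 := by
    have h1 := card_subgroup_dvd_card φ.range
    rwa [Nat.card_perm, h9] at h1
  have hcop : (Nat.card φ.range).Coprime 35 := by
    rw [show 35 = 5 * 7 by norm_num]
    apply Nat.Coprime.mul_right
    · rw [Nat.coprime_comm, Nat.Prime.coprime_iff_not_dvd (by norm_num)]
      exact hnr 5 (Or.inl rfl)
    · rw [Nat.coprime_comm, Nat.Prime.coprime_iff_not_dvd (by norm_num)]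
      exact hnr 7 (Or.inr rfl)
  have hdvd2 : Nat.card φ.range ∣ 2 ^ 7 * 3 ^ 4 := by
    have h1 : Nat.factorial 9 = (2 ^ 7 * 3 ^ 4) * 35 := by decide
    rw [h1] at hdvd
    exact hcop.dvd_of_dvd_mul_right hdvd
  obtain ⟨a, b, ha, hb, hab⟩ := exists_dvd_and_dvd_of_dvd_mul hdvd2
  obtain ⟨i, -, hi⟩ := (Nat.dvd_prime_pow Nat.prime_two).1 ha
  obtain ⟨j, -, hj⟩ := (Nat.dvd_prime_pow Nat.prime_three).1 hb
  have hrs : Group.IsSolvable φ.range :=
    Asch.PaQb.isSolvable 2 3 i j Nat.prime_two Nat.prime_three (by rw [hab, hi, hj])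
  exact Group.isSolvable_of_ker_le_range φ.ker.subtype φ.rangeRestrict (by
    rw [MonoidHom.ker_rangeRestrict, range_subtype])

end Cfsg.Agent.H35.PyrNine
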