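import Cfsg.Agent.H35.TPg
import Cfsg.Agent.H35.TPn
import Cfsg.Agent.S0222
import Cfsg.Agent.H14.SubField
import Cfsg.Agent.Uni.SU

/-!
# Groups whose class sizes have at most two prime divisors, part H: simple groups
-/

set_option autoImplicit false
set_option linter.style.haveILetI false
set_option linter.unusedSectionVars false

namespace Cfsg.Agent.H35.TP

open Cfsg.Agent.SC Cfsg.Agent.H35.CR Cfsg.Agent.H35.PS

universe u

variable {G : Type u} [Group G] [Finite G]

theorem Tri.sylow_eq (T : Tri G) {p : ℕ} [hp : Fact p.Prime] {U U' : Sylow p G} (hU : Ab (U : Subgroup G)) {x : G}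
    (hx : x ∈ (U : Subgroup G)) (hx' : x ∈ (U' : Subgroup G)) (hx1 : x ≠ 1) : U = U' := by
  have h1 : CC (U : Subgroup G) = CC (U' : Subgroup G) := by
    rw [← T.cz_eq U hU hx hx1, ← T.cz_eq U' (hU.conj U') hx' hx1]
  have h2 : (U' : Subgroup G) ≤ (U : Subgroup G) := by
    intro y hy
    apply (Pel.of_mem_sylow hy).mem_sylow
    apply CC_le_NN
    rw [h1, Subgroup.mem_centralizer_iff]
    intro z hz
    exact hU.conj U' z hz y hy
  exact Sylow.ext (U'.is_maximal' U.isPGroup' h2)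

theorem Tri.stronglyEmbedded [IsSimpleGroup G] (T : Tri G) (hna : ¬ ∀ a b : G, a * b = b * a) (S : Sylow 2 G) :
    Cfsg.IsStronglyEmbedded (NN (S : Subgroup G)) := by
  have hS := T.sylow_two_ab hna S
  have h2 := T.even hna
  have hSne : (S : Subgroup G) ≠ ⊥ := S.ne_bot_of_dvd_card h2
  refine ⟨?_, ?_, ?_⟩
  · intro h
    have hn : (S : Subgroup G).Normal := Subgroup.normalizer_eq_top_iff.1 h
    rcases hn.eq_bot_or_eq_top with h3 | h3
    · exact hSne h3
    · apply hna
      intro a b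
      exact hS a (by rw [h3]; trivial) b (by rw [h3]; trivial)
  · obtain ⟨z, hz, hz2, -⟩ := exists_center_order S.isPGroup' hSne
    have h3 : orderOf z ∣ Nat.card (S : Subgroup G) := Subgroup.orderOf_dvd_natCard _ hz
    rw [hz2] at h3
    exact (even_iff_two_dvd).2 (h3.trans (Subgroup.card_dvd_of_le Subgroup.le_normalizer))
  · intro g hg
    rw [← Nat.not_even_iff_odd, even_iff_two_dvd]
    intro h3
    obtain ⟨⟨t, ht⟩, htr⟩ := exists_prime_orderOf_dvd_card' 2 h3
    have ht2 : orderOf t = 2 := by rw [← htr, Subgroup.orderOf_mk]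
    have ht1 : t ≠ 1 := ne_one_of_prime Nat.prime_two ht2
    have htp : Pel 2 t := ⟨1, by rw [pow_one, ← ht2, pow_orderOf_eq_one]⟩
    obtain ⟨htH, t', ht'H, htt'⟩ := ht
    have h4 : t ∈ (S : Subgroup G) := htp.mem_sylow htH
    have h5 : g * t' * g⁻¹ = t := htt'
    have h6 : t' ∈ (S : Subgroup G) := by
      apply Pel.mem_sylow _ ht'H
      have : t' = g⁻¹ * t * g⁻¹⁻¹ := by rw [← h5]; group
      rw [this]
      exact pel_conj htp g⁻¹
    have h7 : t ∈ ((g • S : Sylow 2 G) : Subgroup G) := by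
      rw [Sylow.coe_subgroup_smul, Subgroup.mem_pointwise_smul_iff_inv_smul_mem]
      have : (MulAut.conj g)⁻¹ • t = t' := by
        rw [← map_inv, MulAut.smul_def, MulAut.conj_apply, ← h5]; group
      rw [this]; exact h6
    apply hg
    exact Sylow.smul_eq_iff_mem_normalizer.1 (T.sylow_eq hS h4 h7 ht1).symm

/-- **simple groups** -/
theorem simple_case [IsSimpleGroup G] (hna : ¬ ∀ a b : G, a * b = b * a) (hP : TwoPr G) :
    ∃ (F : Type) (_ : Field F) (_ : Fintype F), CharP F 2 ∧ (Fintype.card F = 4 ∨ Fintype.card F = 8) ∧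
      Nonempty (G ≃* Matrix.ProjectiveSpecialLinearGroup (Fin 2) F) := by
  have hns : ¬ Group.IsSolvable G := by
    intro h
    exact hna (IsSimpleGroup.comm_iff_isSolvable.2 h)
  have T := tri_of_twoPr hna hns hP
  have h1 := T.stronglyEmbedded hna (default : Sylow 2 G)
  have hna' : ∃ a b : G, a * b ≠ b * a := by
    by_contra h
    push Not at h
    exact hna h
  have h3 := T.h3
  rcases Cfsg.Agent.S0222.result hna' _ h1 with ⟨F, iF, fF, hc, h4, ⟨e⟩⟩ | hS | ⟨F, iF, fF, q, hF, hqe, hq4, ⟨e⟩⟩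
  · refine ⟨F, iF, fF, hc, ?_, ⟨e⟩⟩
    obtain ⟨n, -, hn⟩ := FiniteField.card F 2
    have he : Even (Fintype.card F) := by
      rw [hn]; exact (Nat.even_pow.2 ⟨even_two, n.ne_zero⟩)
    rw [Nat.card_congr e.toEquiv, Cfsg.Agent.H14.SubField.card_PSL2_even he, hn] at h3
    rw [hn] at h4 ⊢
    exact TPN.psl h4 h3
  · exfalso
    obtain ⟨-, m, hm, hcard⟩ := hS
    have h4 := TPN.suz hm
    rw [← hcard] at h4
    change 4 ≤ (Nat.card G).primeFactors.card at h4
    omega
  · exfalso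
    have h4 := Cfsg.Agent.Uni.card_PSU (n := 3) hF (by norm_num)
    rw [← Nat.card_congr e.toEquiv] at h4
    obtain ⟨p, hp⟩ := CharP.exists F
    obtain ⟨n, hpp, hn⟩ := FiniteField.card F p
    obtain ⟨m, hm⟩ := TPN.two_pow_of_even hpp (hF.symm.trans hn) hqe
    have h5 : Nat.gcd 3 (q + 1) * Nat.card G = q ^ 3 * ((q ^ 2 - 1) * (q ^ 3 + 1)) := by
      have h6 : ∏ i ∈ Finset.range 3, (if Even i then q ^ (i + 1) + 1 else q ^ (i + 1) - 1) =
          (q + 1) * ((q ^ 2 - 1) * (q ^ 3 + 1)) := by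
        simp [Finset.prod_range_succ]; ring
      rw [h6] at h4
      apply Nat.eq_of_mul_eq_mul_left (show 0 < q + 1 by omega)
      calc (q + 1) * (Nat.gcd 3 (q + 1) * Nat.card G) = Nat.gcd 3 (q + 1) * ((q + 1) * Nat.card G) := by ring
        _ = q ^ 3 * ((q + 1) * ((q ^ 2 - 1) * (q ^ 3 + 1))) := h4
        _ = _ := by ring
    have h6 := TPN.psu hm hq4 h5
    change 4 ≤ (Nat.card G).primeFactors.card at h6
    omega

end Cfsg.Agent.H35.TP
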